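import Groth.Agent.S3024
import Groth.Agent.Sga3.H789.FieldHull
import Mathlib.AlgebraicGeometry.Morphisms.FlatDescent

/-!
# Homomorphisms from quasi-compact group schemes over a field to affine group schemes

Over a field `k`, a homomorphism `u : G ⟶ H` with `G` quasi-compact and `H` affine factors as a
faithfully flat homomorphism followed by a closed immersion of group schemes. If `u` is a
monomorphism, it is a closed immersion.
-/

set_option autoImplicit false
universe u
open CategoryTheory CategoryTheory.Limits MonoidalCategory CartesianMonoidalCategory MonObj GrpObj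
  AlgebraicGeometry

namespace K207.AffTarget

theorem injective_appTop_of_ker_eq_bot {X Y : Scheme.{u}} [IsAffine Y] (f : X ⟶ Y) [QuasiCompact f]
    (h : f.ker = ⊥) : Function.Injective f.appTop.hom := by
  rw [RingHom.injective_iff_ker_eq_bot]
  have h1 := f.ker_apply ⟨⊤, isAffineOpen_top Y⟩
  rw [h] at h1
  exact h1.symm

/-- The factorisation of `u`: faithfully flat followed by a closed immersion. -/
theorem exists_factorisation (k : Type u) [Field k] (G H : Over (Spec (CommRingCat.of k))) [GrpObj G]
    [GrpObj H] [QuasiCompact G.hom] [IsAffine H.left] (u : G ⟶ H) [IsMonHom u] :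
    ∃ (C : Over (Spec (CommRingCat.of k))) (_ : GrpObj C) (p : G ⟶ C) (i : C ⟶ H),
      IsMonHom p ∧ IsMonHom i ∧ p ≫ i = u ∧ Surjective p.left ∧ Flat p.left ∧
      QuasiCompact p.left ∧ IsClosedImmersion i.left ∧ IsAffine C.left ∧
      Function.Injective p.left.appTop.hom := by
  have h1 : QuasiCompact (u.left ≫ H.hom) := by rw [Over.w]; infer_instance
  have h2 : QuasiCompact u.left := QuasiCompact.of_comp u.left H.hom
  obtain ⟨C, gC, i, p, hi, hp, hpi, hic, hker, hpq, hps⟩ := Groth.Agent.S3024.result k G H u
  have hC : IsAffine C.left := isAffine_of_isAffineHom i.left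
  have hinj := injective_appTop_of_ker_eq_bot p.left hker
  obtain ⟨hfl, -⟩ := Groth.Agent.Sga3.H789.FieldHull.flat_and_surjective k G C p hinj
  exact ⟨C, gC, p, i, hp, hi, hpi, hps, hfl, hpq, hic, hC, hinj⟩

/-- A faithfully flat quasi-compact monomorphism is an isomorphism. -/
theorem isIso_of_mono {X Y : Scheme.{u}} (f : X ⟶ Y) [Flat f] [Surjective f] [QuasiCompact f]
    [Mono f] : IsIso f := by
  have h : IsIso (pullback.snd f f) := inferInstance
  exact MorphismProperty.of_pullback_snd_of_descendsAlong (P := MorphismProperty.isomorphisms _)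
    (Q := @Surjective ⊓ @Flat ⊓ @QuasiCompact) (f := f) (g := f)
    ⟨⟨inferInstance, inferInstance⟩, inferInstance⟩ h

theorem isClosedImmersion_of_mono (k : Type u) [Field k] (G H : Over (Spec (CommRingCat.of k)))
    [GrpObj G] [GrpObj H] [IsAffine H.left] (u : G ⟶ H) [IsMonHom u] [Mono u] [QuasiCompact u.left] :
    IsClosedImmersion u.left := by
  have h1 : QuasiCompact G.hom := by rw [← Over.w u]; infer_instance
  obtain ⟨C, gC, p, i, hp, hi, hpi, hps, hfl, hpq, hic, hC, hinj⟩ := exists_factorisation k G H u
  have hm : Mono p := by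
    have : Mono (p ≫ i) := by rw [hpi]; infer_instance
    exact mono_of_mono p i
  have hm' : Mono p.left := inferInstanceAs (Mono ((Over.forget _).map p))
  have : IsIso p.left := isIso_of_mono p.left
  have h3 : u.left = p.left ≫ i.left := by rw [← hpi]; rfl
  rw [h3]
  infer_instance

end K207.AffTarget
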