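import Groth.Agent.S4108
import Groth.Agent.S0113
import Groth.Agent.S2492
import Groth.Agent.Sga3.H789.HullIso
import Mathlib.AlgebraicGeometry.Noetherian
import Mathlib.AlgebraicGeometry.Morphisms.Etale
import Mathlib.RingTheory.RingHom.FaithfullyFlat

/-!
# The affine hull of a flat group scheme of finite type over a Dedekind domain

* `mono_of_generic`: a flat separated morphism which is a monomorphism over a schematically dense
  `T ⟶ S` is a monomorphism.
* `etale_of_generic`: a flat morphism locally of finite presentation to an affine scheme, which is a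
  monomorphism over a schematically dense `T ⟶ S`, is étale (a local isomorphism).
* `isNoetherianRing_Γ`: if `X` is of finite type over a noetherian ring and `X ⟶ Spec Γ(X)` is
  faithfully flat, then `Γ(X)` is noetherian, and of finite type over the base.
-/

set_option autoImplicit false
universe u
open CategoryTheory AlgebraicGeometry Limits

namespace K207.HullEtale

/-- A flat separated morphism which is a monomorphism over a schematically dense `T ⟶ S` is a
monomorphism. -/
theorem mono_of_generic {X S T : Scheme.{u}} (f : X ⟶ S) [Flat f] [IsSeparated f] (j : T ⟶ S)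
    [QuasiCompact j] [IsSchemeTheoreticallyDominant j] (hq : Mono (pullback.snd f j)) : Mono f := by
  let Z := pullback f f
  let p1 : Z ⟶ X := pullback.fst f f
  let p2 : Z ⟶ X := pullback.snd f f
  have hZ : Flat (p1 ≫ f) := inferInstance
  let W := pullback (p1 ≫ f) j
  let i : W ⟶ Z := pullback.fst (p1 ≫ f) j
  have hi : IsSchemeTheoreticallyDominant i := inferInstance
  have hp2 : p2 ≫ f = p1 ≫ f := pullback.condition.symm
  have hagree : i ≫ p1 = i ≫ p2 := by
    let a1 : W ⟶ pullback f j := pullback.lift (i ≫ p1) (pullback.snd _ _) (by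
      rw [Category.assoc]; exact pullback.condition)
    let a2 : W ⟶ pullback f j := pullback.lift (i ≫ p2) (pullback.snd _ _) (by
      rw [Category.assoc, hp2]; exact pullback.condition)
    have h1 : a1 = a2 := by
      rw [← cancel_mono (pullback.snd f j)]
      simp only [pullback.lift_snd, a1, a2]
    have h2 : a1 ≫ pullback.fst f j = a2 ≫ pullback.fst f j := by rw [h1]
    rwa [pullback.lift_fst, pullback.lift_fst] at h2
  let Δ := pullback.diagonal f
  have hΔ : i = (i ≫ p1) ≫ Δ := by
    apply pullback.hom_ext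
    · simp [Δ, p1]
    · simp only [Δ, Category.assoc, pullback.diagonal_snd, Category.comp_id]
      exact hagree.symm
  have hker : Δ.ker = ⊥ := by
    rw [← le_bot_iff, ← i.ker_eq_bot]
    conv_rhs => rw [hΔ]
    exact Scheme.Hom.le_ker_comp _ _
  have hiso : IsIso Δ := IsClosedImmersion.isIso_iff_ker_eq_bot.2 hker
  exact (pullback.isIso_diagonal_iff f).1 hiso

/-- A flat morphism locally of finite presentation to an affine scheme which is a monomorphism over a
schematically dense `T ⟶ S` is étale (a local isomorphism). -/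
theorem etale_of_generic {N S T : Scheme.{u}} [IsAffine S] (p : N ⟶ S) [Flat p]
    [LocallyOfFinitePresentation p] (j : T ⟶ S) [QuasiCompact j] [IsSchemeTheoreticallyDominant j]
    (hq : Mono (pullback.snd p j)) : Etale p := by
  rw [IsZariskiLocalAtSource.iff_of_openCover (P := @Etale) N.affineCover]
  intro i
  have h1 : IsAffine (N.affineCover.X i) := inferInstance
  have h2 : IsOpenImmersion (N.affineCover.f i) := inferInstance
  have h3 : IsSeparated (N.affineCover.f i ≫ p) := inferInstance
  have h4 : Mono (pullback.snd (N.affineCover.f i ≫ p) j) := by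
    have e : pullback.map (N.affineCover.f i ≫ p) j p j (N.affineCover.f i) (𝟙 _) (𝟙 _)
        (by simp) (by simp) ≫ pullback.snd p j = pullback.snd (N.affineCover.f i ≫ p) j := by
      rw [pullback.map, pullback.lift_snd, Category.comp_id]
    rw [← e]
    have : IsOpenImmersion (pullback.map (N.affineCover.f i ≫ p) j p j (N.affineCover.f i) (𝟙 _) (𝟙 _)
        (by simp) (by simp)) := inferInstance
    exact mono_comp _ _
  have h5 := mono_of_generic (N.affineCover.f i ≫ p) j h4
  have h6 : IsOpenImmersion (N.affineCover.f i ≫ p) := IsOpenImmersion.of_flat_of_mono _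
  infer_instance

/-- The kernel of a homomorphism which becomes a monomorphism after base change. -/
theorem mono_ker {G H S S' T : Scheme.{u}} (ρ : G ⟶ H) (f : G ⟶ S) (fH : H ⟶ S) (hf : ρ ≫ fH = f)
    (e : S' ⟶ H) (w : S' ⟶ S) (he : e ≫ fH = w) [Mono w] (j : T ⟶ S)
    (hq : Mono (pullback.map f j fH j ρ (𝟙 T) (𝟙 S) (by rw [hf, Category.comp_id])
      (by rw [Category.comp_id, Category.id_comp]))) :
    Mono (pullback.snd (pullback.snd ρ e ≫ w) j) := by
  refine ⟨fun {W} a b hab => ?_⟩
  have h0 : a ≫ pullback.fst (pullback.snd ρ e ≫ w) j ≫ pullback.snd ρ e =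
      b ≫ pullback.fst (pullback.snd ρ e ≫ w) j ≫ pullback.snd ρ e := by
    rw [← cancel_mono w]
    simp only [Category.assoc]
    rw [pullback.condition, reassoc_of% hab]
  have hw : ∀ c : W ⟶ pullback (pullback.snd ρ e ≫ w) j,
      (c ≫ pullback.fst (pullback.snd ρ e ≫ w) j ≫ pullback.fst ρ e) ≫ f =
      (c ≫ pullback.snd (pullback.snd ρ e ≫ w) j) ≫ j := by
    intro c
    rw [← hf]
    simp only [Category.assoc]
    rw [pullback.condition_assoc, he, pullback.condition]
  let a1 : W ⟶ pullback f j := pullback.lift _ _ (hw a)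
  let b1 : W ⟶ pullback f j := pullback.lift _ _ (hw b)
  have h1 : a1 = b1 := by
    rw [← cancel_mono (pullback.map f j fH j ρ (𝟙 T) (𝟙 S) _ _)]
    apply pullback.hom_ext
    · simp only [Category.assoc, pullback.lift_fst, pullback.map, a1, b1, pullback.lift_fst_assoc]
      rw [pullback.condition, reassoc_of% h0]
    · simp only [Category.assoc, pullback.lift_snd, pullback.map, a1, b1, pullback.lift_snd_assoc, hab]
  have h2 : a1 ≫ pullback.fst f j = b1 ≫ pullback.fst f j := by rw [h1]
  simp only [a1, b1, pullback.lift_fst] at h2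
  apply pullback.hom_ext
  · apply pullback.hom_ext
    · simpa using h2
    · simpa using h0
  · exact hab

section noetherian

/-- If `X` is of finite type over a noetherian ring `R` and `X ⟶ Spec Γ(X)` is flat and surjective,
then `Γ(X)` is noetherian and of finite type over `R`. -/
theorem noetherian_finiteType_Γ {R : Type u} [CommRing R] [IsNoetherianRing R] {X : Scheme.{u}}
    (f : X ⟶ Spec (CommRingCat.of R)) [QuasiCompact f] [LocallyOfFiniteType f]
    (h1 : Surjective X.toSpecΓ) (h2 : Flat X.toSpecΓ) :
    IsNoetherianRing Γ(X, ⊤) ∧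
      LocallyOfFiniteType (Spec.map f.appTop ≫ (Spec (CommRingCat.of R)).isoSpec.inv) := by
  have : CompactSpace X := QuasiCompact.compactSpace_of_compactSpace f
  obtain ⟨T, p, hps, hpf, hT⟩ :=
    Scheme.exists_hom_isAffine_of_isZariskiLocalAtSource (P := @Etale) X
  have : Etale p := hpf
  have : Surjective p := hps
  -- the ring map
  let φ : Γ(X, ⊤) ⟶ Γ(T, ⊤) := p.appTop
  have e1 : T.isoSpec.inv ≫ p ≫ X.toSpecΓ = Spec.map φ := by
    rw [Iso.inv_comp_eq]
    exact (Scheme.toSpecΓ_naturality p)
  have h3 : Flat (Spec.map φ) := by rw [← e1]; infer_instance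
  have h4 : Surjective (Spec.map φ) := by rw [← e1]; infer_instance
  have h5 : φ.hom.FaithfullyFlat := by
    rw [RingHom.FaithfullyFlat.iff_flat_and_comap_surjective]
    exact ⟨Flat.SpecMap_iff.1 h3, h4.surj⟩
  -- `R → Γ(T)`
  let a : CommRingCat.of R ⟶ Γ(X, ⊤) := (Scheme.ΓSpecIso (CommRingCat.of R)).inv ≫ f.appTop
  have e2 : T.isoSpec.inv ≫ p ≫ f = Spec.map (a ≫ φ) := by
    rw [Iso.inv_comp_eq]
    simp only [a, φ, Category.assoc, ← Scheme.Hom.comp_appTop]
    rw [Spec.map_comp, Scheme.isoSpec_hom, ← Scheme.toSpecΓ_naturality_assoc]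
    simp
  have h6 : LocallyOfFiniteType (Spec.map (a ≫ φ)) := by
    rw [← e2]
    have : LocallyOfFiniteType p := inferInstance
    infer_instance
  have h7 : (a ≫ φ).hom.FiniteType := by
    rwa [HasRingHomProperty.Spec_iff (P := @LocallyOfFiniteType)] at h6
  algebraize [a.hom, φ.hom, (a ≫ φ).hom]
  have h8 : Algebra.FiniteType R Γ(T, ⊤) := h7
  have h9 : IsNoetherianRing Γ(T, ⊤) := Algebra.FiniteType.isNoetherianRing R _
  have h10 : IsNoetherianRing Γ(X, ⊤) :=
    Groth.Agent.S2492.isNoetherianRing_of_faithfullyFlat φ.hom h5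
  refine ⟨h10, ?_⟩
  have h11 : IsScalarTower R Γ(X, ⊤) Γ(T, ⊤) := IsScalarTower.of_algebraMap_eq fun x => rfl
  have h12 : Algebra.FiniteType Γ(X, ⊤) Γ(T, ⊤) := Algebra.FiniteType.of_restrictScalars_finiteType R _ _
  have h13 : Algebra.FinitePresentation Γ(X, ⊤) Γ(T, ⊤) := Algebra.FinitePresentation.of_finiteType.1 h12
  have h14 : Module.FaithfullyFlat Γ(X, ⊤) Γ(T, ⊤) := h5
  have h15 : Algebra.FiniteType R Γ(X, ⊤) :=
    Groth.Agent.S0113.result (R := R) (A := Γ(X, ⊤)) (B := Γ(T, ⊤))
  have e3 : Spec.map f.appTop ≫ (Spec (CommRingCat.of R)).isoSpec.inv = Spec.map a := by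
    rw [Iso.comp_inv_eq]
    simp [a, Scheme.isoSpec_hom]
  rw [e3, HasRingHomProperty.Spec_iff (P := @LocallyOfFiniteType)]
  exact h15

end noetherian

end K207.HullEtale
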