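import Groth.Agent.SGA3.K207.UnibranchOpen
import Groth.Agent.Ega43.UnivOpenAt
import Mathlib.RingTheory.ZariskisMainTheorem
import Mathlib.AlgebraicGeometry.Morphisms.FiniteType

/-!
# Quasi-finite dominant morphisms are open over unibranch points
-/

set_option autoImplicit false

universe u v

open CAlg2 AlgebraicGeometry CategoryTheory

namespace K207.UnibranchZMT

open Groth.Agent.Ega43.UnivOpenAt UnibranchOpen

theorem isOpenAt_of_comp {α β γ : Type*} [TopologicalSpace α] [TopologicalSpace β]
    [TopologicalSpace γ] {j : α → β} {f : β → γ} {x : α} (hj : Continuous j)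
    (h : EGA43.IsOpenAt (f ∘ j) x) : EGA43.IsOpenAt f (j x) := by
  intro U hU
  refine Filter.mem_of_superset (h _ (hj.continuousAt hU)) ?_
  rw [Set.image_comp]
  exact Set.image_mono (Set.image_preimage_subset _ _)

theorem isOpenAt_of_isOpenMap {α β : Type*} [TopologicalSpace α] [TopologicalSpace β] {f : α → β}
    (h : IsOpenMap f) (x : α) : EGA43.IsOpenAt f x := fun _ hU => h.image_mem_nhds hU

/-- `Spec S → Spec R` is open at the points of `D(r)` if `R_r → S_r` is bijective. -/
theorem isOpenAt_of_bijective_awayMap {R S : Type u} [CommRing R] [CommRing S] (f : R →+* S) (r : R)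
    (h : Function.Bijective (Localization.awayMap f r)) (q : PrimeSpectrum S) (hq : f r ∉ q.asIdeal) :
    EGA43.IsOpenAt (PrimeSpectrum.comap f) q := by
  obtain ⟨q', hq'⟩ : q ∈ Set.range (PrimeSpectrum.comap (algebraMap S (Localization.Away (f r)))) := by
    rw [PrimeSpectrum.localization_away_comap_range _ (f r)]
    exact hq
  rw [← hq']
  refine isOpenAt_of_comp (PrimeSpectrum.continuous_comap _) (isOpenAt_of_isOpenMap ?_ q')
  have h1 : PrimeSpectrum.comap f ∘ PrimeSpectrum.comap (algebraMap S (Localization.Away (f r))) =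
      PrimeSpectrum.comap (algebraMap R (Localization.Away r)) ∘
        PrimeSpectrum.comap (Localization.awayMap f r) := by
    rw [← PrimeSpectrum.comap_comp, ← PrimeSpectrum.comap_comp]
    congr 1
    exact (IsLocalization.map_comp _).symm
  rw [h1]
  refine (PrimeSpectrum.localization_away_isOpenEmbedding _ r).isOpenMap.comp ?_
  exact (PrimeSpectrum.homeomorphOfRingEquiv (RingEquiv.ofBijective _ h)).symm.isOpenMap

theorem isOpenAt_of_quasiFiniteAt {A B : Type u} [CommRing A] [CommRing B] [IsDomain B] [Algebra A B]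
    [Algebra.FiniteType A B] (hker : RingHom.ker (algebraMap A B) ≤ nilradical A)
    (q : PrimeSpectrum B) (hq : Algebra.QuasiFiniteAt A q.asIdeal)
    (O : Type u) [CommRing O] [IsLocalRing O] [Algebra A O]
    [IsLocalization.AtPrime O (q.asIdeal.comap (algebraMap A B))] (hO : IsUnibranch O) :
    EGA43.IsOpenAt (PrimeSpectrum.comap (algebraMap A B)) q := by
  obtain ⟨S', hS', r, hr, hbij⟩ :=
    Algebra.QuasiFiniteAt.exists_fg_and_exists_notMem_and_awayMap_bijective (R := A) q.asIdeal
  have hfin : Module.Finite A S' := Module.Finite.iff_fg.2 hS'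
  have h1 : EGA43.IsOpenAt (PrimeSpectrum.comap S'.val.toRingHom) q :=
    isOpenAt_of_bijective_awayMap _ r hbij q hr
  have hker' : RingHom.ker (algebraMap A S') ≤ nilradical A := by
    intro a ha
    refine hker ?_
    exact congrArg Subtype.val ha
  have h2 : EGA43.IsOpenAt (PrimeSpectrum.comap (algebraMap A S'))
      (PrimeSpectrum.comap S'.val.toRingHom q) := by
    have : IsLocalization.AtPrime O
      ((PrimeSpectrum.comap S'.val.toRingHom q).asIdeal.comap (algebraMap A S')) :=
      inferInstanceAs (IsLocalization.AtPrime O (q.asIdeal.comap (algebraMap A B)))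
    exact isOpenAt_of_isIntegral hker' _ O hO
  exact isOpenAt_comp h1 h2

/-- A dominant morphism of irreducible schemes locally of finite type is open at a point isolated in
its fibre whose image is a unibranch point. -/
theorem isOpenAt_of_isolated {X Y : Scheme.{u}} (f : X ⟶ Y) [IrreducibleSpace X]
    [LocallyOfFiniteType f] (hf : DenseRange f) (x : X)
    (hx : (nhdsWithin x (f ⁻¹' {f x})) = pure x) (hO : IsUnibranch (Y.presheaf.stalk (f x))) :
    EGA43.IsOpenAt f x := by
  obtain ⟨V, hV, hxV, -⟩ := exists_isAffineOpen_mem_and_subset (U := ⊤) (x := f x) trivial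
  obtain ⟨U, hU, hxU, hUV⟩ := exists_isAffineOpen_mem_and_subset (U := f ⁻¹ᵁ V) (x := x) hxV
  let φ := f.appLE V U hUV
  have hsq : Spec.map φ ≫ hV.fromSpec = hU.fromSpec ≫ f := hV.SpecMap_appLE_fromSpec f hU hUV
  let q : PrimeSpectrum Γ(X, U) := hU.primeIdealOf ⟨x, hxU⟩
  have hq : hU.fromSpec q = x := hU.fromSpec_primeIdealOf ⟨x, hxU⟩
  have hsq' : ∀ z : PrimeSpectrum Γ(X, U), hV.fromSpec (PrimeSpectrum.comap φ.hom z) = f (hU.fromSpec z) :=
    fun z => congr(($hsq) z)
  -- reduction to the affine case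
  suffices H : EGA43.IsOpenAt (PrimeSpectrum.comap φ.hom) q by
    rw [← hq]
    refine isOpenAt_of_comp (j := hU.fromSpec) hU.fromSpec.continuous ?_
    have h1 := isOpenAt_comp H (isOpenAt_of_isOpenMap hV.fromSpec.isOpenEmbedding.isOpenMap _)
    have h2 : (f : X → Y) ∘ hU.fromSpec = hV.fromSpec ∘ PrimeSpectrum.comap φ.hom := by
      ext z
      exact (hsq' z).symm
    rw [h2]
    exact h1
  -- pass to the reduced ring
  let A := Γ(Y, V)
  let B := Γ(X, U)
  let Br := red B
  have hUne : Nonempty (PrimeSpectrum B) := ⟨q⟩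
  have hirr : IrreducibleSpace (PrimeSpectrum B) := by
    have : Nonempty U := ⟨⟨x, hxU⟩⟩
    have h1 : IrreducibleSpace U := (IrreducibleSpace.isIrreducible_univ X).isPreirreducible.open_subset U.2 (Set.subset_univ _) |> fun h => by
      have h2 : IsIrreducible (U : Set X) := ⟨⟨x, hxU⟩, h⟩
      exact Subtype.irreducibleSpace h2
    let e : U ≃ₜ PrimeSpectrum B := (Scheme.homeoOfIso hU.isoSpec)
    exact e.symm.isOpenEmbedding.irreducibleSpace
  have hprime : (nilradical B).IsPrime := PrimeSpectrum.irreducibleSpace_iff_isPrime_nilradical.1 hirr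
  have hdom : IsDomain Br := (Ideal.Quotient.isDomain_iff_prime _).mpr hprime
  algebraize [φ.hom]
  have hft : Algebra.FiniteType A B := f.finiteType_appLE hV hU hUV
  have hft' : Algebra.FiniteType A Br := Algebra.FiniteType.trans hft inferInstance
  have hbij : Function.Bijective (PrimeSpectrum.comap (Ideal.Quotient.mk (nilradical B))) :=
    PrimeSpectrum.comap_quotientMk_bijective_of_le_nilradical le_rfl
  obtain ⟨q', hq'⟩ := hbij.2 q
  rw [← hq']
  refine isOpenAt_of_comp (PrimeSpectrum.continuous_comap _) ?_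
  have hcomp : PrimeSpectrum.comap φ.hom ∘ PrimeSpectrum.comap (Ideal.Quotient.mk (nilradical B)) =
      PrimeSpectrum.comap (algebraMap A Br) := by
    rw [← PrimeSpectrum.comap_comp]
    rfl
  rw [hcomp]
  have hcomp' : ∀ z : PrimeSpectrum Br, hV.fromSpec (PrimeSpectrum.comap (algebraMap A Br) z) =
      f (hU.fromSpec (PrimeSpectrum.comap (Ideal.Quotient.mk (nilradical B)) z)) := by
    intro z
    rw [← hcomp]
    exact hsq' _
  -- the kernel
  have hker : RingHom.ker (algebraMap A Br) ≤ nilradical A := by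
    rw [← PrimeSpectrum.denseRange_comap_iff_ker_le_nilRadical]
    intro y
    rw [mem_closure_iff]
    intro D hD hyD
    have hD' : IsOpen (hV.fromSpec '' D) := hV.fromSpec.isOpenEmbedding.isOpenMap _ hD
    obtain ⟨z₀, hz₀⟩ : ∃ z₀ : X, f z₀ ∈ hV.fromSpec '' D := by
      obtain ⟨_, h1, z₀, rfl⟩ := mem_closure_iff.1 (hf (hV.fromSpec y)) _ hD' ⟨y, hyD, rfl⟩
      exact ⟨z₀, h1⟩
    have hD'' : IsOpen (f ⁻¹' (hV.fromSpec '' D)) := hD'.preimage f.continuous
    obtain ⟨z, hzU, hzD⟩ := nonempty_preirreducible_inter U.2 hD'' ⟨x, hxU⟩ ⟨z₀, hz₀⟩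
    obtain ⟨w, rfl⟩ : z ∈ Set.range hU.fromSpec := by
      rw [hU.range_fromSpec]
      exact hzU
    obtain ⟨w', rfl⟩ := hbij.2 w
    obtain ⟨d, hd, hd'⟩ := hzD
    refine ⟨PrimeSpectrum.comap (algebraMap A Br) w', ?_, ⟨w', rfl⟩⟩
    have h1 : hV.fromSpec d = hV.fromSpec (PrimeSpectrum.comap (algebraMap A Br) w') := by
      rw [hcomp', hd']
    rw [← hV.fromSpec.isOpenEmbedding.injective h1]
    exact hd
  -- quasi-finiteness
  have hqf : Algebra.QuasiFiniteAt A q'.asIdeal := by
    refine Algebra.QuasiFiniteAt.of_isOpen_singleton_fiber q' ?_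
    have h1 : {x} ∈ nhdsWithin x (f ⁻¹' {f x}) := by
      rw [hx]
      exact rfl
    rw [mem_nhdsWithin] at h1
    obtain ⟨W, hW, hxW, hWx⟩ := h1
    let g : PrimeSpectrum Br → X := fun z =>
      hU.fromSpec (PrimeSpectrum.comap (Ideal.Quotient.mk (nilradical B)) z)
    have hg : Continuous g := hU.fromSpec.continuous.comp (PrimeSpectrum.continuous_comap _)
    have hginj : Function.Injective g := hU.fromSpec.isOpenEmbedding.injective.comp hbij.1
    have hgq : g q' = x := by
      change hU.fromSpec (PrimeSpectrum.comap (Ideal.Quotient.mk (nilradical B)) q') = x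
      rw [hq', hq]
    have h2 : ({⟨q', rfl⟩} : Set ↑(PrimeSpectrum.comap (algebraMap A Br) ⁻¹'
        {PrimeSpectrum.comap (algebraMap A Br) q'})) = Subtype.val ⁻¹' (g ⁻¹' W) := by
      ext ⟨z, hz⟩
      simp only [Set.mem_singleton_iff, Set.mem_preimage]
      constructor
      · intro h
        rw [show z = q' from congrArg Subtype.val h, hgq]
        exact hxW
      · intro hzW
        apply Subtype.ext
        apply hginj
        change g z = g q'
        rw [hgq]
        have h3 : g z ∈ f ⁻¹' {f x} := by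
          have h4 : PrimeSpectrum.comap (algebraMap A Br) z =
            PrimeSpectrum.comap (algebraMap A Br) q' := hz
          have h5 := congrArg hV.fromSpec h4
          rw [hcomp', hcomp', hq', hq] at h5
          exact h5
        exact hWx ⟨hzW, h3⟩
    rw [h2]
    exact (hW.preimage hg).preimage continuous_subtype_val
  -- the local ring
  letI : Algebra A (Y.presheaf.stalk (f x)) := TopCat.Presheaf.algebra_section_stalk Y.presheaf ⟨f x, hxV⟩
  have hloc : IsLocalization.AtPrime (Y.presheaf.stalk (f x))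
      (q'.asIdeal.comap (algebraMap A Br)) := by
    have h1 : q'.asIdeal.comap (algebraMap A Br) = (hV.primeIdealOf ⟨f x, hxV⟩).asIdeal := by
      have h2 : PrimeSpectrum.comap (algebraMap A Br) q' = hV.primeIdealOf ⟨f x, hxV⟩ := by
        apply hV.fromSpec.isOpenEmbedding.injective
        rw [hcomp', hq', hq]
        exact (hV.fromSpec_primeIdealOf ⟨f x, hxV⟩).symm
      exact congrArg PrimeSpectrum.asIdeal h2
    have h3 := hV.isLocalization_stalk ⟨f x, hxV⟩
    simp only [h1]
    exact h3
  exact isOpenAt_of_quasiFiniteAt hker q' hqf (Y.presheaf.stalk (f x)) hO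

end K207.UnibranchZMT
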