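import Groth.Agent.S2620
import Groth.Agent.S2698
import Groth.Agent.Ega4B.J2Ess
import Groth.Agent.Ega4A.RegCM
import Groth.Agent.LoccohA.EquidimS2
import Groth.Agent.Ega4B.DepthBasic
import Groth.Agent.Localalg.Depth2
import Groth.Agent.Grpsch.CMFibre
import Mathlib.AlgebraicGeometry.Morphisms.FiniteType
import Mathlib.RingTheory.Jacobson.Ring
import Mathlib.RingTheory.Spectrum.Prime.Jacobson

/-!
# Cohen–Macaulay closed points of schemes locally of finite type over an artinian ring
-/

set_option autoImplicit false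

universe u

open CategoryTheory AlgebraicGeometry

namespace K207.CMArtin

open Groth.Agent

theorem isCohenMacaulayLocalRing_of_le {B : Type u} [CommRing B] [IsNoetherianRing B] (p : Ideal B)
    [p.IsPrime]
    (h : Module.supportDim (Localization.AtPrime p) (LocalizedModule p.primeCompl B) ≤
      ((LocCoh.depth (Localization.AtPrime p) (LocalizedModule p.primeCompl B) : ℕ∞) :
        WithBot ℕ∞)) :
    LocCoh.IsCohenMacaulayLocalRing (Localization.AtPrime p) := by
  have h1 : Module.supportDim (Localization.AtPrime p) (LocalizedModule p.primeCompl B) =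
      Module.supportDim (Localization.AtPrime p) (Localization.AtPrime p) :=
    Module.supportDim_eq_of_equiv (LoccohA.EquidimS2.localizedModuleSelfEquiv p.primeCompl)
  have h2 : LocCoh.depth (Localization.AtPrime p) (LocalizedModule p.primeCompl B) =
      LocCoh.depth (Localization.AtPrime p) (Localization.AtPrime p) :=
    Groth.Agent.Ega4B.DepthBasic.depth_congr
      (LoccohA.EquidimS2.localizedModuleSelfEquiv p.primeCompl)
  rw [h1, h2] at h
  have hN : IsNoetherianRing (Localization.AtPrime p) :=
    IsLocalization.isNoetherianRing p.primeCompl _ inferInstance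
  exact { supportDim_eq_depth := le_antisymm h (Localalg.Depth2.depth_le_supportDim _) }

/-- A nonzero algebra of finite type over an artinian ring has a maximal ideal at which it is
Cohen–Macaulay. -/
theorem exists_maximal_isCohenMacaulay (A : Type u) [CommRing A] [IsArtinianRing A] (B : Type u)
    [CommRing B] [Algebra A B] [Algebra.FiniteType A B] [Nontrivial B] :
    ∃ (n : Ideal B) (_ : n.IsMaximal),
      LocCoh.IsCohenMacaulayLocalRing (Localization.AtPrime n) := by
  have hB : IsNoetherianRing B := Algebra.FiniteType.isNoetherianRing A B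
  have hJ2 : EGA4.IsJ2 A := by
    refine Groth.Agent.S2620.result A ?_ ?_
    · have : Finite (MaximalSpectrum A) := inferInstance
      refine Set.Finite.subset (Set.finite_range (fun m : MaximalSpectrum A => m.asIdeal)) ?_
      intro I hI
      exact ⟨⟨I, hI⟩, rfl⟩
    · have h0 : Ring.KrullDimLE 0 A := inferInstance
      exact (Ring.krullDimLE_iff.1 h0).trans (by exact_mod_cast zero_le_one)
  have hCMU : ∀ (p : Ideal B) [p.IsPrime], ∃ U : Set (PrimeSpectrum (B ⧸ p)), IsOpen U ∧ U.Nonempty ∧
      ∀ q ∈ U, LocCoh.IsCohenMacaulayLocalRing (Localization.AtPrime q.asIdeal) := by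
    intro p _
    have : Algebra.FiniteType A (B ⧸ p) := Algebra.FiniteType.trans ‹Algebra.FiniteType A B› inferInstance
    obtain ⟨f, hf, h⟩ := Ega4B.J2Ess.exists_ne_zero_regular hJ2 (B ⧸ p)
    refine ⟨PrimeSpectrum.basicOpen f, (PrimeSpectrum.basicOpen f).2,
      ⟨⟨⊥, Ideal.isPrime_bot⟩, fun h0 => hf h0⟩, ?_⟩
    intro q hq
    have := h q.asIdeal hq
    exact Ega4A.RegCM.isCohenMacaulayLocalRing_of_isRegularLocalRing _
  have hW := (Groth.Agent.S2698.result B hCMU B 0).1
  have hne : ({p : PrimeSpectrum B | Module.supportDim (Localization.AtPrime p.asIdeal)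
      (LocalizedModule p.asIdeal.primeCompl B) ≤ ((LocCoh.depth (Localization.AtPrime p.asIdeal)
      (LocalizedModule p.asIdeal.primeCompl B) : ℕ∞) : WithBot ℕ∞) + (0 : ℕ)}).Nonempty := by
    obtain ⟨m, hm⟩ := Ideal.exists_maximal B
    obtain ⟨p, hp, -⟩ := Ideal.exists_minimalPrimes_le (bot_le (a := m))
    have hpp := hp.1.1
    refine ⟨⟨p, hpp⟩, ?_⟩
    have h1 : ringKrullDim (Localization.AtPrime p) = 0 := by
      rw [IsLocalization.AtPrime.ringKrullDim_eq_height p, Ideal.height_eq_zero_iff.2 hp]
      rfl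
    refine (Module.supportDim_le_ringKrullDim _ _).trans ?_
    change ringKrullDim (Localization.AtPrime p) ≤ _
    rw [h1]
    have h2 : (0 : WithBot ℕ∞) ≤ ((LocCoh.depth (Localization.AtPrime p)
      (LocalizedModule p.primeCompl B) : ℕ∞) : WithBot ℕ∞) := WithBot.coe_le_coe.2 zero_le
    exact h2.trans (by simp)
  have hJac : IsJacobsonRing B := isJacobsonRing_of_finiteType (A := A)
  obtain ⟨n, hn, hnc⟩ := PrimeSpectrum.exists_isClosed_singleton_of_isJacobsonRing _ hW hne
  refine ⟨n.asIdeal, (PrimeSpectrum.isClosed_singleton_iff_isMaximal n).1 hnc, ?_⟩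
  refine isCohenMacaulayLocalRing_of_le n.asIdeal ?_
  have h3 : Module.supportDim (Localization.AtPrime n.asIdeal)
      (LocalizedModule n.asIdeal.primeCompl B) ≤ ((LocCoh.depth (Localization.AtPrime n.asIdeal)
      (LocalizedModule n.asIdeal.primeCompl B) : ℕ∞) : WithBot ℕ∞) + (0 : ℕ) := hn
  simpa using h3

/-- A nonempty scheme locally of finite type over an artinian ring has a closed point whose local
ring is Cohen–Macaulay. -/
theorem exists_closedPoint_isCohenMacaulay {A : Type u} [CommRing A] [IsArtinianRing A]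
    {X : Scheme.{u}} (f : X ⟶ Spec (.of A)) [LocallyOfFiniteType f] [Nonempty X] :
    ∃ x : X, IsClosed ({x} : Set X) ∧
      LocCoh.IsCohenMacaulayLocalRing (X.presheaf.stalk x) := by
  obtain ⟨x0⟩ := ‹Nonempty X›
  have : JacobsonSpace (Spec (.of A)) := inferInstanceAs (JacobsonSpace (PrimeSpectrum A))
  have : JacobsonSpace X := LocallyOfFiniteType.jacobsonSpace f
  obtain ⟨V, hV, hxV, -⟩ := exists_isAffineOpen_mem_and_subset (U := ⊤) (x := x0) trivial
  let φ : CommRingCat.of A ⟶ Γ(X, V) := (Scheme.ΓSpecIso (.of A)).inv ≫ f.appLE ⊤ V le_top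
  have hφ : φ.hom.FiniteType := by
    have h1 := f.finiteType_appLE (isAffineOpen_top _) hV le_top
    have h2 : Function.Bijective (Scheme.ΓSpecIso (.of A)).inv.hom :=
      ConcreteCategory.bijective_of_isIso _
    exact h1.comp (RingHom.FiniteType.of_surjective _ h2.2)
  algebraize [φ.hom]
  have : Nontrivial Γ(X, V) := by
    have : Nonempty V := ⟨⟨x0, hxV⟩⟩
    infer_instance
  obtain ⟨n, hn, hcm⟩ := exists_maximal_isCohenMacaulay A Γ(X, V)
  let y : PrimeSpectrum Γ(X, V) := ⟨n, hn.isPrime⟩
  let x : X := hV.fromSpec y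
  have hxV' : x ∈ V := by
    have : x ∈ Set.range hV.fromSpec := ⟨y, rfl⟩
    rwa [hV.range_fromSpec] at this
  refine ⟨x, ?_, ?_⟩
  · apply isClosed_singleton_of_isLocallyClosed_singleton
    have h1 : IsClosed ({y} : Set (PrimeSpectrum Γ(X, V))) :=
      (PrimeSpectrum.isClosed_singleton_iff_isMaximal y).mpr hn
    have h2 := h1.isLocallyClosed.image hV.fromSpec.isOpenEmbedding.isInducing
      hV.fromSpec.isOpenEmbedding.isOpen_range.isLocallyClosed
    have h3 : hV.fromSpec '' ({y} : Set (PrimeSpectrum Γ(X, V))) = {x} := Set.image_singleton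
    exact h3 ▸ h2
  · have hloc := hV.isLocalization_stalk' y hxV'
    let : Algebra Γ(X, V) (X.presheaf.stalk x) := X.presheaf.algebra_section_stalk ⟨x, hxV'⟩
    have h1 : IsLocalization.AtPrime (X.presheaf.stalk x) n := hloc
    exact (Grpsch.CMFibre.isCohenMacaulayLocalRing_iff_of_ringEquiv
      (IsLocalization.algEquiv n.primeCompl (Localization.AtPrime n)
        (X.presheaf.stalk x)).toRingEquiv).1 hcm

end K207.CMArtin
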