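import Groth.Agent.Sga3C.QuotFinPt
import Groth.Agent.Sga4A.EtSplitF
import Mathlib.RingTheory.LocalRing.Module
import Mathlib.FieldTheory.IntermediateField.Adjoin.Basic

/-!
# Making the points over a closed point strictly rational after a finite free base change

* `exists_tensor`, `exists_local`: for `C` finite free over the artinian local ring `A` and `Ω` a field
  over `A` there is a finite free local `A`-algebra `A'` with `Φ : A' → Ω` through which all the
  `A`-homomorphisms `C → Ω` factor.
* `exists_section`: the geometric statement.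
-/

set_option autoImplicit false
universe u
open CategoryTheory CategoryTheory.Limits AlgebraicGeometry TensorProduct

namespace K207.StrictRat

theorem exists_tensor (A C Ω : Type u) [CommRing A] [CommRing C] [Algebra A C] [Module.Finite A C]
    [Module.Free A C] [Field Ω] [Algebra A Ω] (l : List (C →ₐ[A] Ω)) :
    ∃ (T : Type u) (_ : CommRing T) (_ : Algebra A T) (_ : Module.Finite A T) (_ : Module.Free A T)
      (Φ : T →ₐ[A] Ω), ∀ σ ∈ l, ∃ ι : C →ₐ[A] T, Φ.comp ι = σ := by
  induction l with
  | nil => exact ⟨A, inferInstance, inferInstance, inferInstance, inferInstance, Algebra.ofId A Ω, by simp⟩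
  | cons σ l ih =>
    obtain ⟨T, _, _, _, _, Φ, h⟩ := ih
    refine ⟨T ⊗[A] C, inferInstance, inferInstance, inferInstance, inferInstance,
      Algebra.TensorProduct.productMap Φ σ, ?_⟩
    intro τ hτ
    rcases List.mem_cons.1 hτ with rfl | hτ
    · exact ⟨Algebra.TensorProduct.includeRight, Algebra.TensorProduct.productMap_right _ _⟩
    · obtain ⟨ι, hι⟩ := h τ hτ
      refine ⟨Algebra.TensorProduct.includeLeft.comp ι, ?_⟩
      rw [← AlgHom.comp_assoc, Algebra.TensorProduct.productMap_left, hι]

theorem exists_local (A C Ω : Type u) [CommRing A] [IsArtinianRing A] [IsLocalRing A] [CommRing C]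
    [Algebra A C] [Module.Finite A C] [Module.Free A C] [Field Ω] [Algebra A Ω] :
    ∃ (A' : Type u) (_ : CommRing A') (_ : IsLocalRing A') (_ : Algebra A A') (_ : Module.Finite A A')
      (_ : Module.Free A A') (Φ : A' →ₐ[A] Ω), ∀ σ : C →ₐ[A] Ω, ∃ ι : C →ₐ[A] A', Φ.comp ι = σ := by
  have hfin : Finite (C →ₐ[A] Ω) := inferInstance
  have := Fintype.ofFinite (C →ₐ[A] Ω)
  obtain ⟨T, _, _, _, _, Φ, h⟩ := exists_tensor A C Ω (Finset.univ : Finset (C →ₐ[A] Ω)).toList
  let P : Ideal T := RingHom.ker Φ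
  have hP : P.IsPrime := RingHom.ker_isPrime Φ
  have hT : IsArtinianRing T := IsArtinianRing.of_finite A T
  have hsurj : Function.Surjective (algebraMap T (Localization.AtPrime P)) :=
    IsArtinianRing.localization_surjective P.primeCompl _
  have h1 : Module.Finite A (Localization.AtPrime P) := by
    have : Module.Finite T (Localization.AtPrime P) :=
      Module.Finite.of_surjective (Algebra.linearMap T (Localization.AtPrime P)) hsurj
    exact Module.Finite.trans T _
  have h2 : Module.Flat A (Localization.AtPrime P) := by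
    have : Module.Flat T (Localization.AtPrime P) := IsLocalization.flat _ P.primeCompl
    exact Module.Flat.trans A T _
  have h3 : Module.Free A (Localization.AtPrime P) := Module.free_of_flat_of_isLocalRing
  let Φ' : Localization.AtPrime P →ₐ[A] Ω := IsLocalization.liftAlgHom (M := P.primeCompl) (f := Φ)
    (fun y => by
      have : Φ y ≠ 0 := fun h => y.2 (RingHom.mem_ker.2 h)
      exact this.isUnit)
  refine ⟨Localization.AtPrime P, inferInstance, inferInstance, inferInstance, h1, h3, Φ', ?_⟩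
  intro σ
  obtain ⟨ι, hι⟩ := h σ (by simp)
  refine ⟨(Algebra.ofId T (Localization.AtPrime P)).restrictScalars A |>.comp ι, ?_⟩
  rw [← hι]
  ext c
  change Φ' (algebraMap T _ (ι c)) = Φ (ι c)
  simp [Φ']

theorem exists_section {A A' C Ω : Type u} [CommRing A] [CommRing A'] [CommRing C] [Algebra A A']
    [Algebra A C] [IsArtinianRing A'] [IsLocalRing A'] [Module.Finite A C] [Field Ω] [IsAlgClosed Ω]
    [Algebra A Ω] (Φ : A' →ₐ[A] Ω) (h : ∀ σ : C →ₐ[A] Ω, ∃ ι : C →ₐ[A] A', Φ.comp ι = σ)
    {G : Scheme.{u}} (f : G ⟶ Spec (CommRingCat.of A)) (l : Spec (CommRingCat.of C) ⟶ G)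
    (hl : l ≫ f = Spec.map (CommRingCat.ofHom (algebraMap A C)))
    (x' : ↥(pullback f (Spec.map (CommRingCat.ofHom (algebraMap A A')))))
    (c : Spec (CommRingCat.of C)) (hx : (pullback.fst f _).base x' = l.base c) :
    ∃ s : Spec (CommRingCat.of A') ⟶ pullback f (Spec.map (CommRingCat.ofHom (algebraMap A A'))),
      s ≫ pullback.snd _ _ = 𝟙 _ ∧ x' ∈ Set.range s.base := by
  let a := Spec.map (CommRingCat.ofHom (algebraMap A A'))
  let i1 : Spec (CommRingCat.of (C ⊗[A] A')) ⟶ Spec (CommRingCat.of C) :=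
    Spec.map (CommRingCat.ofHom (Algebra.TensorProduct.includeLeftRingHom (R := A) (A := C) (B := A')))
  let i2 : Spec (CommRingCat.of (C ⊗[A] A')) ⟶ Spec (CommRingCat.of A') :=
    Spec.map (CommRingCat.ofHom (Algebra.TensorProduct.includeRight (R := A) (A := C) (B := A')).toRingHom)
  have hsq : IsPullback i1 i2 (l ≫ f) a := by
    rw [hl]
    exact isPullback_SpecMap_of_isPushout _ _ _ _ (CommRingCat.isPushout_tensorProduct A C A')
  let w : Spec (CommRingCat.of (C ⊗[A] A')) ⟶ pullback f a :=
    pullback.lift (i1 ≫ l) i2 (by rw [Category.assoc]; exact hsq.w)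
  have hw1 : w ≫ pullback.fst f a = i1 ≫ l := pullback.lift_fst _ _ _
  have hw2 : w ≫ pullback.snd f a = i2 := pullback.lift_snd _ _ _
  have hsq2 : IsPullback i1 w l (pullback.fst f a) :=
    IsPullback.of_bot (by rw [hw2]; exact hsq) hw1.symm (IsPullback.of_hasPullback f a)
  obtain ⟨q, hq1, hq2⟩ := Scheme.exists_preimage_of_isPullback hsq2 c x' hx.symm
  -- the homomorphism `ψ : C ⊗ A' → Ω` with kernel `q`
  have : IsArtinianRing (C ⊗[A] A') := by
    have : Module.Finite A' (A' ⊗[A] C) := inferInstance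
    have : IsArtinianRing (A' ⊗[A] C) := IsArtinianRing.of_finite A' _
    exact (Algebra.TensorProduct.comm A A' C).toRingEquiv.isArtinianRing
  let jr : A' →+* C ⊗[A] A' := (Algebra.TensorProduct.includeRight (R := A) (A := C) (B := A')).toRingHom
  have hint : jr.IsIntegral := by
    have h1 : (algebraMap A' (A' ⊗[A] C)).IsIntegral := by
      have : Algebra.IsIntegral A' (A' ⊗[A] C) := inferInstance
      exact algebraMap_isIntegral_iff.2 this
    have h2 : jr = (Algebra.TensorProduct.comm A A' C).toRingEquiv.toRingHom.comp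
        (algebraMap A' (A' ⊗[A] C)) := by
      ext x
      rfl
    rw [h2]
    exact h1.trans _ _ (RingHom.isIntegral_of_surjective _
      (Algebra.TensorProduct.comm A A' C).toRingEquiv.surjective)
  let Q : Ideal (C ⊗[A] A') := q.asIdeal
  have hQm : Q.IsMaximal := inferInstance
  have hmax : ∀ I : Ideal A', I.IsPrime → I = IsLocalRing.maximalIdeal A' := by
    intro I hI
    have : I.IsMaximal := inferInstance
    exact IsLocalRing.eq_maximalIdeal this
  obtain ⟨ψ, hψ1, hψ2⟩ : ∃ ψ : C ⊗[A] A' →+* Ω, ψ.comp jr = Φ.toRingHom ∧ ∀ x ∈ Q, ψ x = 0 := by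
    let := jr.toAlgebra
    have : Algebra.IsIntegral A' (C ⊗[A] A') := ⟨hint⟩
    refine Groth.Agent.Sga4A.EtSplit.exists_extension Φ.toRingHom Q ?_
    rw [hmax (Q.comap (algebraMap A' (C ⊗[A] A'))) inferInstance,
      hmax (RingHom.ker Φ.toRingHom) (RingHom.ker_isPrime _)]
  have hker : Q = RingHom.ker ψ :=
    hQm.eq_of_le (RingHom.ker_isPrime ψ).ne_top fun x hx => hψ2 x hx
  let σ : C →ₐ[A] Ω :=
    { ψ.comp (Algebra.TensorProduct.includeLeftRingHom (R := A) (A := C) (B := A')) with
      commutes' := fun r => by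
        change ψ (algebraMap A C r ⊗ₜ[A] (1 : A')) = algebraMap A Ω r
        have h1 : algebraMap A C r ⊗ₜ[A] (1 : A') = jr (algebraMap A A' r) := by
          change _ = (1 : C) ⊗ₜ[A] algebraMap A A' r
          rw [Algebra.algebraMap_eq_smul_one, Algebra.algebraMap_eq_smul_one, TensorProduct.smul_tmul]
        rw [h1]
        have h2 : ψ (jr (algebraMap A A' r)) = Φ (algebraMap A A' r) :=
          congr($hψ1 (algebraMap A A' r))
        rw [h2, AlgHom.commutes] }
  obtain ⟨ι, hι⟩ := h σ
  let sψ : Spec (CommRingCat.of Ω) ⟶ Spec (CommRingCat.of (C ⊗[A] A')) := Spec.map (CommRingCat.ofHom ψ)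
  let sΦ : Spec (CommRingCat.of Ω) ⟶ Spec (CommRingCat.of A') := Spec.map (CommRingCat.ofHom Φ.toRingHom)
  let sι : Spec (CommRingCat.of A') ⟶ Spec (CommRingCat.of C) := Spec.map (CommRingCat.ofHom ι.toRingHom)
  have e1 : sψ ≫ i2 = sΦ := by
    simp only [sψ, i2, sΦ, ← Spec.map_comp, ← CommRingCat.ofHom_comp]
    congr 2
  have e2 : sψ ≫ i1 = sΦ ≫ sι := by
    simp only [sψ, i1, sΦ, sι, ← Spec.map_comp, ← CommRingCat.ofHom_comp]
    congr 2
    ext x
    exact congr($hι x).symm
  have e3 : sι ≫ l ≫ f = 𝟙 _ ≫ a := by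
    rw [hl, Category.id_comp]
    simp only [sι, a, ← Spec.map_comp, ← CommRingCat.ofHom_comp]
    congr 2
    ext x
    exact ι.commutes x
  let s : Spec (CommRingCat.of A') ⟶ pullback f a := pullback.lift (sι ≫ l) (𝟙 _) (by simpa using e3)
  have hs1 : s ≫ pullback.fst f a = sι ≫ l := pullback.lift_fst _ _ _
  have hs2 : s ≫ pullback.snd f a = 𝟙 _ := pullback.lift_snd _ _ _
  have e4 : sψ ≫ w = sΦ ≫ s := by
    apply pullback.hom_ext
    · rw [Category.assoc, Category.assoc, hw1, hs1, reassoc_of% e2]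
    · rw [Category.assoc, Category.assoc, hw2, hs2, e1, Category.comp_id]
  let o : Spec (CommRingCat.of Ω) := IsLocalRing.closedPoint Ω
  have e5 : sψ.base o = q := by
    apply PrimeSpectrum.ext
    change Ideal.comap ψ (IsLocalRing.maximalIdeal Ω) = Q
    rw [hker, IsLocalRing.maximalIdeal_eq_bot]
    rfl
  refine ⟨s, hs2, sΦ.base o, ?_⟩
  have e6 : w.base (sψ.base o) = s.base (sΦ.base o) := congr($(e4).base o)
  rw [← e6, e5]
  exact hq2

end K207.StrictRat
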