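import Groth.Agent.S4366
import Groth.Agent.S5387
import Groth.Agent.Sga3C.GeomRed
import Groth.Agent.Sga3C.GeomRedPerf
import Mathlib.AlgebraicGeometry.Group.Smooth
import Mathlib.AlgebraicGeometry.Morphisms.FlatDescent
import Mathlib.RingTheory.LocalProperties.Reduced

/-!
# Smoothness of a group scheme over a field from reducedness at the unit
-/

set_option autoImplicit false

universe u

open CategoryTheory CategoryTheory.Limits AlgebraicGeometry MonoidalCategory
  CartesianMonoidalCategory MonObj GrpObj

namespace K207.SmoothUnit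

/-- Reducedness of a stalk of `X` from that of the base change of `X` to the spectrum of the stalk
below. -/
theorem isReduced_stalk {X Y : Scheme.{u}} (p : X ⟶ Y) (x : X)
    [IsReduced (pullback p (Y.fromSpecStalk (p x)))] : _root_.IsReduced (X.presheaf.stalk x) := by
  obtain ⟨t, ht, -⟩ := Scheme.Pullback.exists_preimage_pullback (f := p)
    (g := Y.fromSpecStalk (p x)) x (IsLocalRing.closedPoint _)
    (by rw [Scheme.fromSpecStalk_closedPoint])
  have h := Groth.Agent.S4366.result p (p x) t
  have hinj : Function.Injective ((pullback.fst p (Y.fromSpecStalk (p x))).stalkMap t).hom :=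
    (ConcreteCategory.bijective_of_isIso
      ((pullback.fst p (Y.fromSpecStalk (p x))).stalkMap t)).1
  have h2 : _root_.IsReduced (X.presheaf.stalk (pullback.fst p (Y.fromSpecStalk (p x)) t)) :=
    isReduced_of_injective _ hinj
  rwa [ht] at h2

/-- A scheme locally of finite type over a Jacobson base is reduced if the local rings at the
closed points are. -/
theorem isReduced_of_closedPoints {X : Scheme.{u}} [JacobsonSpace X]
    (h : ∀ x : X, IsClosed ({x} : Set X) → _root_.IsReduced (X.presheaf.stalk x)) : IsReduced X := by
  have key : ∀ x : X, _root_.IsReduced (X.presheaf.stalk x) := by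
    intro x
    obtain ⟨V, hV, hxV, -⟩ := exists_isAffineOpen_mem_and_subset (U := ⊤) (x := x) trivial
    have hred : _root_.IsReduced Γ(X, V) := by
      refine isReduced_ofLocalizationMaximal _ fun m hm => ?_
      let y : PrimeSpectrum Γ(X, V) := ⟨m, hm.isPrime⟩
      let x' : X := hV.fromSpec y
      have hxV' : x' ∈ V := by
        have : x' ∈ Set.range hV.fromSpec := ⟨y, rfl⟩
        rwa [hV.range_fromSpec] at this
      have hcl : IsClosed ({x'} : Set X) := by
        apply isClosed_singleton_of_isLocallyClosed_singleton
        have h1 : IsClosed ({y} : Set (PrimeSpectrum Γ(X, V))) :=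
          (PrimeSpectrum.isClosed_singleton_iff_isMaximal y).mpr hm
        have h2 := h1.isLocallyClosed.image hV.fromSpec.isOpenEmbedding.isInducing
          hV.fromSpec.isOpenEmbedding.isOpen_range.isLocallyClosed
        have h3 : hV.fromSpec '' ({y} : Set (PrimeSpectrum Γ(X, V))) = {x'} := Set.image_singleton
        exact h3 ▸ h2
      have hloc := hV.isLocalization_stalk' y hxV'
      let : Algebra Γ(X, V) (X.presheaf.stalk x') := X.presheaf.algebra_section_stalk ⟨x', hxV'⟩
      have h1 : IsLocalization.AtPrime (X.presheaf.stalk x') m := hloc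
      have h2 := h x' hcl
      exact isReduced_of_injective
        (IsLocalization.algEquiv m.primeCompl (Localization.AtPrime m) (X.presheaf.stalk x')).toRingHom
        (IsLocalization.algEquiv m.primeCompl (Localization.AtPrime m)
          (X.presheaf.stalk x')).injective
    let : Algebra Γ(X, V) (X.presheaf.stalk x) := X.presheaf.algebra_section_stalk ⟨x, hxV⟩
    have hloc := hV.isLocalization_stalk ⟨x, hxV⟩
    exact isReduced_localizationPreserves (hV.primeIdealOf ⟨x, hxV⟩).asIdeal.primeCompl
      (X.presheaf.stalk x) hred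
  exact isReduced_of_isReduced_stalk X

/-- Over an algebraically closed field, a group scheme locally of finite type whose local ring at
the unit is reduced is reduced. -/
theorem isReduced_of_unit (k : Type u) [Field k] [IsAlgClosed k]
    (G : Over (Spec (CommRingCat.of k))) [GrpObj G] [LocallyOfFiniteType G.hom]
    (pt : ↥(𝟙_ (Over (Spec (CommRingCat.of k)))).left)
    (h : _root_.IsReduced (G.left.presheaf.stalk (η[G].left.base pt))) : IsReduced G.left := by
  have : JacobsonSpace G.left := LocallyOfFiniteType.jacobsonSpace G.hom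
  refine isReduced_of_closedPoints fun x hx => ?_
  obtain ⟨e⟩ := Groth.Agent.S5387.result k G pt x hx
  exact isReduced_of_injective e.inv.hom (ConcreteCategory.bijective_of_isIso e.inv).1

theorem smooth_of_reduced {k : Type u} [Field k] [IsAlgClosed k] (H : Over (Spec (CommRingCat.of k)))
    [hH : GrpObj H] [LocallyOfFiniteType H.hom] [IsReduced H.left] : Smooth H.hom := by
  have hgr : GeometricallyReduced H.hom :=
    Groth.Agent.Sga3C.GeomRedPerf.geometricallyReduced_of_isReduced H.hom
  let : GrpObj (Over.mk H.hom) := hH
  exact smooth_of_grpObj H.hom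

/-- Main theorem: smoothness from reducedness of the base change of the local ring at the unit to
an algebraically closed extension. -/
theorem smooth_of_isReduced (k : Type u) [Field k] (G : Over (Spec (CommRingCat.of k))) [GrpObj G]
    [LocallyOfFiniteType G.hom] (e : G.left)
    (he : ∃ pt : ↥(𝟙_ (Over (Spec (CommRingCat.of k)))).left, η[G].left.base pt = e)
    (Ω : Type u) [Field Ω] [IsAlgClosed Ω] (t : Spec (CommRingCat.of Ω) ⟶ Spec (CommRingCat.of k))
    (h : IsReduced (pullback (G.left.fromSpecStalk e ≫ G.hom) t)) : Smooth G.hom := by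
  have hst : Surjective t := by
    have : Subsingleton (Spec (CommRingCat.of k)) := inferInstanceAs (Subsingleton (PrimeSpectrum k))
    exact ⟨fun y => ⟨IsLocalRing.closedPoint Ω, Subsingleton.elim _ _⟩⟩
  have hft : Flat t := inferInstance
  have hqt : QuasiCompact t := inferInstance
  apply MorphismProperty.of_pullback_snd_of_descendsAlong
    (Q := @Surjective ⊓ @Flat ⊓ @QuasiCompact) (g := t)
  · exact ⟨⟨inferInstance, inferInstance⟩, inferInstance⟩
  let GΩ : Over (Spec (CommRingCat.of Ω)) := (Over.pullback t).obj G
  have hlft : LocallyOfFiniteType GΩ.hom := inferInstanceAs (LocallyOfFiniteType (pullback.snd G.hom t))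
  obtain ⟨pt, rfl⟩ := he
  let pt' : ↥(𝟙_ (Over (Spec (CommRingCat.of Ω)))).left := IsLocalRing.closedPoint Ω
  let p : GΩ.left ⟶ G.left := pullback.fst G.hom t
  have hsub : Subsingleton ↥(𝟙_ (Over (Spec (CommRingCat.of k)))).left :=
    inferInstanceAs (Subsingleton (PrimeSpectrum k))
  have hunit : p (η[GΩ].left pt') = η[G].left.base pt := by
    have h1 : η[GΩ].left ≫ p = ((Functor.LaxMonoidal.ε (Over.pullback t)).left ≫
        pullback.fst _ t) ≫ η[G].left := by
      rw [Functor.obj.η_def]
      simp only [p, Over.comp_left, Category.assoc]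
      congr 1
      exact pullback.lift_fst _ _ _
    have h2 := congr(($h1) pt')
    rw [Scheme.Hom.comp_apply] at h2
    rw [h2, Scheme.Hom.comp_apply]
    congr 1
    exact Subsingleton.elim _ _
  have hred : IsReduced (pullback p (G.left.fromSpecStalk (p (η[GΩ].left pt')))) := by
    rw [hunit]
    have sq1 := (IsPullback.of_hasPullback p (G.left.fromSpecStalk (η[G].left.base pt))).flip
    have sq2 : IsPullback p (pullback.snd G.hom t) G.hom t := IsPullback.of_hasPullback G.hom t
    have sq3 := sq1.paste_vert sq2
    exact isReduced_of_isOpenImmersion sq3.isoPullback.hom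
  have hst := isReduced_stalk p (η[GΩ].left pt')
  have hredG : IsReduced GΩ.left := isReduced_of_unit Ω GΩ pt' hst
  exact smooth_of_reduced GΩ

theorem fromSpecStalk_comp {k : Type u} [CommRing k] {X : Scheme.{u}}
    (f : X ⟶ Spec (CommRingCat.of k)) (x : X) :
    X.fromSpecStalk x ≫ f = Spec.map ((Scheme.ΓSpecIso (CommRingCat.of k)).inv ≫ f.appTop ≫
      X.presheaf.germ ⊤ x trivial) := by
  have h1 : f = f ≫ (Spec (CommRingCat.of k)).toSpecΓ ≫
      Spec.map (Scheme.ΓSpecIso (CommRingCat.of k)).inv := by
    rw [toSpecΓ_SpecMap_ΓSpecIso_inv, Category.comp_id]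
  conv_lhs => rw [h1]
  rw [Scheme.toSpecΓ_naturality_assoc, Scheme.fromSpecStalk_toSpecΓ_assoc]
  simp only [Spec.map_comp, Category.assoc]

theorem smooth_of_isReduced_tensor (k : Type u) [Field k] (G : Over (Spec (CommRingCat.of k)))
    [GrpObj G] [LocallyOfFiniteType G.hom] (e : G.left)
    (he : ∃ pt : ↥(𝟙_ (Over (Spec (CommRingCat.of k)))).left, η[G].left.base pt = e)
    (K : Type u) [Field K] [PerfectField K] [Algebra k K] [Algebra k (G.left.presheaf.stalk e)]
    (halg : algebraMap k (G.left.presheaf.stalk e) = ((Scheme.ΓSpecIso (CommRingCat.of k)).inv ≫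
      G.hom.appTop ≫ G.left.presheaf.germ ⊤ e trivial).hom)
    (h : _root_.IsReduced (TensorProduct k K (G.left.presheaf.stalk e))) : Smooth G.hom := by
  let Ω := AlgebraicClosure K
  let a : Spec (CommRingCat.of Ω) ⟶ Spec (CommRingCat.of K) :=
    Spec.map (CommRingCat.ofHom (algebraMap K Ω))
  let b : Spec (CommRingCat.of K) ⟶ Spec (CommRingCat.of k) :=
    Spec.map (CommRingCat.ofHom (algebraMap k K))
  let s : Spec (G.left.presheaf.stalk e) ⟶ Spec (CommRingCat.of k) :=
    Spec.map (CommRingCat.ofHom (algebraMap k (G.left.presheaf.stalk e)))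
  have hs : G.left.fromSpecStalk e ≫ G.hom = s := by
    rw [fromSpecStalk_comp]
    congr 1
    ext1
    exact halg.symm
  refine smooth_of_isReduced k G e he Ω (a ≫ b) ?_
  rw [hs]
  have h1 : IsReduced (pullback b s) := by
    have : IsReduced (Spec (CommRingCat.of (TensorProduct k K (G.left.presheaf.stalk e)))) := by
      have : _root_.IsReduced (CommRingCat.of (TensorProduct k K (G.left.presheaf.stalk e))) := h
      infer_instance
    have hiso : IsIso (pullbackSpecIso k K (G.left.presheaf.stalk e)).hom := Iso.isIso_hom _
    have hop : IsOpenImmersion (pullbackSpecIso k K (G.left.presheaf.stalk e)).hom :=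
      IsOpenImmersion.of_isIso _
    exact @isReduced_of_isOpenImmersion _ _ (pullbackSpecIso k K (G.left.presheaf.stalk e)).hom hop _
  have h2 : GeometricallyReduced (pullback.fst b s) :=
    Groth.Agent.Sga3C.GeomRedPerf.geometricallyReduced_of_isReduced _
  have h3 : IsReduced (Spec (CommRingCat.of Ω)) := inferInstance
  have h4 : IsReduced (pullback (pullback.fst b s) a) :=
    Groth.Agent.Sga3C.GeomRed.isReduced_pullback (pullback.fst b s) a
  have sq1 : IsPullback (pullback.fst (pullback.fst b s) a) (pullback.snd (pullback.fst b s) a)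
      (pullback.fst b s) a := IsPullback.of_hasPullback (pullback.fst b s) a
  have sq2 : IsPullback (pullback.snd b s) (pullback.fst b s) s b :=
    (IsPullback.of_hasPullback b s).flip
  exact isReduced_of_isOpenImmersion (sq1.paste_horiz sq2).isoPullback.inv

end K207.SmoothUnit
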