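import Groth.Agent.SGA3.K207.MaxOpen
import Groth.Agent.Sga3C.GrpBasic
import Mathlib.CategoryTheory.Limits.Constructions.Over.Connected
import Mathlib.AlgebraicGeometry.Group.Smooth

/-!
# The largest open over which a homomorphism of group schemes has an fpqc-local property

`u : G ⟶ H` a homomorphism of `S`-group schemes, `G` flat and universally open over `S`, `W` the
largest open of `H` over which `u` has `P`.  Then `W` is stable under translations by `u(G)`.
-/

set_option autoImplicit false

universe u

open CategoryTheory CategoryTheory.Limits AlgebraicGeometry MonoidalCategory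
  CartesianMonoidalCategory MonObj GrpObj

namespace K207.MaxOpenGrp

open Groth.Agent.Sga3C.GrpBasic

section cat

variable {C : Type*} [Category C] [CartesianMonoidalCategory C] {G H : C}

/-- `G ⊗ G → G ⊗ H` is the base change of `u` along the projection `G ⊗ H → H`. -/
theorem isPullback_snd (T : C) (u : G ⟶ H) : IsPullback (snd T G) (T ◁ u) u (snd T H) := by
  refine ⟨⟨by simp⟩, ⟨PullbackCone.IsLimit.mk _ (fun s => lift (s.snd ≫ fst T H) s.fst) ?_ ?_ ?_⟩⟩
  · intro s
    simp
  · intro s
    ext1
    · simp
    · simp only [Category.assoc, whiskerLeft_snd, lift_snd_assoc]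
      exact s.condition
  · intro s m h1 h2
    ext1
    · rw [lift_fst, ← h2]
      simp
    · rw [lift_snd, ← h1]

theorem shear_comm [GrpObj G] [GrpObj H] (u : G ⟶ H) [IsMonHom u] :
    (mulLeftShear (𝟙 G)).hom ≫ (G ◁ u) = (G ◁ u) ≫ (mulLeftShear u).hom := by
  ext1
  · simp [mulLeftShear]
  · simp only [mulLeftShear, Category.comp_id, Category.assoc, whiskerLeft_snd, lift_snd_assoc,
      lift_snd]
    rw [MonObj.comp_mul, Hom.mul_def, Category.assoc, IsMonHom.mul_hom, lift_map_assoc,
      ← Hom.mul_def]
    simp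

theorem isPullback_shear [GrpObj G] [GrpObj H] (u : G ⟶ H) [IsMonHom u] :
    IsPullback μ[G] (G ◁ u) u ((mulLeftShear u).hom ≫ snd G H) := by
  have h1 : IsPullback (mulLeftShear (𝟙 G)).hom (G ◁ u) (G ◁ u) (mulLeftShear u).hom :=
    IsPullback.of_horiz_isIso ⟨shear_comm u⟩
  have h2 := h1.paste_horiz (isPullback_snd G u)
  have h3 : (mulLeftShear (𝟙 G)).hom ≫ snd G G = μ[G] := by
    rw [mulLeftShear_hom_snd, Category.comp_id, MonObj.mul_eq_mul]
  rwa [h3] at h2

end cat

variable {P : MorphismProperty Scheme.{u}} [P.IsStableUnderBaseChange]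
  [P.DescendsAlong (@Flat ⊓ @Surjective ⊓ @QuasiCompact)]

/-- If `W` is the largest open of `H` over which `u` has `P`, then `W` is stable under the
translations by the points of `u(G)`. -/
theorem shear_mem {S : Scheme.{u}} {G H : Over S} [GrpObj G] [GrpObj H] (u : G ⟶ H) [IsMonHom u]
    [Flat G.hom] [UniversallyOpen G.hom]
    {W : H.left.Opens} (hW : P (u.left ∣_ W)) (hmax : ∀ W' : H.left.Opens, P (u.left ∣_ W') → W' ≤ W)
    (z : ↥(G ⊗ H).left) (hz : (snd G H).left.base z ∈ W) :
    ((mulLeftShear u).hom ≫ snd G H).left.base z ∈ W := by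
  let W' : (G ⊗ H).left.Opens := (snd G H).left ⁻¹ᵁ W
  have sq1 := (isPullback_snd G u).map (Over.forget S)
  have sq2 := (isPullback_shear u).map (Over.forget S)
  have h1 := (isPullback_morphismRestrict (G ◁ u).left W').flip
  have h2 : P ((G ◁ u).left ∣_ W') := by
    refine MaxOpen.of_isPullback_of_restrict hW (h1.paste_horiz sq1) ?_
    intro t
    exact t.2
  have hflat : Flat (snd G H).left := inferInstanceAs (Flat (pullback.snd G.hom H.hom))
  have hopen : UniversallyOpen (snd G H).left :=
    inferInstanceAs (UniversallyOpen (pullback.snd G.hom H.hom))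
  have hiso : IsIso (mulLeftShear u).hom.left :=
    inferInstanceAs (IsIso ((Over.forget S).map (mulLeftShear u).hom))
  let h : W'.toScheme ⟶ H.left := W'.ι ≫ ((mulLeftShear u).hom ≫ snd G H).left
  have hfl : Flat h := by
    change Flat (W'.ι ≫ ((mulLeftShear u).hom.left ≫ (snd G H).left))
    infer_instance
  have hop : UniversallyOpen h := by
    change UniversallyOpen (W'.ι ≫ ((mulLeftShear u).hom.left ≫ (snd G H).left))
    infer_instance
  obtain ⟨V, hV1, hV2⟩ := MaxOpen.exists_open_of_isPullback (P := P) (h := h) h.isOpenMap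
    (h1.paste_horiz sq2) h2 ⟨z, hz⟩
  exact hmax V hV2 hV1

end K207.MaxOpenGrp
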