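import Mathlib.AlgebraicGeometry.Morphisms.Flat
import Mathlib.AlgebraicGeometry.Morphisms.QuasiCompact
import Mathlib.AlgebraicGeometry.Morphisms.QuasiSeparated
import Mathlib.AlgebraicGeometry.Morphisms.Descent
import Mathlib.AlgebraicGeometry.Morphisms.UniversallyOpen
import Mathlib.CategoryTheory.Monoidal.Cartesian.Over

/-!
# Largest open over which a morphism has a property local for the fpqc topology

`P` a property of morphisms stable under base change, local on the target, descending along flat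
surjective quasi-compact morphisms; `f : X ⟶ Y`.

* `of_isPullback_of_restrict`: if `f` has `P` over `W` and `h : T ⟶ Y` has image in `W`, the base
  change of `f` along `h` has `P`.
* `exists_open_of_isPullback`: if `h : T ⟶ Y` is flat and open and the base change of `f` along `h`
  has `P`, every point of the image of `h` has an open neighbourhood over which `f` has `P`.
-/

set_option autoImplicit false

universe u

open CategoryTheory CategoryTheory.Limits AlgebraicGeometry

namespace K207.MaxOpen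

variable {P : MorphismProperty Scheme.{u}} [P.IsStableUnderBaseChange]

theorem of_isPullback_of_restrict {X Y : Scheme.{u}} {f : X ⟶ Y} {W : Y.Opens} (hW : P (f ∣_ W))
    {Z T : Scheme.{u}} {a : Z ⟶ X} {b : Z ⟶ T} {h : T ⟶ Y} (sq : IsPullback a b f h)
    (hT : ∀ t : T, h.base t ∈ W) : P b := by
  let l : T ⟶ W.toScheme := IsOpenImmersion.lift W.ι h (by
    rw [Scheme.Opens.range_ι]
    rintro _ ⟨t, rfl⟩
    exact hT t)
  have hl : l ≫ W.ι = h := IsOpenImmersion.lift_fac _ _ _
  have h1 : IsPullback (f ⁻¹ᵁ W).ι (f ∣_ W) f W.ι := (isPullback_morphismRestrict f W).flip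
  have h2 := IsPullback.paste_vert (IsPullback.of_hasPullback (f ∣_ W) l).flip h1.flip
  rw [hl] at h2
  have h3 : P (pullback.snd (f ∣_ W) l) := P.pullback_snd _ _ hW
  have h4 : b = (sq.flip.isoIsPullback _ _ h2).hom ≫ pullback.snd (f ∣_ W) l := by simp
  rw [h4]
  exact (P.cancel_left_of_respectsIso _ _).2 h3

theorem flat_resLE {X Y : Scheme.{u}} (f : X ⟶ Y) [Flat f] (U : X.Opens) (V : Y.Opens)
    (e : U ≤ f ⁻¹ᵁ V) : Flat (f.resLE V U e) := inferInstance

theorem exists_open_of_isPullback [P.DescendsAlong (@Flat ⊓ @Surjective ⊓ @QuasiCompact)]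
    {X Y : Scheme.{u}} {f : X ⟶ Y} {Z T : Scheme.{u}} {a : Z ⟶ X} {b : Z ⟶ T} {h : T ⟶ Y} [Flat h]
    (ho : IsOpenMap h.base) (sq : IsPullback a b f h) (hb : P b) (t : T) :
    ∃ V : Y.Opens, h.base t ∈ V ∧ P (f ∣_ V) := by
  obtain ⟨V, hV, hhV, -⟩ := exists_isAffineOpen_mem_and_subset (U := ⊤) (x := h.base t) trivial
  obtain ⟨U, hU, htU, hUV⟩ := exists_isAffineOpen_mem_and_subset (U := h ⁻¹ᵁ V) (x := t) hhV
  let V' : Y.Opens := ⟨h.base '' U, ho _ U.2⟩
  have hV' : (V' : Set Y) ⊆ V := by
    rintro _ ⟨s, hs, rfl⟩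
    exact hUV hs
  let l : U.toScheme ⟶ V'.toScheme := h.resLE V' U (fun s hs => ⟨s, hs, rfl⟩)
  have hl : l ≫ V'.ι = U.ι ≫ h := Scheme.Hom.resLE_comp_ι _ _
  have hUa : IsAffine U.toScheme := hU
  have hVa : IsAffine V.toScheme := hV
  have hflat : Flat l := flat_resLE h _ _ _
  have hsurj : Surjective l := by
    refine ⟨fun y => ?_⟩
    obtain ⟨s, hs, hsy⟩ := y.2
    refine ⟨⟨s, hs⟩, Subtype.ext ?_⟩
    have := congr(($hl).base ⟨s, hs⟩)
    exact this.trans hsy
  have hqs : QuasiSeparatedSpace V'.toScheme := by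
    let m : V'.toScheme ⟶ V.toScheme := IsOpenImmersion.lift V.ι V'.ι (by
      rw [Scheme.Opens.range_ι, Scheme.Opens.range_ι]
      exact hV')
    have hm : m ≫ V.ι = V'.ι := IsOpenImmersion.lift_fac _ _ _
    have : IsOpenImmersion (m ≫ V.ι) := by rw [hm]; infer_instance
    have : IsOpenImmersion m := IsOpenImmersion.of_comp m V.ι
    exact quasiSeparatedSpace_of_quasiSeparated m
  have hqc : QuasiCompact l := inferInstance
  refine ⟨V', ⟨t, htU, rfl⟩, ?_⟩
  -- the restriction of `f` over `V'` becomes, over `U`, a base change of `b`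
  have h1 : IsPullback (pullback.fst (f ∣_ V') l) (pullback.snd (f ∣_ V') l) (f ∣_ V') l :=
    IsPullback.of_hasPullback _ _
  have h2 := IsPullback.paste_vert h1.flip (isPullback_morphismRestrict f V')
  rw [hl] at h2
  -- `h2 : IsPullback (pullback.snd) (fst ≫ ι) (U.ι ≫ h) f`
  have h3 := IsPullback.paste_vert (IsPullback.of_hasPullback b U.ι).flip sq.flip
  have h4 : P (pullback.snd b U.ι) := P.pullback_snd _ _ hb
  have h5 : pullback.snd (f ∣_ V') l = (h2.isoIsPullback _ _ h3).hom ≫ pullback.snd b U.ι := by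
    simp
  have h6 : P (pullback.snd (f ∣_ V') l) := by
    rw [h5]
    exact (P.cancel_left_of_respectsIso _ _).2 h4
  exact MorphismProperty.of_pullback_snd_of_descendsAlong
    (Q := @Flat ⊓ @Surjective ⊓ @QuasiCompact) (g := l) ⟨⟨hflat, hsurj⟩, hqc⟩ h6

end K207.MaxOpen
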