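import Groth.Agent.SGA3.K207.QSecAff
import Groth.Agent.Sga7.H759.TrdClosure
import Groth.Agent.Ega43.FibreTop
import Groth.Agent.VarietyB.DimTop
import Groth.Agent.Ega43.QSUnivOpen
import Groth.Agent.S4925
import Groth.Agent.S3404

/-!
# Quasi-sections through a point closed in its fibre: dimension and universal openness
-/

set_option autoImplicit false
universe u v w
open TensorProduct MvPolynomial CategoryTheory CategoryTheory.Limits AlgebraicGeometry TopologicalSpace
open Groth.Agent.Ega43.QSHeight K207.QSecGD K207.QSecEtale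

namespace K207.QSecDim

/-- Independent elements of `B` modulo `q` from the transcendence degree of the residue field. -/
theorem exists_algIndep {A B K F : Type u} [CommRing A] [CommRing B] [Algebra A B] [Field K] [Field F]
    [Algebra A K] [Algebra K F] [Algebra B F] (hc : ∀ a : A, algebraMap K F (algebraMap A K a) =
      algebraMap B F (algebraMap A B a)) (q : Ideal B) (hq : RingHom.ker (algebraMap B F) = q)
    (hfrac : ∀ y : F, ∃ b b' : B, algebraMap B F b' ≠ 0 ∧ y * algebraMap B F b' = algebraMap B F b)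
    (p : Ideal A) (hp : RingHom.ker (algebraMap A K) = p) (n : ℕ)
    (hn : (n : Cardinal.{u}) ≤ Algebra.trdeg K F) :
    ∃ t : Fin n → B, q.comap (aeval t : MvPolynomial (Fin n) A →ₐ[A] B).toRingHom =
      p.map MvPolynomial.C := by
  let s : Set F := Set.range (algebraMap B F)
  have halg : Algebra.IsAlgebraic (Algebra.adjoin K s) F := by
    constructor
    intro y
    obtain ⟨b, b', hb', hy⟩ := hfrac y
    have h1 : ∀ b : B, IsAlgebraic (Algebra.adjoin K s) (algebraMap B F b) := fun b =>
      isAlgebraic_algebraMap (R := Algebra.adjoin K s)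
        (⟨algebraMap B F b, Algebra.subset_adjoin ⟨b, rfl⟩⟩ : Algebra.adjoin K s)
    have h2 : y = algebraMap B F b * (algebraMap B F b')⁻¹ := by
      rw [← hy, mul_assoc, mul_inv_cancel₀ hb', mul_one]
    rw [h2]
    exact (h1 b).mul (h1 b').inv
  obtain ⟨u, hus, hu⟩ := exists_isTranscendenceBasis_subset (R := K) (A := F) s
  obtain ⟨e⟩ : Nonempty (Fin n ↪ u) := by
    refine Cardinal.lift_mk_le'.1 ?_
    rw [Cardinal.mk_fin, Cardinal.lift_natCast, Cardinal.lift_uzero, hu.cardinalMk_eq_trdeg]
    exact hn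
  choose b hb using fun x : u => hus x.2
  refine ⟨fun i => b (e i), ?_⟩
  have hind : AlgebraicIndependent K (fun i : Fin n => algebraMap B F (b (e i))) := by
    have h1 : (fun i : Fin n => algebraMap B F (b (e i))) = (fun x : u => (x : F)) ∘ e := by
      funext i
      exact hb (e i)
    rw [h1]
    exact hu.1.comp e e.injective
  ext G
  rw [mem_map_C_iff, ← hq]
  change algebraMap B F (aeval (fun i => b (e i)) G) = 0 ↔ _
  have h1 : algebraMap B F (aeval (fun i => b (e i)) G) =
      aeval (fun i : Fin n => algebraMap B F (b (e i))) (MvPolynomial.map (algebraMap A K) G) := by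
    have h3 : (algebraMap K F).comp (algebraMap A K) = (algebraMap B F).comp (algebraMap A B) :=
      RingHom.ext hc
    rw [aeval_def, aeval_def, eval₂_map, eval₂_comp_left, h3]
    rfl
  rw [h1]
  have h2 : aeval (fun i : Fin n => algebraMap B F (b (e i))) (MvPolynomial.map (algebraMap A K) G) = 0 ↔
      MvPolynomial.map (algebraMap A K) G = 0 :=
    map_eq_zero_iff (aeval (R := K) fun i : Fin n => algebraMap B F (b (e i))) hind
  rw [h2, MvPolynomial.ext_iff]
  refine forall_congr' fun m => ?_
  rw [coeff_map, coeff_zero, ← hp]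
  rfl

/-- The height is at most the local dimension. -/
theorem height_le_localDim {R : Type u} [CommRing R] (P : PrimeSpectrum R) :
    ((P.asIdeal.height : ℕ∞) : WithBot ℕ∞) ≤ FlatMor.localDim (PrimeSpectrum R) P := by
  refine Groth.Agent.VarietyB.DimTop.le_localDim fun W hW => ?_
  rw [← IsLocalization.AtPrime.ringKrullDim_eq_height P.asIdeal (Localization.AtPrime P.asIdeal),
    ← PrimeSpectrum.topologicalKrullDim_eq_ringKrullDim]
  let θ := PrimeSpectrum.comap (algebraMap R (Localization.AtPrime P.asIdeal))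
  have hθ : Topology.IsInducing θ :=
    (PrimeSpectrum.localization_comap_isEmbedding (Localization.AtPrime P.asIdeal)
      P.asIdeal.primeCompl).isInducing
  have hmem : ∀ Q, θ Q ∈ (W : Set (PrimeSpectrum R)) := fun Q => by
    have h1 : θ Q ⤳ P := by
      rw [← PrimeSpectrum.le_iff_specializes]
      intro x hx
      by_contra hxP
      exact Q.isPrime.ne_top (Ideal.eq_top_of_isUnit_mem _ hx
        (IsLocalization.map_units (Localization.AtPrime P.asIdeal) (⟨x, hxP⟩ : P.asIdeal.primeCompl)))
    exact h1.mem_open W.isOpen hW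
  exact (hθ.codRestrict hmem).topologicalKrullDim_le

open Groth.Agent.Sga7.H759.Trd Groth.Agent.Sga7.H759.TrdClosure in
/-- The dimension of the closure of a point over a field bounds transcendence degrees from below. -/
theorem natCast_le_trdeg {K : Type u} [Field K] {X : Scheme.{u}} (g : X ⟶ Spec (CommRingCat.of K))
    [LocallyOfFiniteType g] (x : X) (k : ℕ)
    (hk : (k : WithBot ℕ∞) ≤ topologicalKrullDim ↥(closure ({x} : Set ↥X)))
    (F : Type u) [Field F] [Algebra K F] (y : Spec (CommRingCat.of F) ⟶ X) (hyx : y default = x)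
    (hy : y ≫ g = Spec.map (CommRingCat.ofHom (algebraMap K F))) :
    (k : Cardinal.{u}) ≤ Algebra.trdeg K F := by
  by_contra hlt
  rw [not_le] at hlt
  obtain ⟨c, hc⟩ := Cardinal.lt_aleph0.1 (hlt.trans Cardinal.natCast_lt_aleph0)
  rw [hc] at hlt
  have hck : c < k := by exact_mod_cast hlt
  have h1 : EtPBC.ResTrdegLE (y ≫ g) (default : Spec (CommRingCat.of F)) c := by
    rw [hy]
    exact resTrdegLE_of_trdeg_le _ c hc.le
  have h2 := resTrdegLE_of_comp g y default c h1
  rw [hyx] at h2
  obtain ⟨Z, p, hi, hxZ, hdim⟩ := exists_subscheme g x c h2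
  have hp : Topology.IsClosedEmbedding p := p.isClosedEmbedding
  have hsub : closure ({x} : Set X) ⊆ Set.range p := by
    refine (hp.isClosed_range.closure_subset_iff).2 ?_
    rw [Set.singleton_subset_iff]
    exact hxZ
  choose r hr using fun c : closure ({x} : Set X) => hsub c.2
  have hind : Topology.IsInducing (p ∘ r) := by
    have : p ∘ r = Subtype.val := funext hr
    rw [this]
    exact Topology.IsInducing.subtypeVal
  have hcont : Continuous r := by
    rw [hp.isInducing.continuous_iff]
    exact hind.continuous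
  have hr' : Topology.IsInducing r := Topology.IsInducing.of_comp hcont hp.continuous hind
  have h3 := hk.trans (hr'.topologicalKrullDim_le.trans hdim)
  have h4 : k ≤ c := by exact_mod_cast h3
  omega

theorem exists_resField {S : Scheme.{u}} {F : Type u} [Field F] (y : Spec (CommRingCat.of F) ⟶ S)
    (s : S) (hs : y (IsLocalRing.closedPoint F) = s) :
    ∃ g : S.residueField s ⟶ CommRingCat.of F, Spec.map g ≫ S.fromSpecResidueField s = y := by
  subst hs
  exact ⟨_, Scheme.descResidueField_stalkClosedPointTo_fromSpecResidueField F S y⟩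

/-- Elements of the affine chart which are independent over the residue field of the base point. -/
theorem exists_t {X S : Scheme.{u}} (f : X ⟶ S) [LocallyOfFiniteType f] {A B : Type u} [CommRing A]
    [CommRing B] [Algebra A B] (k : Spec (CommRingCat.of B) ⟶ X) (i : Spec (CommRingCat.of A) ⟶ S)
    [IsOpenImmersion i] (h : k ≫ f = Spec.map (CommRingCat.ofHom (algebraMap A B)) ≫ i)
    (q : PrimeSpectrum B) (s : S) (hs : f (k q) = s) (n : ℕ) (Z : Set ↥(f ⁻¹' {s}))
    (hZ : Subtype.val '' Z ⊆ closure {k q}) (hn : (n : WithBot ℕ∞) ≤ topologicalKrullDim Z) :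
    ∃ t : Fin n → B, q.asIdeal.comap (aeval t : MvPolynomial (Fin n) A →ₐ[A] B).toRingHom =
      (q.asIdeal.comap (algebraMap A B)).map MvPolynomial.C := by
  let F := q.asIdeal.ResidueField
  let yB : Spec (CommRingCat.of F) ⟶ Spec (CommRingCat.of B) :=
    Spec.map (CommRingCat.ofHom (algebraMap B F))
  have hyB : ∀ o, yB o = q := fun o => by
    apply PrimeSpectrum.ext
    ext b
    have h1 : o.asIdeal = ⊥ := Ring.isField_iff_isSimpleOrder_ideal.1 (Field.toIsField F) |>.2 _ |>.resolve_right
      o.isPrime.ne_top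
    change algebraMap B F b ∈ o.asIdeal ↔ _
    rw [h1, Ideal.mem_bot]
    exact Ideal.algebraMap_residueField_eq_zero
  let yX := yB ≫ k
  have hyX : ∀ o, yX o = k q := fun o => by
    change k (yB o) = _
    rw [hyB]
  obtain ⟨κ, hκ⟩ := exists_resField (yX ≫ f) s (by
    rw [Scheme.Hom.comp_apply, hyX]
    exact hs)
  let y : Spec (CommRingCat.of F) ⟶ f.fiber s := pullback.lift yX (Spec.map κ) hκ.symm
  have hy1 : y ≫ f.fiberι s = yX := pullback.lift_fst _ _ _
  have hy2 : y ≫ f.fiberToSpecResidueField s = Spec.map κ := pullback.lift_snd _ _ _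
  let _ : Algebra (S.residueField s) F := κ.hom.toAlgebra
  let z' : f.fiber s := y default
  have hz' : f.fiberι s z' = k q := by
    change f.fiberι s (y default) = _
    rw [← Scheme.Hom.comp_apply, hy1, hyX]
  -- comparison of dimensions
  have hdim : topologicalKrullDim Z ≤ topologicalKrullDim ↥(closure ({z'} : Set (f.fiber s))) := by
    let e := (f.fiberHomeo s).symm
    have he : ∀ w, f.fiberι s (e w) = w.1 := fun w => f.fiberι_fiberHomeo_symm s w
    have hmem : ∀ w : Z, e w.1 ∈ closure ({z'} : Set (f.fiber s)) := fun w => by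
      rw [← specializes_iff_mem_closure, ← (f.fiberι s).isEmbedding.isInducing.specializes_iff, he,
        hz', specializes_iff_mem_closure]
      exact hZ ⟨w.1, w.2, rfl⟩
    have h1 : Topology.IsInducing (fun w : Z => e w.1) :=
      e.isInducing.comp Topology.IsInducing.subtypeVal
    exact (h1.codRestrict hmem).topologicalKrullDim_le
  have hft : LocallyOfFiniteType (f.fiberToSpecResidueField s) :=
    MorphismProperty.pullback_snd (P := @LocallyOfFiniteType) f (S.fromSpecResidueField s) ‹_›
  have htr : (n : Cardinal.{u}) ≤ Algebra.trdeg (S.residueField s) F :=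
    natCast_le_trdeg (K := S.residueField s) (f.fiberToSpecResidueField s) z' n (hn.trans hdim) F y rfl
      hy2
  -- the map `A → κ(s)`
  let aS : Spec (S.residueField s) ⟶ Spec (CommRingCat.of A) :=
    IsOpenImmersion.lift i (S.fromSpecResidueField s) (by
      rw [Scheme.range_fromSpecResidueField, Set.singleton_subset_iff, ← hs, ← Scheme.Hom.comp_apply,
        h, Scheme.Hom.comp_apply]
      exact ⟨_, rfl⟩)
  have haS : aS ≫ i = S.fromSpecResidueField s := IsOpenImmersion.lift_fac _ _ _
  let α : CommRingCat.of A ⟶ S.residueField s := Spec.preimage aS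
  have hα : Spec.map α = aS := Spec.map_preimage aS
  let _ : Algebra A (S.residueField s) := α.hom.toAlgebra
  have hc : ∀ a : A, algebraMap (S.residueField s) F (algebraMap A (S.residueField s) a) =
      algebraMap B F (algebraMap A B a) := by
    have h1 : Spec.map κ ≫ Spec.map α =
        yB ≫ Spec.map (CommRingCat.ofHom (algebraMap A B)) := by
      rw [← cancel_mono i, hα, Category.assoc, haS, hκ, Category.assoc, Category.assoc, ← h]
    rw [← Spec.map_comp, ← Spec.map_comp] at h1
    have h2 := Spec.map_injective h1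
    intro a
    exact congr($(h2).hom a)
  have hqk : RingHom.ker (algebraMap B F) = q.asIdeal := by
    ext b
    exact Ideal.algebraMap_residueField_eq_zero
  have hfrac : ∀ y : F, ∃ b b' : B, algebraMap B F b' ≠ 0 ∧ y * algebraMap B F b' = algebraMap B F b := by
    intro y
    obtain ⟨⟨b, b'⟩, hb⟩ := IsLocalization.surj (M := nonZeroDivisors (B ⧸ q.asIdeal)) y
    obtain ⟨b, rfl⟩ := Ideal.Quotient.mk_surjective b
    obtain ⟨b', hb'⟩ := b'
    obtain ⟨b', rfl⟩ := Ideal.Quotient.mk_surjective b'
    refine ⟨b, b', ?_, hb⟩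
    rw [Ne, Ideal.algebraMap_residueField_eq_zero, ← Ideal.Quotient.eq_zero_iff_mem]
    exact nonZeroDivisors.ne_zero hb'
  refine exists_algIndep hc q.asIdeal hqk hfrac _ ?_ n htr
  ext a
  rw [RingHom.mem_ker, Ideal.mem_comap, ← hqk, RingHom.mem_ker, ← hc]
  exact (map_eq_zero_iff _ (algebraMap (S.residueField s) F).injective).symm

/-- Universal openness gives generizations over valuation rings. -/
theorem genAt_of_isUnivOpenAt {X S : Scheme.{u}} (f : X ⟶ S) {A B : Type u} [CommRing A]
    [CommRing B] [Algebra A B] (k : Spec (CommRingCat.of B) ⟶ X) [IsOpenImmersion k]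
    (i : Spec (CommRingCat.of A) ⟶ S)
    [IsOpenImmersion i] (h : k ≫ f = Spec.map (CommRingCat.ofHom (algebraMap A B)) ≫ i)
    (q : PrimeSpectrum B) (hopen : EGA43.IsUnivOpenAt f (k q)) : GenAt A B q.asIdeal := by
  intro V _ _ _ _ Q hQ hQq
  have hk : EGA43.IsUnivOpenAt k q := by
    intro Y' g x' _
    exact (Groth.Agent.Ega43.UnivOpenAt.isOpenMap_iff_forall_isOpenAt _).1
      (pullback.snd k g).isOpenMap x'
  have h1 : EGA43.IsUnivOpenAt (k ≫ f) q := Groth.Agent.S4925.result k f q hk hopen
  rw [h] at h1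
  have h2 := Groth.Agent.Ega43.QSUnivOpen.isPullback_comp_mono
    (Groth.Agent.Ega43.QSAffine.isPullback_tensor A V B) i
  let Q' : PrimeSpectrum (V ⊗[A] B) := ⟨Q, hQ⟩
  have h3 := Groth.Agent.Ega43.UnivOpenAt.isOpenAt_of_isPullback h1 h2 Q' (PrimeSpectrum.ext hQq)
  let η : PrimeSpectrum V := ⟨⊥, Ideal.isPrime_bot⟩
  obtain ⟨W, hW1, hW2⟩ := (Groth.Agent.S3404.result
      (Spec.map (CommRingCat.ofHom (algebraMap V (V ⊗[A] B)))) Q').1 h3 η (by
    change η ⤳ PrimeSpectrum.comap (algebraMap V (V ⊗[A] B)) Q'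
    rw [← PrimeSpectrum.le_iff_specializes]
    exact bot_le (a := (PrimeSpectrum.comap (algebraMap V (V ⊗[A] B)) Q').asIdeal))
  refine ⟨W.asIdeal, W.isPrime, ?_, congrArg PrimeSpectrum.asIdeal hW2⟩
  exact (PrimeSpectrum.le_iff_specializes W Q').2 hW1

/-- The height in the fibre is at most the local dimension of the fibre. -/
theorem fh_le_localDim {X S : Scheme.{u}} (f : X ⟶ S) {A B : Type u} [CommRing A]
    [CommRing B] [Algebra A B] (k : Spec (CommRingCat.of B) ⟶ X) [IsOpenImmersion k]
    (i : Spec (CommRingCat.of A) ⟶ S)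
    [IsOpenImmersion i] (h : k ≫ f = Spec.map (CommRingCat.ofHom (algebraMap A B)) ≫ i)
    (P : PrimeSpectrum B) (x : X) (hx : k P = x) (s : S) (hxs : f x = s) :
    ((fh A P.asIdeal : ℕ∞) : WithBot ℕ∞) ≤ FlatMor.localDim ↥(f ⁻¹' {s}) ⟨x, hxs⟩ := by
  subst hx
  let p : PrimeSpectrum A := ⟨P.asIdeal.under A, inferInstance⟩
  have hp : i p = s := by
    rw [← hxs, ← Scheme.Hom.comp_apply, h, Scheme.Hom.comp_apply]
    rfl
  obtain ⟨θ, hθ, hθk⟩ := Groth.Agent.Ega43.FibreTop.exists_isOpenEmbedding_fiber f k i h p s hp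
  let e := f.fiberHomeo s
  have h1 : Topology.IsOpenEmbedding (fun Q => e (θ Q)) := e.isOpenEmbedding.comp hθ
  have h2 := Groth.Agent.VarietyB.DimTop.localDim_eq_of_isOpenEmbedding h1 (fibrePt A P.asIdeal)
  have h3 : e (θ (fibrePt A P.asIdeal)) = ⟨k P, hxs⟩ := by
    apply Subtype.ext
    change f.fiberι s (θ (fibrePt A P.asIdeal)) = k P
    rw [hθk]
    congr 1
    exact PrimeSpectrum.ext (comap_fibrePt A P.asIdeal)
  rw [h3] at h2
  rw [← h2]
  exact height_le_localDim (fibrePt A P.asIdeal)

/-- A point of the spectrum at which a ring map is surjective on residue fields. -/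
theorem isIso_residueFieldMap {B D : Type u} [CommRing B] [CommRing D] (φ : B →+* D)
    (Q : PrimeSpectrum D) (h : ResSurj φ Q.asIdeal) :
    IsIso (Scheme.Hom.residueFieldMap (Spec.map (CommRingCat.ofHom φ)) Q) := by
  let g : Spec (CommRingCat.of D) ⟶ Spec (CommRingCat.of B) := Spec.map (CommRingCat.ofHom φ)
  let m := g.residueFieldMap Q
  let εD : D →+* (Spec (CommRingCat.of D)).residueField Q :=
    ((Scheme.ΓSpecIso (CommRingCat.of D)).inv ≫ (Spec (CommRingCat.of D)).Γevaluation Q).hom
  let εB : B →+* (Spec (CommRingCat.of B)).residueField (g Q) :=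
    ((Scheme.ΓSpecIso (CommRingCat.of B)).inv ≫ (Spec (CommRingCat.of B)).Γevaluation (g Q)).hom
  have hε : ∀ b, m.hom (εB b) = εD (φ b) := fun b => by
    have h1 := Scheme.Γevaluation_naturality g Q
    have h2 : (Scheme.ΓSpecIso (CommRingCat.of B)).inv ≫ g.appTop =
        CommRingCat.ofHom φ ≫ (Scheme.ΓSpecIso (CommRingCat.of D)).inv :=
      (Scheme.ΓSpecIso_inv_naturality (CommRingCat.ofHom φ)).symm
    have h3 : ((Scheme.ΓSpecIso (CommRingCat.of B)).inv ≫
        (Spec (CommRingCat.of B)).Γevaluation (g Q)) ≫ m = CommRingCat.ofHom φ ≫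
          ((Scheme.ΓSpecIso (CommRingCat.of D)).inv ≫ (Spec (CommRingCat.of D)).Γevaluation Q) := by
      rw [Category.assoc, h1, reassoc_of% h2]
    exact congr($(h3).hom b)
  have hinv : CommRingCat.ofHom (algebraMap D Q.asIdeal.ResidueField) ≫
      (Scheme.Spec.residueFieldIso (CommRingCat.of D) Q).inv = CommRingCat.ofHom εD :=
    Scheme.Spec.algebraMap_residueFieldIso_inv (CommRingCat.of D) Q
  have hεD0 : ∀ d, εD d = 0 ↔ d ∈ Q.asIdeal := fun d => by
    have h1 : εD d = (Scheme.Spec.residueFieldIso (CommRingCat.of D) Q).inv.hom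
        (algebraMap D Q.asIdeal.ResidueField d) := congr($(hinv).hom d).symm
    rw [h1, map_eq_zero]
    exact Ideal.algebraMap_residueField_eq_zero
  have hsurjD : ∀ d, ∃ y, m.hom y = εD d := fun d => by
    obtain ⟨c, c', hc', hc⟩ := h d
    rw [← hεD0] at hc' hc
    rw [map_sub, map_mul, sub_eq_zero, ← hε, ← hε] at hc
    rw [← hε] at hc'
    refine ⟨εB c * (εB c')⁻¹, ?_⟩
    rw [map_mul, map_inv₀, ← hc, mul_comm, ← mul_assoc, inv_mul_cancel₀ hc', one_mul]
  have hsurj : Function.Surjective m.hom := by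
    intro z
    obtain ⟨z', rfl⟩ : ∃ z', (Scheme.Spec.residueFieldIso (CommRingCat.of D) Q).inv.hom z' = z :=
      (ConcreteCategory.bijective_of_isIso (Scheme.Spec.residueFieldIso (CommRingCat.of D) Q).inv).2 z
    obtain ⟨⟨b, b'⟩, hb⟩ := IsLocalization.surj (M := nonZeroDivisors (D ⧸ Q.asIdeal)) z'
    obtain ⟨b, rfl⟩ := Ideal.Quotient.mk_surjective b
    obtain ⟨b', hb'⟩ := b'
    obtain ⟨b', rfl⟩ := Ideal.Quotient.mk_surjective b'
    have hb0 : εD b' ≠ 0 := by
      rw [Ne, hεD0, ← Ideal.Quotient.eq_zero_iff_mem]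
      exact nonZeroDivisors.ne_zero hb'
    have h1 : ∀ d, (Scheme.Spec.residueFieldIso (CommRingCat.of D) Q).inv.hom
        (algebraMap D Q.asIdeal.ResidueField d) = εD d := fun d => congr($(hinv).hom d)
    have h2 := congrArg (Scheme.Spec.residueFieldIso (CommRingCat.of D) Q).inv.hom hb
    rw [map_mul] at h2
    have h3 : (Scheme.Spec.residueFieldIso (CommRingCat.of D) Q).inv.hom z' * εD b' = εD b := by
      rw [← h1, ← h1]
      exact h2
    obtain ⟨y, hy⟩ := hsurjD b
    obtain ⟨y', hy'⟩ := hsurjD b'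
    refine ⟨y * y'⁻¹, ?_⟩
    rw [map_mul, map_inv₀, hy, hy', ← h3, mul_assoc, mul_inv_cancel₀ hb0, mul_one]
  have : IsIso m := by
    rw [ConcreteCategory.isIso_iff_bijective]
    exact ⟨m.hom.injective, hsurj⟩
  exact this

end K207.QSecDim
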