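import Groth.Agent.Sga3B.TorusEtLoc920
import Groth.Agent.Sga3B.TorusBc
import Mathlib.AlgebraicGeometry.Noetherian
import Mathlib.Topology.Separation.Connected

/-!
# Étale charts with connected Noetherian affine source splitting tori
-/

set_option autoImplicit false
universe u
open CategoryTheory MonoidalCategory CartesianMonoidalCategory MonObj GrpObj AlgebraicGeometry Limits

namespace K207.SubTorChart

open Groth.Agent.Sga3B TopologicalSpace

lemma isOpen_component {A : Type*} [TopologicalSpace A] [NoetherianSpace A] (x : A) :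
    IsOpen (connectedComponent x) := by
  have h0 : Finite (ConnectedComponents A) := by
    have hf : Finite (irreducibleComponents A) := NoetherianSpace.finite_irreducibleComponents.to_subtype
    have hne : ∀ Z : irreducibleComponents A, (Z : Set A).Nonempty := fun Z => Z.2.1.nonempty
    refine Finite.of_surjective (fun Z : irreducibleComponents A => (ConnectedComponents.mk (hne Z).some)) ?_
    intro c
    obtain ⟨x, rfl⟩ := ConnectedComponents.surjective_coe c
    let Z : irreducibleComponents A := ⟨irreducibleComponent x, irreducibleComponent_mem_irreducibleComponents x⟩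
    refine ⟨Z, ?_⟩
    have h1 : (hne Z).some ∈ irreducibleComponent x := (hne Z).some_mem
    have h2 : irreducibleComponent x ⊆ connectedComponent x :=
      irreducibleComponent_subset_connectedComponent
    exact ConnectedComponents.coe_eq_coe'.mpr (h2 h1)
  have : DiscreteTopology (ConnectedComponents A) := inferInstance
  rw [← connectedComponents_preimage_singleton]
  exact (isOpen_discrete _).preimage ConnectedComponents.continuous_coe

/-- Every point of a Noetherian affine scheme has an affine connected open neighbourhood. -/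
theorem exists_connected (B : Type u) [CommRing B] [IsNoetherianRing B] (x : Spec (CommRingCat.of B)) :
    ∃ (C : Type u) (_ : CommRing C) (w : Spec (CommRingCat.of C) ⟶ Spec (CommRingCat.of B)), IsOpenImmersion w ∧
      x ∈ Set.range w ∧ ConnectedSpace ↥(Spec (CommRingCat.of C)) ∧ IsNoetherianRing C := by
  have hN : NoetherianSpace ↥(Spec (CommRingCat.of B)) := inferInstanceAs (NoetherianSpace (PrimeSpectrum B))
  have ho : IsOpen (connectedComponent x) := isOpen_component x
  have hcl : IsClopen (connectedComponent x : Set (PrimeSpectrum B)) := ⟨isClosed_connectedComponent, ho⟩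
  obtain ⟨e, he, heq⟩ := PrimeSpectrum.isClopen_iff.mp hcl
  let U : (Spec (CommRingCat.of B)).Opens := PrimeSpectrum.basicOpen e
  have hU : IsAffineOpen U := by
    have := (isAffineOpen_top (Spec (CommRingCat.of B))).basicOpen ((Scheme.ΓSpecIso (.of B)).inv e)
    have h1 : (Spec (CommRingCat.of B)).basicOpen ((Scheme.ΓSpecIso (.of B)).inv e) = U :=
      basicOpen_eq_of_affine' _ |>.trans (by simp [U])
    rwa [h1] at this
  refine ⟨Γ(Spec (CommRingCat.of B), U), inferInstance, hU.fromSpec, inferInstance, ?_, ?_, ?_⟩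
  · rw [hU.range_fromSpec]
    change x ∈ (PrimeSpectrum.basicOpen e : Set (PrimeSpectrum B))
    rw [← heq]
    exact mem_connectedComponent
  · have h1 : _root_.IsConnected (U : Set ↥(Spec (CommRingCat.of B))) := by
      change _root_.IsConnected (PrimeSpectrum.basicOpen e : Set (PrimeSpectrum B))
      rw [← heq]
      exact isConnected_connectedComponent
    have h2 : ConnectedSpace ↥U := isConnected_iff_connectedSpace.mp h1
    have e0 : ↥U ≃ₜ ↥(Spec Γ(Spec (CommRingCat.of B), U)) := Scheme.homeoOfIso hU.isoSpec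
    exact e0.surjective.connectedSpace e0.continuous
  · have : IsLocallyNoetherian (Spec (CommRingCat.of B)) := inferInstance
    exact IsLocallyNoetherian.component_noetherian ⟨U, hU⟩

lemma split_comp {S S' S'' : Scheme.{u}} {M : Type} [AddCommGroup M] {T : Over S} [GrpObj T] {f : S' ⟶ S}
    (h : Red.IsSplitTorusWith M (Red.bc f T)) (g : S'' ⟶ S') : Red.IsSplitTorusWith M (Red.bc (g ≫ f) T) :=
  TorusBc.isSplitTorusWith_of_iso (BcIso.bcCompIso g f T).symm (TorusAlgClosed.isSplitTorusWith_bc g h)

lemma split_decomp {S S' S'' : Scheme.{u}} {M : Type} [AddCommGroup M] {T : Over S} [GrpObj T] {f : S' ⟶ S}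
    {g : S'' ⟶ S'} (h : Red.IsSplitTorusWith M (Red.bc g (Red.bc f T))) : Red.IsSplitTorusWith M (Red.bc (g ≫ f) T) :=
  TorusBc.isSplitTorusWith_of_iso (BcIso.bcCompIso g f T).symm h

/-- A chart splitting two tori, with connected Noetherian affine source. -/
theorem exists_chart {S : Scheme.{u}} [IsLocallyNoetherian S] {T₁ T₂ : Over S} [GrpObj T₁] [GrpObj T₂]
    (h₁ : Red.IsTorus T₁) (h₂ : Red.IsTorus T₂) (s : S) :
    ∃ (C : Type u) (_ : CommRing C) (v : Spec (CommRingCat.of C) ⟶ S) (r r' : ℕ), Etale v ∧ s ∈ Set.range v ∧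
      ConnectedSpace ↥(Spec (CommRingCat.of C)) ∧ IsNoetherianRing C ∧
      Red.IsSplitTorusWith (Fin r → ℤ) (Red.bc v T₁) ∧ Red.IsSplitTorusWith (Fin r' → ℤ) (Red.bc v T₂) := by
  obtain ⟨B₁, _, v₁, r, hv₁, ⟨x₁, rfl⟩, hs₁⟩ := TorusEtLoc920.exists_etale_split T₁ h₁ s
  obtain ⟨B₂, _, v₂, r', hv₂, ⟨x₂, rfl⟩, hs₂⟩ := TorusEtLoc920.exists_etale_split (Red.bc v₁ T₂)
    (TorusBc.isTorus_bc v₁ h₂) x₁
  have hN : IsLocallyNoetherian (Spec (CommRingCat.of B₂)) := LocallyOfFiniteType.isLocallyNoetherian (v₂ ≫ v₁)
  have hN' : IsNoetherianRing B₂ := by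
    rwa [← isLocallyNoetherian_Spec (R := CommRingCat.of B₂)]
  obtain ⟨C, _, w, hw, ⟨x, rfl⟩, hc, hCN⟩ := exists_connected B₂ x₂
  refine ⟨C, inferInstance, w ≫ v₂ ≫ v₁, r, r', inferInstance, ⟨x, by simp⟩, hc, hCN, ?_, ?_⟩
  · exact split_comp (split_comp hs₁ v₂) w
  · exact split_comp (split_decomp hs₂) w

end K207.SubTorChart
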