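import Groth.Agent.SGA3.K207.SubTorLoc
import Groth.Agent.SGA3.K207.SubTorChart

/-!
# Subtori are determined by their torsion

`G` a group over a locally Noetherian scheme `S`, `q > 1`.

* `exists_le`: if the `q^k`-torsion of a torus `T₁` over `G` lies in the subtorus `T₂` for all `k`, then so does `T₁`;
* `exists_iso`: two subtori of `G` with the same `q^k`-torsion for all `k` coincide.
-/

set_option autoImplicit false
universe u
open CategoryTheory MonoidalCategory CartesianMonoidalCategory MonObj GrpObj AlgebraicGeometry Limits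

namespace K207.SubTor

open Groth.Agent.Sga3B Groth.Agent.Sga7.H760.KerBc

section pow

variable {S S' : Scheme.{u}}

lemma bc_pow (π : S' ⟶ S) {X Y : Over S} [GrpObj Y] (f : X ⟶ Y) (n : ℕ) :
    (Over.pullback π).map (f ^ n) = ((Over.pullback π).map f : Red.bc π X ⟶ Red.bc π Y) ^ n := by
  induction n with
  | zero => rw [pow_zero, pow_zero]; exact Functor.map_one _
  | succ n ih => rw [pow_succ, pow_succ, ← ih]; exact Functor.map_mul _ _ _

/-- The torsion condition under base change. -/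
lemma torsion_bc (π : S' ⟶ S) {P T : Over S} [GrpObj T] {g : P ⟶ T} {n : ℕ}
    (h : AlgGrp.IsKernel g ((𝟙 T : T ⟶ T) ^ n)) :
    AlgGrp.IsKernel ((Over.pullback π).map g) ((𝟙 (Red.bc π T) : Red.bc π T ⟶ Red.bc π T) ^ n) := by
  have h1 := isKernel_bc π h
  rwa [bc_pow, (Over.pullback π).map_id] at h1

lemma isKernel_pow_iff {P T : Over S} [GrpObj T] {g : P ⟶ T} {n : ℕ} :
    AlgGrp.IsKernel g ((𝟙 T : T ⟶ T) ^ n) ↔ g ^ n = 1 ∧ ∀ (X : Over S) (x : X ⟶ T), x ^ n = 1 → ∃! y, y ≫ g = x := by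
  rw [isKernel_iff]
  have h0 : ∀ (X : Over S) (x : X ⟶ T), x ≫ ((𝟙 T : T ⟶ T) ^ n) = x ^ n := fun X x => by
    rw [MonObj.comp_pow, Category.comp_id]
  simp only [h0]

/-- The torsion condition and isomorphisms. -/
lemma torsion_iso {P T T' : Over S} [GrpObj T] [GrpObj T'] {g : P ⟶ T} {n : ℕ} (e : T ≅ T') [IsMonHom e.hom]
    (h : AlgGrp.IsKernel g ((𝟙 T : T ⟶ T) ^ n)) : AlgGrp.IsKernel (g ≫ e.hom) ((𝟙 T' : T' ⟶ T') ^ n) := by
  rw [isKernel_pow_iff] at h ⊢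
  obtain ⟨h1, h2⟩ := h
  refine ⟨by rw [← MonObj.pow_comp, h1, MonObj.one_comp], fun X x hx => ?_⟩
  have h3 : (x ≫ e.inv) ^ n = 1 := by
    rw [← cancel_mono e.hom, MonObj.pow_comp, Category.assoc, Iso.inv_hom_id, Category.comp_id, hx, MonObj.one_comp]
  obtain ⟨y, hy, hy'⟩ := h2 X _ h3
  refine ⟨y, ?_, fun z hz => hy' z ?_⟩
  · change y ≫ g ≫ e.hom = x
    rw [← Category.assoc, hy, Category.assoc, Iso.inv_hom_id, Category.comp_id]
  · change z ≫ g = x ≫ e.inv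
    rw [Iso.eq_comp_inv, Category.assoc]
    exact hz

end pow

/-- The split case. -/
theorem split_le {R : Type u} [CommRing R] [Nontrivial R] [ConnectedSpace ↥(Spec (CommRingCat.of R))]
    {G T₁ T₂ : Over (Spec (CommRingCat.of R))} [GrpObj G] [GrpObj T₁] [GrpObj T₂] {q : ℕ} (hq : 1 < q)
    (j₁ : T₁ ⟶ G) [IsMonHom j₁] (j₂ : T₂ ⟶ G) [IsMonHom j₂] [Mono j₂] {r r' : ℕ}
    (h₁ : Red.IsSplitTorusWith (Fin r → ℤ) T₁) (h₂ : Red.IsSplitTorusWith (Fin r' → ℤ) T₂)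
    (P : ℕ → Over (Spec (CommRingCat.of R))) (m : ∀ k, P k ⟶ G)
    (hm₁ : ∀ k, ∃ g : P k ⟶ T₁, g ≫ j₁ = m k ∧ AlgGrp.IsKernel g ((𝟙 T₁ : T₁ ⟶ T₁) ^ (q ^ k)))
    (hm₂ : ∀ k, ∃ g : P k ⟶ T₂, g ≫ j₂ = m k) : ∃ ψ : T₁ ⟶ T₂, ψ ≫ j₂ = j₁ := by
  obtain ⟨e₁⟩ := h₁
  obtain ⟨e₂⟩ := h₂
  have hF : AddGroup.FG (Fin r' → ℤ) := Module.Finite.iff_addGroup_fg.mp inferInstance
  obtain ⟨χ, hχ⟩ := SubTorLoc.exists_hom hq hF ((RedIso.und e₁).inv ≫ j₁) ((RedIso.und e₂).inv ≫ j₂) P m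
    (fun k => by
      obtain ⟨g, hg, hker⟩ := hm₁ k
      exact ⟨g ≫ (RedIso.und e₁).hom, by rw [Category.assoc, Iso.hom_inv_id_assoc, hg],
        torsion_iso (RedIso.und e₁) hker⟩)
    (fun k => by
      obtain ⟨g, hg⟩ := hm₂ k
      exact ⟨g ≫ (RedIso.und e₂).hom, by rw [Category.assoc, Iso.hom_inv_id_assoc, hg]⟩)
  refine ⟨(RedIso.und e₁).hom ≫ Red.DSmap _ χ ≫ (RedIso.und e₂).inv, ?_⟩
  rw [Category.assoc, Category.assoc, ← hχ, Iso.hom_inv_id_assoc]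

variable {S : Scheme.{u}} {G : Over S}

/-- A factorization through a monomorphism can be checked étale locally. -/
theorem exists_factor_of_etale {A B : Over S} (a : A ⟶ G) (b : B ⟶ G) [Mono b]
    (h : ∀ s : S, ∃ (V : Scheme.{u}) (v : V ⟶ S), Etale v ∧ s ∈ Set.range v ∧
      ∃ χ : Red.bc v A ⟶ Red.bc v B, χ ≫ (Over.pullback v).map b = (Over.pullback v).map a) :
    ∃ ψ : A ⟶ B, ψ ≫ b = a := by
  choose V v hv hs χ hχ using h
  have hm : Mono (pullback.fst a b) := inferInstance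
  have hcov : Parab.EtHom.IsCov v := ⟨fun i => by have := hv i; infer_instance,
    fun i => by have := hv i; infer_instance, fun s => ⟨s, hs s⟩⟩
  have key : ∀ s, IsIso ((Over.pullback (v s)).map (pullback.fst a b)) := by
    intro s
    have hm' : Mono ((Over.pullback (v s)).map (pullback.fst a b)) := inferInstance
    have hp : IsPullback ((Over.pullback (v s)).map (pullback.fst a b)) ((Over.pullback (v s)).map (pullback.snd a b))
        ((Over.pullback (v s)).map a) ((Over.pullback (v s)).map b) :=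
      (IsPullback.of_hasPullback a b).map (Over.pullback (v s))
    let σ : Red.bc (v s) A ⟶ Red.bc (v s) (pullback a b) := hp.lift (𝟙 _) (χ s) (by rw [Category.id_comp, hχ])
    have hσ : σ ≫ (Over.pullback (v s)).map (pullback.fst a b) = 𝟙 _ := hp.lift_fst _ _ _
    exact ⟨σ, by rw [← cancel_mono ((Over.pullback (v s)).map (pullback.fst a b)), Category.assoc, hσ, Category.comp_id,
      Category.id_comp], hσ⟩
  have h2 : (MorphismProperty.isomorphisms Scheme.{u}) (pullback.fst a b).left :=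
    Parab.EtHom.of_cover (MorphismProperty.isomorphisms Scheme.{u}) hcov (pullback.fst a b) fun s => by
      have := key s
      exact inferInstanceAs (IsIso ((Over.forget (V s)).map ((Over.pullback (v s)).map (pullback.fst a b))))
  have h3 : IsIso (pullback.fst a b) := by
    have : IsIso ((Over.forget S).map (pullback.fst a b)) := h2
    exact isIso_of_reflects_iso _ (Over.forget S)
  exact ⟨inv (pullback.fst a b) ≫ pullback.snd a b, by
    rw [Category.assoc, ← pullback.condition, IsIso.inv_hom_id_assoc]⟩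

variable [IsLocallyNoetherian S] [GrpObj G] {T₁ T₂ : Over S} [GrpObj T₁] [GrpObj T₂] {q : ℕ}

/-- **Inclusions between subtori are detected on torsion.** -/
theorem exists_le (hq : 1 < q) (j₁ : T₁ ⟶ G) [IsMonHom j₁] (j₂ : T₂ ⟶ G) [IsMonHom j₂] [Mono j₂]
    (h₁ : Red.IsTorus T₁) (h₂ : Red.IsTorus T₂) (P : ℕ → Over S) (m : ∀ k, P k ⟶ G)
    (hm₁ : ∀ k, ∃ g : P k ⟶ T₁, g ≫ j₁ = m k ∧ AlgGrp.IsKernel g ((𝟙 T₁ : T₁ ⟶ T₁) ^ (q ^ k)))
    (hm₂ : ∀ k, ∃ g : P k ⟶ T₂, g ≫ j₂ = m k) : ∃ ψ : T₁ ⟶ T₂, ψ ≫ j₂ = j₁ := by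
  refine exists_factor_of_etale j₁ j₂ fun s => ?_
  obtain ⟨C, _, v, r, r', hv, hs, hc, hN, hs₁, hs₂⟩ := SubTorChart.exists_chart h₁ h₂ s
  have hnt : Nontrivial C := by
    obtain ⟨x⟩ : Nonempty ↥(Spec (CommRingCat.of C)) := inferInstance
    exact PrimeSpectrum.nonempty_iff_nontrivial.mp ⟨x⟩
  refine ⟨_, v, hv, hs, split_le hq ((Over.pullback v).map j₁) ((Over.pullback v).map j₂) hs₁ hs₂
    (fun k => Red.bc v (P k)) (fun k => (Over.pullback v).map (m k)) (fun k => ?_) fun k => ?_⟩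
  · obtain ⟨g, hg, hker⟩ := hm₁ k
    exact ⟨(Over.pullback v).map g, by rw [← Functor.map_comp, hg], torsion_bc v hker⟩
  · obtain ⟨g, hg⟩ := hm₂ k
    exact ⟨(Over.pullback v).map g, by rw [← Functor.map_comp, hg]⟩

/-- **Two subtori of `G` with the same `q^k`-torsion coincide.** -/
theorem exists_iso (hq : 1 < q) (j₁ : T₁ ⟶ G) [IsMonHom j₁] [Mono j₁] (j₂ : T₂ ⟶ G) [IsMonHom j₂] [Mono j₂]
    (h₁ : Red.IsTorus T₁) (h₂ : Red.IsTorus T₂) (P : ℕ → Over S) (m : ∀ k, P k ⟶ G)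
    (hm₁ : ∀ k, ∃ g : P k ⟶ T₁, g ≫ j₁ = m k ∧ AlgGrp.IsKernel g ((𝟙 T₁ : T₁ ⟶ T₁) ^ (q ^ k)))
    (hm₂ : ∀ k, ∃ g : P k ⟶ T₂, g ≫ j₂ = m k ∧ AlgGrp.IsKernel g ((𝟙 T₂ : T₂ ⟶ T₂) ^ (q ^ k))) :
    ∃ φ : T₁ ≅ T₂, φ.hom ≫ j₂ = j₁ := by
  obtain ⟨u, hu⟩ := exists_le hq j₁ j₂ h₁ h₂ P m hm₁ fun k => (hm₂ k).imp fun g hg => hg.1
  obtain ⟨v, hv⟩ := exists_le hq j₂ j₁ h₂ h₁ P m hm₂ fun k => (hm₁ k).imp fun g hg => hg.1
  exact ⟨⟨u, v, by rw [← cancel_mono j₁, Category.assoc, hv, hu, Category.id_comp],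
    by rw [← cancel_mono j₂, Category.assoc, hu, hv, Category.id_comp]⟩, hu⟩

end K207.SubTor
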