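import Groth.Agent.SGA3x.K15.CartSub
import Groth.Agent.SGA3x.K15.CentUniq
import Groth.Agent.Sga3.H799.Bc
import Groth.Agent.Sga3.H799.FibCrit
import Groth.Agent.Sga3.H831.CartBc

/-!
# Transporters of maximal tori and of their centralizers into a subgroup containing Cartan subgroups

`i : H ⟶ G` a monomorphism of smooth groups such that the geometric fibres of `H` contain a Cartan subgroup of those
of `G`, `t : T ⟶ G` a maximal torus with centralizer `c : C ⟶ G`:
* `exists_factor_field`: over an algebraically closed field `T ⊆ H` implies `C ⊆ H`;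
* `exists_factor`: the same over a base;
* `transp_iff`: a point of `G` transports `T` into `H` iff it transports `C` into `H`.
-/

set_option autoImplicit false
universe u
open CategoryTheory MonoidalCategory CartesianMonoidalCategory MonObj GrpObj AlgebraicGeometry Limits

namespace K207.CartIn

open Groth.Agent Groth.Agent.Sga3.H784.Conj Groth.Agent.Sga3.H798 K15.CartSub
open Groth.Agent.Sga3B Groth.Agent.Sga3B.RedIso Groth.Agent.Sga3B.BcNat Groth.Agent.Sga3B.BcPts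
open Groth.Agent.Sga3.H799

section Field

variable {K : Type u} [Field K] [IsAlgClosed K]
  {G H C' T : Over (Spec (CommRingCat.of K))} [GrpObj G] [GrpObj H] [GrpObj C'] [GrpObj T]

/-- Over an algebraically closed field: if `H` contains a Cartan subgroup of `G`, then the centralizer of a maximal
torus of `G` contained in `H` is contained in `H`. -/
theorem exists_factor_field [LocallyOfFiniteType H.hom] (i : H ⟶ G) [IsMonHom i] [Mono i] (c' : C' ⟶ H)
    (h' : SGA3x.IsCartanOver K (c' ≫ i)) (t : T ⟶ H) (ht : Red.IsMaximalTorus (t ≫ i))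
    {X : Over (Spec (CommRingCat.of K))} (a : X ⟶ G)
    (ha : ∀ (X' : Over (Spec (CommRingCat.of K))) (x : X' ⟶ X) (u : X' ⟶ T),
      (x ≫ a) * (u ≫ t ≫ i) = (u ≫ t ≫ i) * (x ≫ a)) : ∃ b : X ⟶ H, b ≫ i = a := by
  obtain ⟨h1', h2', T', _, j', hj', hc'⟩ := h'
  have hj1' := hj'.1
  obtain ⟨t', ht'⟩ := exists_factor_of_isTorus hj'.2.2.1 hc'
  obtain rfl : (t' ≫ c') ≫ i = j' := by rw [Category.assoc, ht']
  have hmax' := MaxTorCent.isMaximalTorus_of_comp (t' ≫ c') i hj'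
  have hmax := MaxTorCent.isMaximalTorus_of_comp t i ht
  obtain ⟨g, φ, hφ⟩ := exists_conjBy (t' ≫ c') t hmax' hmax
  obtain ⟨z', hz'⟩ := (hc'.2.2 X (a ≫ (conjIso (g ≫ i)).inv)).2 fun X' x u => by
    have h4 := ha X' x (u ≫ φ.hom)
    rw [Category.assoc, ← Category.assoc φ.hom, ← hφ, ← comp_conjIso_hom, conjIso_hom_comp] at h4
    have h5 := congrArg (fun y => y ≫ (conjIso (g ≫ i)).inv) h4
    simpa only [MonObj.mul_comp, Category.assoc, Iso.hom_inv_id, Category.comp_id] using h5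
  refine ⟨z' ≫ c' ≫ (conjIso g).hom, ?_⟩
  have h7 := congrArg (fun y => y ≫ (conjIso (g ≫ i)).hom) hz'
  simp only [Category.assoc, Iso.inv_hom_id, Category.comp_id] at h7
  rw [← h7]
  have h8 := conjIso_hom_comp g i (z' ≫ c')
  simp only [Category.assoc] at h8 ⊢
  exact h8

end Field

variable {S : Scheme.{u}}

/-- The fibre of `H` at a field-valued point contains a Cartan subgroup of the fibre of `G`. -/
def HasCart {G H : Over S} [GrpObj G] [GrpObj H] (i : H ⟶ G) {K : Type u} [Field K]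
    (x : Spec (CommRingCat.of K) ⟶ S) : Prop :=
  ∃ (C' : Over (Spec (CommRingCat.of K))) (_ : GrpObj C') (c' : C' ⟶ Red.bc x H),
    SGA3x.IsCartanOver K (c' ≫ (Over.pullback x).map i)

section

variable {G H : Over S} [GrpObj G] [GrpObj H] {i : H ⟶ G} {K : Type u} [Field K]

lemma hasCart_comp_iff {S' : Scheme.{u}} (q : Spec (CommRingCat.of K) ⟶ S') (p : S' ⟶ S) :
    HasCart i (q ≫ p) ↔ HasCart ((Over.pullback p).map i) q := by
  constructor
  · rintro ⟨C', _, c', hc⟩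
    refine ⟨C', inferInstance, c' ≫ (und (BcIso.bcCompIso q p H)).hom, ?_⟩
    refine Bc.isCartanOver_of_arrow (Iso.refl (Grp.mk C')) (BcIso.bcCompIso q p G) ?_ hc
    have hid : (und (Iso.refl (Grp.mk C'))).hom = 𝟙 C' := rfl
    rw [hid, Category.id_comp, Category.assoc, Category.assoc, comp_nat q p i]
  · rintro ⟨C', _, c', hc⟩
    refine ⟨C', inferInstance, c' ≫ (und (BcIso.bcCompIso q p H)).inv, ?_⟩
    refine Bc.isCartanOver_of_arrow (Iso.refl (Grp.mk C')) (BcIso.bcCompIso q p G).symm ?_ hc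
    have hid : (und (Iso.refl (Grp.mk C'))).hom = 𝟙 C' := rfl
    rw [hid, Category.id_comp, Category.assoc, Category.assoc]
    congr 1
    exact (comp_nat_inv q p i).symm

lemma hasCart_bc [LocallyOfFiniteType G.hom] {L : Type u} [Field L] {x : Spec (CommRingCat.of K) ⟶ S}
    (σ : Spec (CommRingCat.of L) ⟶ Spec (CommRingCat.of K)) (h : HasCart i x) : HasCart i (σ ≫ x) := by
  rw [hasCart_comp_iff]
  obtain ⟨C', _, c', hc⟩ := h
  refine ⟨_, inferInstance, (Over.pullback σ).map c', ?_⟩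
  rw [← Functor.map_comp]
  exact Bc.isCartanOver_bc σ hc

/-- From geometric points to arbitrary points with values in an algebraically closed field. -/
lemma hasCart_point [LocallyOfFiniteType G.hom] [IsAlgClosed K] (h : ∀ s : S, HasCart i (Red.geomPt s))
    (x : Spec (CommRingCat.of K) ⟶ S) : HasCart i x := by
  obtain ⟨s, θ, rfl⟩ := MaxTorBc636.exists_fac_geomPt x
  exact hasCart_bc θ (h s)

end

/-- **Over a base.** -/
theorem exists_factor {G H T C : Over S} [GrpObj G] [GrpObj H] [GrpObj T] [GrpObj C] [Smooth G.hom]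
    [IsSeparated G.hom] [Smooth H.hom] (i : H ⟶ G) [IsMonHom i] [Mono i]
    (hHC : ∀ s : S, HasCart i (Red.geomPt s)) (t : T ⟶ H) (ht : Red.IsMaximalTorus (t ≫ i))
    (c : C ⟶ G) (hc : Red.IsCentralizerOf (t ≫ i) c) : ∃ f : C ⟶ H, f ≫ i = c := by
  have hm := ht.1
  have htm : IsMonHom t := Sga3C.SubGrp.isMonHom_of_comp_mono t i
  have hil : Mono i.left := inferInstanceAs (Mono ((Over.forget _).map i))
  have hHs : IsSeparated H.hom := by
    rw [← Over.w i]
    infer_instance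
  have hc1 := hc.1
  have hc2 := hc.2.1
  obtain ⟨hCs, hCc, -⟩ := K15.CentUniq.smooth_and_closed ht.2.2.1 hc
  obtain ⟨D, _, d, hd, hdcl, hds, -⟩ := CentSep.exists_smooth_centralizer t ht.2.2.1
  have hd1 := hd.1
  have hd2 := hd.2.1
  obtain ⟨f, hf⟩ := (hc.2.2 D (d ≫ i)).2 fun X' x u => by
    have h3 := (hd.2.2 D d).1 ⟨𝟙 D, Category.id_comp d⟩ X' x u
    have h4 := congrArg (fun y => y ≫ i) h3
    simpa only [MonObj.mul_comp, Category.assoc] using h4
  have hfm : Mono f := by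
    have : Mono (f ≫ c) := by rw [hf]; infer_instance
    exact mono_of_mono f c
  have hiso : IsIso f := FibCrit.isIso_of_points f fun s => by
    refine ⟨AlgebraicClosure (S.residueField s), inferInstance, Red.geomPt s, ?_, ?_⟩
    · exact Sga3.H831.CartBc.geomPt_apply s _
    let x := Red.geomPt s
    obtain ⟨C', _, c', hc'⟩ := hHC s
    have hct := SplitBc264.isCentralizerOf_bc x hc
    have hdt := SplitBc264.isCentralizerOf_bc x hd
    have hmt : Red.IsMaximalTorus ((Over.pullback x).map t ≫ (Over.pullback x).map i) := by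
      rw [← Functor.map_comp]
      exact Bc.isMaximalTorus_bc x ht
    obtain ⟨w, hw⟩ := exists_factor_field ((Over.pullback x).map i) c' hc' ((Over.pullback x).map t) hmt
      ((Over.pullback x).map c) fun X' y u => by
        have h5 := (hct.2.2 _ ((Over.pullback x).map c)).1 ⟨𝟙 _, Category.id_comp _⟩ X' y u
        rwa [Functor.map_comp] at h5
    obtain ⟨v, hv⟩ := (hdt.2.2 _ w).2 fun X' y u => by
      have h5 := (hct.2.2 _ ((Over.pullback x).map c)).1 ⟨𝟙 _, Category.id_comp _⟩ X' y u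
      rw [← cancel_mono ((Over.pullback x).map i), MonObj.mul_comp, MonObj.mul_comp, Category.assoc, hw,
        Category.assoc, ← Functor.map_comp]
      exact h5
    have hvf : v ≫ (Over.pullback x).map f = 𝟙 _ := by
      rw [← cancel_mono ((Over.pullback x).map c), Category.assoc, ← Functor.map_comp, hf, Functor.map_comp,
        ← Category.assoc, hv, hw, Category.id_comp]
    have hse : IsSplitEpi ((Over.pullback x).map f) := ⟨⟨⟨v, hvf⟩⟩⟩
    exact isIso_of_mono_of_isSplitEpi _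
  exact ⟨inv f ≫ d, by rw [Category.assoc, ← hf, IsIso.inv_hom_id_assoc]⟩

/-- **Transporters.** -/
theorem transp_of_torus {G H T C : Over S} [GrpObj G] [GrpObj H] [GrpObj T] [GrpObj C] [Smooth G.hom]
    [IsSeparated G.hom] [Smooth H.hom] (i : H ⟶ G) [IsMonHom i] [Mono i]
    (hHC : ∀ s : S, HasCart i (Red.geomPt s)) (t : T ⟶ G) (ht : Red.IsMaximalTorus t)
    (c : C ⟶ G) (hc : Red.IsCentralizerOf t c) {X : Over S} (g : X ⟶ G)
    (hg : ∀ (X' : Over S) (x : X' ⟶ X) (y : X' ⟶ T), ∃ h : X' ⟶ H, (x ≫ g) * (y ≫ t) * (x ≫ g)⁻¹ = h ≫ i)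
    (X' : Over S) (x : X' ⟶ X) (y : X' ⟶ C) : ∃ h : X' ⟶ H, (x ≫ g) * (y ≫ c) * (x ≫ g)⁻¹ = h ≫ i := by
  let p : X.left ⟶ S := X.hom
  let ε : (Over.map p).obj (𝟙_ (Over X.left)) ⟶ X := Over.homMk (𝟙 _) (by
    change 𝟙 _ ≫ X.hom = 𝟙 _ ≫ X.hom
    rfl)
  let γ : 𝟙_ (Over X.left) ⟶ Red.bc p G := bcMulEquiv p _ G (ε ≫ g)
  have hγ : ∀ (Y : Over X.left), toUnit Y ≫ γ = bcMulEquiv p Y G ((Over.map p).map (toUnit Y) ≫ ε ≫ g) :=
    fun Y => (comp_bcEquiv p (toUnit Y) (ε ≫ g)).symm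
  let ψ : Grp.mk (Red.bc p G) ≅ Grp.mk (Red.bc p G) := Grp.mkIso (conjIso γ)
    (IsMonHom.one_hom (f := (conjIso γ).hom)) (IsMonHom.mul_hom (f := (conjIso γ).hom))
  have hψ : (und ψ).hom = (conjIso γ).hom := rfl
  -- the conjugate torus factors through `H`
  obtain ⟨w, hw⟩ := hg ((Over.map p).obj (Red.bc p T)) ((Over.map p).map (toUnit _) ≫ ε)
    ((bcEquiv p _ T).symm (𝟙 _))
  have key : ∀ {Q : Over S} (q : Q ⟶ G) (Y : Over X.left) (r : (Over.map p).obj Y ⟶ Q)
      (h : (Over.map p).obj Y ⟶ H),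
      (((Over.map p).map (toUnit Y) ≫ ε) ≫ g) * (r ≫ q) * (((Over.map p).map (toUnit Y) ≫ ε) ≫ g)⁻¹ = h ≫ i ↔
      bcEquiv p Y Q r ≫ (Over.pullback p).map q ≫ (conjIso γ).hom = bcEquiv p Y H h ≫ (Over.pullback p).map i := by
    intro Q q Y r h
    have e1 : bcEquiv p Y G (r ≫ q) = bcEquiv p Y Q r ≫ (Over.pullback p).map q := bcEquiv_comp _ _ _
    have e2 : bcEquiv p Y G (h ≫ i) = bcEquiv p Y H h ≫ (Over.pullback p).map i := bcEquiv_comp _ _ _
    rw [← Category.assoc, ← e1, ← e2, comp_conjIso_hom, hγ, ← Category.assoc]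
    change _ ↔ _ * bcMulEquiv p Y G (r ≫ q) * _ = bcMulEquiv p Y G (h ≫ i)
    rw [← map_inv, ← map_mul, ← map_mul]
    exact (bcMulEquiv p Y G).injective.eq_iff.symm
  rw [key, Equiv.apply_symm_apply, Category.id_comp] at hw
  have hm : Red.IsMaximalTorus ((Over.pullback p).map t ≫ (conjIso γ).hom) :=
    AlgBc.isMaximalTorus_of_arrow (Iso.refl (Grp.mk (Red.bc p T))) ψ (Category.id_comp _).symm
      (Bc.isMaximalTorus_bc p ht)
  have hcc : Red.IsCentralizerOf ((Over.pullback p).map t ≫ (conjIso γ).hom)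
      ((Over.pullback p).map c ≫ (conjIso γ).hom) := by
    refine Bc.isCentralizerOf_of_arrow (Iso.refl (Grp.mk (Red.bc p T))) (Iso.refl (Grp.mk (Red.bc p C))) ψ ?_ ?_
      (SplitBc264.isCentralizerOf_bc p hc)
    · exact (Category.id_comp _).symm
    · exact (Category.id_comp _).symm
  rw [hw] at hm hcc
  obtain ⟨f, hf⟩ := exists_factor ((Over.pullback p).map i) (fun s => (hasCart_comp_iff _ _).1 (hasCart_point hHC _)) _
    hm _ hcc
  -- now evaluate
  let Y : Over X.left := Over.mk x.left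
  let ε' : (Over.map p).obj Y ≅ X' := Over.isoMk (Iso.refl _) (by simp [Y, p])
  have hε' : ((Over.map p).map (toUnit Y) ≫ ε) = ε'.hom ≫ x := by
    ext1
    simp [Y, ε, ε']
  obtain ⟨h, hh⟩ : ∃ h : (Over.map p).obj Y ⟶ H,
      (((Over.map p).map (toUnit Y) ≫ ε) ≫ g) * ((ε'.hom ≫ y) ≫ c) * (((Over.map p).map (toUnit Y) ≫ ε) ≫ g)⁻¹ =
        h ≫ i := by
    refine ⟨(bcEquiv p Y H).symm (bcEquiv p Y C (ε'.hom ≫ y) ≫ f), ?_⟩
    rw [key, Equiv.apply_symm_apply, Category.assoc, hf]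
  rw [hε'] at hh
  refine ⟨ε'.inv ≫ h, ?_⟩
  rw [← cancel_epi ε'.hom, MonObj.comp_mul, MonObj.comp_mul, GrpObj.comp_inv, Category.assoc, Iso.hom_inv_id_assoc]
  simpa only [Category.assoc] using hh

/-- **Transporters of a maximal torus and of its centralizer.** -/
theorem transp_iff {G H T C : Over S} [GrpObj G] [GrpObj H] [GrpObj T] [GrpObj C] [Smooth G.hom]
    [IsSeparated G.hom] [Smooth H.hom] (i : H ⟶ G) [IsMonHom i] [Mono i]
    (hHC : ∀ s : S, HasCart i (Red.geomPt s)) (t : T ⟶ G) (ht : Red.IsMaximalTorus t)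
    (c : C ⟶ G) (hc : Red.IsCentralizerOf t c) {X : Over S} (g : X ⟶ G) :
    (∀ (X' : Over S) (x : X' ⟶ X) (y : X' ⟶ T), ∃ h : X' ⟶ H, (x ≫ g) * (y ≫ t) * (x ≫ g)⁻¹ = h ≫ i) ↔
    (∀ (X' : Over S) (x : X' ⟶ X) (y : X' ⟶ C), ∃ h : X' ⟶ H, (x ≫ g) * (y ≫ c) * (x ≫ g)⁻¹ = h ≫ i) := by
  constructor
  · exact fun hg X' x y => transp_of_torus i hHC t ht c hc g hg X' x y
  · intro hg X' x y
    have hm := ht.1
    obtain ⟨z, hz⟩ := exists_factor_of_isTorus ht.2.2.1 hc
    obtain ⟨h, hh⟩ := hg X' x (y ≫ z)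
    exact ⟨h, by rw [← hh, Category.assoc, hz]⟩

/-- The transporter condition at a point of a base change. -/
theorem transp_of_bc {B : Scheme.{u}} (p : B ⟶ S) {Q G H : Over S} [GrpObj G] [GrpObj H] (q : Q ⟶ G) (i : H ⟶ G)
    {Y : Over B} (γ : Y ⟶ Red.bc p G)
    (h : ∀ (Y' : Over B) (y : Y' ⟶ Y) (r : Y' ⟶ Red.bc p Q), ∃ k : Y' ⟶ Red.bc p H,
      (y ≫ γ) * (r ≫ (Over.pullback p).map q) * (y ≫ γ)⁻¹ = k ≫ (Over.pullback p).map i)
    (X' : Over S) (x : X' ⟶ (Over.map p).obj Y) (r : X' ⟶ Q) :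
    ∃ k : X' ⟶ H, (x ≫ (bcMulEquiv p Y G).symm γ) * (r ≫ q) * (x ≫ (bcMulEquiv p Y G).symm γ)⁻¹ = k ≫ i := by
  let Y' : Over B := Over.mk (x.left ≫ Y.hom)
  let ε : (Over.map p).obj Y' ≅ X' := Over.isoMk (Iso.refl _) (by
    have := Over.w x
    simp only [Over.map_obj_hom] at this
    simp [Y', this])
  let y : Y' ⟶ Y := Over.homMk x.left
  have h1 : (Over.map p).map y = ε.hom ≫ x := by
    ext1
    exact (Category.id_comp _).symm
  obtain ⟨k, hk⟩ := h Y' y (bcEquiv p Y' Q (ε.hom ≫ r))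
  refine ⟨ε.inv ≫ (bcEquiv p Y' H).symm k, ?_⟩
  rw [← cancel_epi ε.hom, MonObj.comp_mul, MonObj.comp_mul, GrpObj.comp_inv, Category.assoc, Iso.hom_inv_id_assoc]
  apply (bcMulEquiv p Y' G).injective
  rw [map_mul, map_mul, map_inv]
  have e1 : bcMulEquiv p Y' G (ε.hom ≫ x ≫ (bcMulEquiv p Y G).symm γ) = y ≫ γ := by
    rw [← Category.assoc, ← h1]
    have := comp_bcEquiv p y ((bcMulEquiv p Y G).symm γ)
    refine this.trans ?_
    congr 1
    exact (bcMulEquiv p Y G).apply_symm_apply γ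
  have e2 : bcMulEquiv p Y' G (ε.hom ≫ r ≫ q) = bcEquiv p Y' Q (ε.hom ≫ r) ≫ (Over.pullback p).map q := by
    rw [← Category.assoc]
    exact bcEquiv_comp _ _ _
  have e3 : bcMulEquiv p Y' G ((bcEquiv p Y' H).symm k ≫ i) = k ≫ (Over.pullback p).map i := by
    refine (bcEquiv_comp p _ i).trans ?_
    rw [Equiv.apply_symm_apply]
  rw [e1, e2, e3, hk]

end K207.CartIn
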