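import Groth.Agent.SGA3.K207.SubTorDesc
import Groth.Agent.SGA3x.K211.TorsQ
import Groth.Agent.SGA3x.K6.Basic
import Groth.Agent.Sga3B.Par.DynDesc383
import Groth.Agent.Sga3B.MaxTorusCrit
import Groth.Agent.Sga3B.BorSpan613

/-!
# Homomorphisms `D(ℤ^r) ⟶ G` inducing given torsion subgroups

`S` a scheme, `G` a group over `S`, `Phi : D_S(ℤ^r) ⟶ G` a homomorphism, `m k : M k ⟶ G` morphisms.

* `D q Phi m v`: over `v : S' ⟶ S`, `Phi` is a monomorphism and its `q^k`-torsion is `M k`;
* `D.comp`, `D.descend`: base change and fpqc descent;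
* `mono_of_fibres`: `Phi` is a monomorphism as soon as its fibres are;
* `FD q m v`: over `v`, there is a subtorus of `G` whose `q^k`-torsion is `M k`; `FD.comp`: base change;
* `D.fd`, `final`: `D` implies `FD`.
-/

set_option autoImplicit false
universe u
open CategoryTheory MonoidalCategory CartesianMonoidalCategory MonObj GrpObj AlgebraicGeometry Limits

namespace K207.FibDesc

open Groth.Agent Groth.Agent.Sga3B Groth.Agent.Sga3B.MT K211.TorsQ K207.SubTor

section nat

variable {S S' S'' : Scheme.{u}} (w : S'' ⟶ S') (v : S' ⟶ S)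

lemma nat_hom {X Y : Over S} (f : X ⟶ Y) : (Over.pullback (w ≫ v)).map f ≫ (Over.pullbackComp w v).hom.app Y =
    (Over.pullbackComp w v).hom.app X ≫ (Over.pullback w).map ((Over.pullback v).map f) :=
  (Over.pullbackComp w v).hom.naturality f

lemma hom_inv {X : Over S} : (Over.pullbackComp w v).hom.app X ≫ (Over.pullbackComp w v).inv.app X = 𝟙 _ := by
  rw [← NatTrans.comp_app, Iso.hom_inv_id, NatTrans.id_app]

lemma inv_hom {X : Over S} : (Over.pullbackComp w v).inv.app X ≫ (Over.pullbackComp w v).hom.app X = 𝟙 _ := by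
  rw [← NatTrans.comp_app, Iso.inv_hom_id, NatTrans.id_app]

lemma map_eq {X Y : Over S} (f : X ⟶ Y) : (Over.pullback (w ≫ v)).map f =
    (Over.pullbackComp w v).hom.app X ≫ (Over.pullback w).map ((Over.pullback v).map f) ≫
      (Over.pullbackComp w v).inv.app Y := by
  rw [← Category.assoc, ← nat_hom, Category.assoc, hom_inv, Category.comp_id]

lemma map_map_eq {X Y : Over S} (f : X ⟶ Y) : (Over.pullback w).map ((Over.pullback v).map f) =
    (Over.pullbackComp w v).inv.app X ≫ (Over.pullback (w ≫ v)).map f ≫ (Over.pullbackComp w v).hom.app Y := by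
  rw [nat_hom, ← Category.assoc, inv_hom, Category.id_comp]

theorem mono_comp_iff {X Y : Over S} (f : X ⟶ Y) :
    Mono ((Over.pullback (w ≫ v)).map f) ↔ Mono ((Over.pullback w).map ((Over.pullback v).map f)) := by
  constructor
  · intro h
    rw [map_map_eq]
    have := mono_comp ((Over.pullback (w ≫ v)).map f) ((Over.pullbackComp w v).hom.app Y)
    exact mono_comp _ _
  · intro h
    rw [map_eq]
    have := mono_comp ((Over.pullback w).map ((Over.pullback v).map f)) ((Over.pullbackComp w v).inv.app Y)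
    exact mono_comp _ _

end nat

/-- Monomorphisms descend along faithfully flat quasi-compact morphisms. -/
theorem mono_of_bc {S S' : Scheme.{u}} (w : S' ⟶ S) [Flat w] [Surjective w] [QuasiCompact w] {X Y : Over S}
    (f : X ⟶ Y) (h : Mono ((Over.pullback w).map f)) : Mono f := by
  have hp : IsPullback ((Over.pullback w).map (pullback.fst f f)) ((Over.pullback w).map (pullback.snd f f))
      ((Over.pullback w).map f) ((Over.pullback w).map f) := (IsPullback.of_hasPullback f f).map (Over.pullback w)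
  have hd : pullback.diagonal f ≫ pullback.fst f f = 𝟙 _ := pullback.diagonal_fst f
  have h1 : IsIso ((Over.pullback w).map (pullback.fst f f)) := by
    have h2 : (Over.pullback w).map (pullback.fst f f) = (Over.pullback w).map (pullback.snd f f) := by
      rw [← cancel_mono ((Over.pullback w).map f)]
      exact hp.w
    refine ⟨(Over.pullback w).map (pullback.diagonal f), ?_, ?_⟩
    · apply hp.hom_ext
      · rw [Category.assoc, ← Functor.map_comp, hd, CategoryTheory.Functor.map_id, Category.comp_id, Category.id_comp]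
      · rw [Category.assoc, ← Functor.map_comp, pullback.diagonal_snd, CategoryTheory.Functor.map_id, Category.comp_id,
          Category.id_comp, h2]
    · rw [← Functor.map_comp, hd, CategoryTheory.Functor.map_id]
  have h2 : IsIso (pullback.fst f f) := Par.DynDesc383.isIso_of_bc w _
  have h3 : IsIso (pullback.diagonal f) := by
    have h4 : pullback.diagonal f = inv (pullback.fst f f) := by
      rw [← cancel_mono (pullback.fst f f), IsIso.inv_hom_id, hd]
    rw [h4]
    infer_instance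
  exact (pullback.isIso_diagonal_iff f).1 h3

variable {S S' S'' : Scheme.{u}} {G : Over S} {r : ℕ}

/-- Over `v : S' ⟶ S`, the morphism `Phi : D(ℤ^r) ⟶ G` is a monomorphism and the `M k` are its `q^k`-torsion. -/
def D (q : ℕ) (Phi : Red.DS S (Fin r → ℤ) ⟶ G) {M : ℕ → Over S} (m : ∀ k, M k ⟶ G) (v : S' ⟶ S) : Prop :=
  Mono ((Over.pullback v).map Phi) ∧ ∀ k, ∃ e : Red.bc v (Red.DS S (Fin r → ZMod (q ^ k))) ≅ Red.bc v (M k),
    e.hom ≫ (Over.pullback v).map (m k) = (Over.pullback v).map (Red.DSmap S (cz r (q ^ k)) ≫ Phi)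

variable {q : ℕ} {Phi : Red.DS S (Fin r → ℤ) ⟶ G} {M : ℕ → Over S} {m : ∀ k, M k ⟶ G}

theorem D.comp {v : S' ⟶ S} (h : D q Phi m v) (w : S'' ⟶ S') : D q Phi m (w ≫ v) := by
  obtain ⟨h1, h2⟩ := h
  refine ⟨(mono_comp_iff w v Phi).2 inferInstance, fun k => ?_⟩
  obtain ⟨e, he⟩ := h2 k
  refine ⟨(Over.pullbackComp w v).app _ ≪≫ (Over.pullback w).mapIso e ≪≫ ((Over.pullbackComp w v).app _).symm, ?_⟩
  rw [map_eq w v (m k), map_eq w v (Red.DSmap S (cz r (q ^ k)) ≫ Phi), ← he, Functor.map_comp]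
  change ((Over.pullbackComp w v).hom.app _ ≫ (Over.pullback w).map e.hom ≫ (Over.pullbackComp w v).inv.app _) ≫ _ = _
  simp only [Category.assoc]
  rw [← Category.assoc ((Over.pullbackComp w v).inv.app (M k)), inv_hom, Category.id_comp]

/-- Descent along faithfully flat quasi-compact morphisms. -/
theorem D.descend {v : S' ⟶ S} (w : S'' ⟶ S') [Flat w] [Surjective w] [QuasiCompact w]
    (hm : ∀ k, Mono (m k)) (h : D q Phi m (w ≫ v)) : D q Phi m v := by
  obtain ⟨h1, h2⟩ := h
  refine ⟨mono_of_bc w _ ((mono_comp_iff w v Phi).1 h1), fun k => ?_⟩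
  obtain ⟨e, he⟩ := h2 k
  have hmk := hm k
  have hmv : Mono ((Over.pullback v).map (m k)) := inferInstance
  have hmw : Mono ((Over.pullback w).map ((Over.pullback v).map (m k))) := inferInstance
  let a : (Over.pullback w).obj (Red.bc v (Red.DS S (Fin r → ZMod (q ^ k)))) ⟶
      (Over.pullback w).obj (Red.bc v (M k)) :=
    (Over.pullbackComp w v).inv.app _ ≫ e.hom ≫ (Over.pullbackComp w v).hom.app _
  have ha : a ≫ (Over.pullback w).map ((Over.pullback v).map (m k)) =
      (Over.pullback w).map ((Over.pullback v).map (Red.DSmap S (cz r (q ^ k)) ≫ Phi)) := by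
    rw [map_map_eq w v (Red.DSmap S (cz r (q ^ k)) ≫ Phi), ← he]
    simp only [a, Category.assoc]
    rw [← nat_hom]
  have hai : IsIso a := by
    have h3 : IsIso ((Over.pullbackComp w v).inv.app (Red.DS S (Fin r → ZMod (q ^ k)))) := inferInstance
    have h4 : IsIso ((Over.pullbackComp w v).hom.app (M k)) := inferInstance
    have h5 : IsIso (e.hom ≫ (Over.pullbackComp w v).hom.app (M k)) := IsIso.comp_isIso
    exact IsIso.comp_isIso
  obtain ⟨ψ, hψ⟩ := Par.DynDesc383.exists_factor_of_bc w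
    ((Over.pullback v).map (Red.DSmap S (cz r (q ^ k)) ≫ Phi)) ((Over.pullback v).map (m k)) ⟨a, ha⟩
  have h3 : (Over.pullback w).map ψ = a := by
    rw [← cancel_mono ((Over.pullback w).map ((Over.pullback v).map (m k))), ← Functor.map_comp, hψ, ha]
  have h4 : IsIso ((Over.pullback w).map ψ) := by
    rw [h3]
    exact hai
  have h5 : IsIso ψ := Par.DynDesc383.isIso_of_bc w ψ
  exact ⟨asIso ψ, hψ⟩

/-- A morphism `D(ℤ^r) ⟶ G` is a monomorphism as soon as its fibres are. -/
theorem mono_of_fibres (h : ∀ s : S, Mono ((Over.pullback (S.fromSpecResidueField s)).map Phi)) : Mono Phi := by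
  have hsm : Smooth (Red.DS S (Fin r → ℤ)).hom := TorusAlgClosed.smooth_of_isTorus (MaxTorusCrit.isTorus_DS S r)
  have h0 : LocallyOfFiniteType (Red.DS S (Fin r → ℤ)).hom := inferInstance
  have h1 : LocallyOfFiniteType Phi.left := by
    have h2 : LocallyOfFiniteType (Phi.left ≫ G.hom) := by rw [Over.w]; exact h0
    exact locallyOfFiniteType_of_comp Phi.left G.hom
  have h2 : Mono Phi.left := K6.Basic.mono_of_fibres Phi fun s => by
    have := h s
    exact inferInstanceAs (Mono ((Over.forget _).map ((Over.pullback (S.fromSpecResidueField s)).map Phi)))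
  exact (Over.forget S).mono_of_mono_map h2

/-- The homomorphism `D((ℤ/n)^r) ⟶ D(ℤ^r)` is the kernel of the `n`-th power. -/
theorem isKernel_cz (S : Scheme.{u}) (r n : ℕ) : AlgGrp.IsKernel (Red.DSmap S (cz r n))
    ((𝟙 (Red.DS S (Fin r → ℤ)) : Red.DS S (Fin r → ℤ) ⟶ Red.DS S (Fin r → ℤ)) ^ n) := by
  have hm : Mono (Red.DSmap S (cz r n)) := BorSpan613.mono_DSmap S _ (cz_surjective r n)
  rw [isKernel_pow_iff]
  refine ⟨DSmap_cz_pow n, fun X x hx => ?_⟩
  obtain ⟨y, hy⟩ := exists_fac x n hx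
  exact ⟨y, hy.symm, fun z hz => by rw [← cancel_mono (Red.DSmap S (cz r n)), ← hy]; exact hz⟩

/-- Over `v`, there is a subtorus of `G` whose `q^k`-torsion is `M k`. -/
def FD (q : ℕ) {S S' : Scheme.{u}} {G : Over S} [GrpObj G] {M : ℕ → Over S} (m : ∀ k, M k ⟶ G) (v : S' ⟶ S) : Prop :=
  ∃ (T : Over S') (_ : GrpObj T) (t : T ⟶ Red.bc v G), IsMonHom t ∧ Mono t ∧ Red.IsTorus T ∧
    ∀ k, ∃ g : Red.bc v (M k) ⟶ T, g ≫ t = (Over.pullback v).map (m k) ∧
      AlgGrp.IsKernel g ((𝟙 T : T ⟶ T) ^ (q ^ k))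

variable [GrpObj G]

theorem FD.comp {v : S' ⟶ S} (h : FD q m v) (w : S'' ⟶ S') : FD q m (w ≫ v) := by
  obtain ⟨T, gT, t, h1, h2, h3, h4⟩ := h
  exact ⟨Red.bc w T, inferInstance, bcSub w t, isMonHom_bcSub w t, mono_bcSub w t, TorusBc.isTorus_bc _ h3,
    good_bcSub w t h4⟩

/-- A homomorphism `Phi` with `D` gives a subtorus. -/
theorem D.fd [IsMonHom Phi] {v : S' ⟶ S} (h : D q Phi m v) : FD q m v := by
  obtain ⟨h1, h2⟩ := h
  refine ⟨Red.bc v (Red.DS S (Fin r → ℤ)), inferInstance, (Over.pullback v).map Phi, inferInstance, h1,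
    TorusBc.isTorus_bc _ (MaxTorusCrit.isTorus_DS S r), fun k => ?_⟩
  obtain ⟨e, he⟩ := h2 k
  refine ⟨e.inv ≫ (Over.pullback v).map (Red.DSmap S (cz r (q ^ k))), ?_, ?_⟩
  · rw [Category.assoc, ← Functor.map_comp, ← he, Iso.inv_hom_id_assoc]
  · exact isKernel_iso_left e.symm (torsion_bc v (isKernel_cz S r (q ^ k)))

/-- The final step. -/
theorem final [IsMonHom Phi] [Mono Phi]
    (h : ∀ k, ∃ e : Red.DS S (Fin r → ZMod (q ^ k)) ≅ M k, e.hom ≫ m k = Red.DSmap S (cz r (q ^ k)) ≫ Phi) :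
    ∃ (T : Over S) (_ : GrpObj T) (j : T ⟶ G), IsMonHom j ∧ Mono j ∧ Red.IsTorus T ∧
      ∀ k, ∃ g : M k ⟶ T, g ≫ j = m k ∧ AlgGrp.IsKernel g ((𝟙 T : T ⟶ T) ^ (q ^ k)) := by
  refine ⟨Red.DS S (Fin r → ℤ), inferInstance, Phi, inferInstance, inferInstance, MaxTorusCrit.isTorus_DS S r, fun k => ?_⟩
  obtain ⟨e, he⟩ := h k
  refine ⟨e.inv ≫ Red.DSmap S (cz r (q ^ k)), ?_, isKernel_iso_left e.symm (isKernel_cz S r (q ^ k))⟩
  rw [Category.assoc, ← he, Iso.inv_hom_id_assoc]

end K207.FibDesc
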