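import Mathlib.RingTheory.TensorProduct.MvPolynomial
import Mathlib.RingTheory.Flat.Localization
import Mathlib.RingTheory.Flat.Stability
import Mathlib.RingTheory.Flat.TorsionFree
import Mathlib.RingTheory.AlgebraicIndependent.TranscendenceBasis
import Mathlib.RingTheory.LocalRing.ResidueField.Fiber
import Mathlib.RingTheory.Valuation.ValuationRing
import Mathlib.RingTheory.RingHom.Flat
import Mathlib.RingTheory.MvPolynomial.Basic
import Groth.Agent.Flat2B.FibGen

/-!
# Quasi-sections through a point closed in its fibre: algebra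
-/

set_option autoImplicit false
universe u v w
open TensorProduct MvPolynomial

namespace K207.QSecAlg

section nzd

attribute [local instance] Algebra.TensorProduct.rightAlgebra algebraMvPolynomial

/-- If `t` is algebraically independent over `k` in the field extension `L` then `K ⊗ L` is flat over the
polynomial ring `K[T]`. -/
theorem flat_tensor {k K L : Type u} [Field k] [Field K] [Field L] [Algebra k K] [Algebra k L] {n : ℕ}
    (t : Fin n → L) (ht : AlgebraicIndependent k t) :
    (aeval (R := K) (fun i => (1 : K) ⊗ₜ[k] t i) :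
      MvPolynomial (Fin n) K →ₐ[K] K ⊗[k] L).toRingHom.Flat := by
  let S := MvPolynomial (Fin n) k
  let S' := MvPolynomial (Fin n) K
  let T' := K ⊗[k] L
  let _ : Algebra S L := (aeval t : S →ₐ[k] L).toRingHom.toAlgebra
  have : IsScalarTower k S L := IsScalarTower.of_algebraMap_eq fun x => by
    change _ = aeval t (C x)
    rw [aeval_C]
  let φ : S' →ₐ[K] T' := aeval (fun i => (1 : K) ⊗ₜ[k] t i)
  let _ : Algebra S' T' := φ.toRingHom.toAlgebra
  have : IsScalarTower K S' T' := IsScalarTower.of_algebraMap_eq fun x => by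
    change _ = aeval _ (C x)
    rw [aeval_C]
  let _ : Algebra S T' := ((algebraMap L T').comp (algebraMap S L)).toAlgebra
  have : IsScalarTower S L T' := IsScalarTower.of_algebraMap_eq fun x => rfl
  have : IsScalarTower k S' T' := IsScalarTower.of_algebraMap_eq fun x => by
    rw [IsScalarTower.algebraMap_apply k K T', IsScalarTower.algebraMap_apply k K S',
      ← IsScalarTower.algebraMap_apply K S' T']
  have : IsScalarTower S S' T' := IsScalarTower.of_algebraMap_eq' (by
    refine MvPolynomial.ringHom_ext (fun x => ?_) (fun i => ?_)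
    · change (1 : K) ⊗ₜ[k] aeval t (C x) = aeval _ (MvPolynomial.map (algebraMap k K) (C x))
      rw [aeval_C, map_C, aeval_C]
      change (1 : K) ⊗ₜ[k] algebraMap k L x = algebraMap k K x ⊗ₜ[k] (1 : L)
      rw [Algebra.algebraMap_eq_smul_one, Algebra.algebraMap_eq_smul_one, TensorProduct.smul_tmul]
    · change (1 : K) ⊗ₜ[k] aeval t (X i) = aeval _ (MvPolynomial.map (algebraMap k K) (X i))
      rw [aeval_X, map_X, aeval_X])
  have h1 : Algebra.IsPushout k L K T' := inferInstance
  have h2 : Algebra.IsPushout S L S' T' := (Algebra.IsPushout.comp_iff k S K S').1 h1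
  have hinj : Function.Injective (algebraMap S L) := ht
  have hflat : Module.Flat S L := by
    have : FaithfulSMul S L := (faithfulSMul_iff_algebraMap_injective S L).2 hinj
    let _ : Algebra (FractionRing S) L := FractionRing.liftAlgebra S L
    have : IsScalarTower S (FractionRing S) L := FractionRing.isScalarTower_liftAlgebra S L
    have : Module.Flat S (FractionRing S) := IsLocalization.flat _ (nonZeroDivisors S)
    exact Module.Flat.trans S (FractionRing S) L
  have h3 : Algebra.IsPushout S S' L T' := h2.symm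
  exact Module.Flat.isBaseChange S S' L T' h3.out

/-- If `t` is algebraically independent over `k` in the field extension `L` then `K ⊗ L` is torsion-free
over the polynomial ring `K[T]`. -/
theorem eq_zero_of_aeval_mul {k K L : Type u} [Field k] [Field K] [Field L] [Algebra k K] [Algebra k L]
    {n : ℕ} (t : Fin n → L) (ht : AlgebraicIndependent k t) (g : MvPolynomial (Fin n) K) (hg : g ≠ 0)
    (m : K ⊗[k] L) (h : aeval (R := K) (fun i => (1 : K) ⊗ₜ[k] t i) g * m = 0) : m = 0 := by
  have h1 := flat_tensor (K := K) t ht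
  let _ : Algebra (MvPolynomial (Fin n) K) (K ⊗[k] L) :=
    (aeval (R := K) (fun i => (1 : K) ⊗ₜ[k] t i)).toRingHom.toAlgebra
  have h2 : Module.Flat (MvPolynomial (Fin n) K) (K ⊗[k] L) := h1
  have h3 : Module.IsTorsionFree (MvPolynomial (Fin n) K) (K ⊗[k] L) := inferInstance
  have h4 : g • m = 0 := h
  exact (smul_eq_zero.1 h4).resolve_left hg

end nzd

/-- Generization of primes along the extension of fields `k → K`, keeping algebraic independence. -/
theorem exists_prime_le_field {k K B : Type u} [Field k] [Field K] [CommRing B] [Algebra k K]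
    [Algebra k B] {n : ℕ} (t : Fin n → B) (q : Ideal B) [q.IsPrime]
    (ht : q.comap (aeval (R := k) t).toRingHom = ⊥) (P' : Ideal (K ⊗[k] B)) [P'.IsPrime]
    (hqP : q ≤ P'.comap (Algebra.TensorProduct.includeRight : B →ₐ[k] K ⊗[k] B).toRingHom) :
    ∃ q' : Ideal (K ⊗[k] B), q'.IsPrime ∧ q' ≤ P' ∧
      q'.comap (Algebra.TensorProduct.includeRight : B →ₐ[k] K ⊗[k] B).toRingHom = q ∧
      q'.comap (aeval (R := K) (fun i => (1 : K) ⊗ₜ[k] t i)).toRingHom = ⊥ := by
  let L := FractionRing (B ⧸ q)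
  let π : B →ₐ[k] B ⧸ q := Ideal.Quotient.mkₐ k q
  let j : (B ⧸ q) →ₐ[k] L := IsScalarTower.toAlgHom k (B ⧸ q) L
  have hj : Function.Injective j := IsFractionRing.injective (B ⧸ q) L
  let Θ₁ : K ⊗[k] B →ₐ[K] K ⊗[k] (B ⧸ q) := Algebra.TensorProduct.map (AlgHom.id K K) π
  let Θ₂ : K ⊗[k] (B ⧸ q) →ₐ[K] K ⊗[k] L := Algebra.TensorProduct.map (AlgHom.id K K) j
  let Θ : K ⊗[k] B →ₐ[K] K ⊗[k] L := Θ₂.comp Θ₁
  have hΘ₂ : Function.Injective Θ₂ := by
    have := Module.Flat.lTensor_preserves_injective_linearMap (M := K) j.toLinearMap hj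
    exact this
  have hker : ∀ z, Θ z = 0 → z ∈ P' := by
    intro z hz
    have h1 : Θ₁ z = 0 := hΘ₂ (by rw [map_zero]; exact hz)
    have h2 : z ∈ RingHom.ker (Algebra.TensorProduct.map (AlgHom.id k K) π) := h1
    rw [Algebra.TensorProduct.lTensor_ker _ Ideal.Quotient.mk_surjective] at h2
    refine (Ideal.map_le_iff_le_comap.2 ?_) h2
    intro b hb
    refine hqP ?_
    have h3 : RingHom.ker π = q := Ideal.mk_ker
    rwa [← h3]
  -- algebraic independence in `L`
  let tL : Fin n → L := fun i => j (π (t i))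
  have htL : AlgebraicIndependent k tL := by
    have h1 : (aeval tL : MvPolynomial (Fin n) k →ₐ[k] L) = (j.comp π).comp (aeval t) := by
      ext i
      simp [tL]
    rw [AlgebraicIndependent, h1, injective_iff_map_eq_zero]
    intro F hF
    have h2 : π (aeval t F) = 0 := hj (by rw [map_zero]; exact hF)
    have h2' : aeval t F ∈ q := Ideal.Quotient.eq_zero_iff_mem.1 h2
    have h3 : F ∈ q.comap (aeval (R := k) t).toRingHom := h2'
    rwa [ht] at h3
  let φ : MvPolynomial (Fin n) K →ₐ[K] K ⊗[k] L := aeval (fun i => (1 : K) ⊗ₜ[k] tL i)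
  have hφ : φ = Θ.comp (aeval (R := K) (fun i => (1 : K) ⊗ₜ[k] t i)) := by
    ext i
    simp [φ, Θ, Θ₁, Θ₂, tL]
  -- the multiplicative set
  let Sig : Submonoid (K ⊗[k] L) := P'.primeCompl.map Θ ⊔ (nonZeroDivisors (MvPolynomial (Fin n) K)).map φ
  have h0 : Disjoint ((⊥ : Ideal (K ⊗[k] L)) : Set (K ⊗[k] L)) Sig := by
    rw [Set.disjoint_left]
    intro z hz hz'
    obtain rfl : z = 0 := hz
    obtain ⟨_, ⟨x, hx, rfl⟩, _, ⟨g, hg, rfl⟩, hxg⟩ := Submonoid.mem_sup.1 hz'
    have h1 := eq_zero_of_aeval_mul (K := K) tL htL g (nonZeroDivisors.ne_zero hg) (Θ x) (by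
      rw [mul_comm]; exact hxg)
    exact hx (hker x h1)
  obtain ⟨r, hr, -, hdis⟩ := Ideal.exists_le_prime_disjoint _ _ h0
  refine ⟨r.comap Θ.toRingHom, Ideal.IsPrime.comap _, ?_, ?_, ?_⟩
  · intro x hx
    by_contra hxP
    exact Set.disjoint_left.1 hdis hx (Submonoid.mem_sup_left ⟨x, hxP, rfl⟩)
  · ext b
    have h1 : Θ ((1 : K) ⊗ₜ[k] b) = (1 : K) ⊗ₜ[k] j (π b) := by simp [Θ, Θ₁, Θ₂]
    have h2 : b ∈ (r.comap Θ.toRingHom).comap
        (Algebra.TensorProduct.includeRight : B →ₐ[k] K ⊗[k] B).toRingHom ↔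
        (1 : K) ⊗ₜ[k] j (π b) ∈ r := by rw [← h1]; rfl
    rw [h2]
    have h3 : b ∈ q ↔ j (π b) = 0 := by
      rw [map_eq_zero_iff j hj]
      exact Ideal.Quotient.eq_zero_iff_mem.symm
    rw [h3]
    constructor
    · intro h
      by_contra h4
      refine hr.ne_top ((Ideal.eq_top_iff_one _).2 ?_)
      have h5 : (1 : K ⊗[k] L) = (1 : K) ⊗ₜ[k] (j (π b))⁻¹ * (1 : K) ⊗ₜ[k] j (π b) := by
        rw [Algebra.TensorProduct.tmul_mul_tmul, inv_mul_cancel₀ h4, one_mul,
          Algebra.TensorProduct.one_def]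
      rw [h5]
      exact r.mul_mem_left _ h
    · intro h
      rw [h, TensorProduct.tmul_zero]
      exact r.zero_mem
  · rw [eq_bot_iff]
    intro g hg
    by_contra hg0
    have h1 : φ g ∈ r := by rw [hφ]; exact hg
    exact Set.disjoint_left.1 hdis h1 (Submonoid.mem_sup_right ⟨g, mem_nonZeroDivisors_of_ne_zero hg0, rfl⟩)

/-- Generization of primes along `V ⊗ B`, `V` a local ring, inside the closed fibre, keeping algebraic
independence. -/
theorem exists_prime_le {A B V : Type u} [CommRing A] [CommRing B] [Algebra A B] [CommRing V]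
    [IsLocalRing V] [Algebra A V] {n : ℕ} (t : Fin n → B) (p : Ideal A) [p.IsPrime]
    (hpV : (IsLocalRing.maximalIdeal V).comap (algebraMap A V) = p) (q : Ideal B) [q.IsPrime]
    (ht : q.comap (aeval t : MvPolynomial (Fin n) A →ₐ[A] B).toRingHom = p.map MvPolynomial.C)
    (P' : Ideal (V ⊗[A] B)) [P'.IsPrime]
    (hP' : P'.comap (algebraMap V (V ⊗[A] B)) = IsLocalRing.maximalIdeal V)
    (hqP : q ≤ P'.comap (Algebra.TensorProduct.includeRight : B →ₐ[A] V ⊗[A] B).toRingHom) :
    ∃ q' : Ideal (V ⊗[A] B), q'.IsPrime ∧ q' ≤ P' ∧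
      q'.comap (Algebra.TensorProduct.includeRight : B →ₐ[A] V ⊗[A] B).toRingHom = q ∧
      q'.comap (aeval (R := V) (fun i => (1 : V) ⊗ₜ[A] t i)).toRingHom =
        (IsLocalRing.maximalIdeal V).map MvPolynomial.C := by
  have hqp : q.comap (algebraMap A B) = p := by
    ext a
    have h1 : MvPolynomial.C a ∈ q.comap (aeval t : MvPolynomial (Fin n) A →ₐ[A] B).toRingHom ↔
        a ∈ q.comap (algebraMap A B) := by
      change aeval t (MvPolynomial.C a) ∈ q ↔ algebraMap A B a ∈ q
      rw [aeval_C]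
    rw [← h1, ht, MvPolynomial.mem_map_C_iff]
    constructor
    · intro h
      simpa using h 0
    · intro h m
      rw [coeff_C]
      split_ifs
      · exact h
      · exact p.zero_mem
  have : q.LiesOver p := ⟨hqp.symm⟩
  let k := p.ResidueField
  let K := IsLocalRing.ResidueField V
  let r : A →+* K := algebraMap A K
  have hr : ∀ a : A, r a = 0 ↔ a ∈ p := by
    intro a
    rw [← hpV, Ideal.mem_comap, ← IsLocalRing.residue_eq_zero_iff]
    rfl
  let _ : Algebra k K := (Ideal.ResidueField.lift p r (fun a ha ↦ (hr a).mpr ha) (fun a ha ↦ by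
      change IsUnit (r a)
      rw [isUnit_iff_ne_zero, Ne, hr]; exact ha)).toAlgebra
  have : IsScalarTower A k K := IsScalarTower.of_algebraMap_eq fun a =>
    (Ideal.ResidueField.lift_algebraMap p r _ _ a).symm
  let _ : Algebra k q.ResidueField :=
    (Ideal.ResidueField.mapₐ p q (Algebra.ofId A B) (q.over_def p)).toRingHom.toAlgebra
  have : IsScalarTower A k q.ResidueField := .of_algebraMap_eq fun a ↦
    ((Ideal.ResidueField.mapₐ p q (Algebra.ofId A B) (q.over_def p)).commutes a).symm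
  have hind := Groth.Agent.Flat2B.FibGen.algebraicIndependent_residueField p q t ht
  -- the prime of the fibre ring over `q`
  let θ : k ⊗[A] B →ₐ[k] q.ResidueField := Algebra.TensorProduct.lift (Algebra.ofId k q.ResidueField)
    (IsScalarTower.toAlgHom A B q.ResidueField) (fun _ _ => Commute.all _ _)
  have hθ : ∀ b : B, θ (1 ⊗ₜ b) = algebraMap B q.ResidueField b := by
    intro b
    simp [θ]
  let qk : Ideal (k ⊗[A] B) := RingHom.ker θ
  have : qk.IsPrime := RingHom.ker_isPrime θ
  have hqk : ∀ b : B, (1 : k) ⊗ₜ[A] b ∈ qk ↔ b ∈ q := by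
    intro b
    rw [RingHom.mem_ker, hθ]
    exact Ideal.algebraMap_residueField_eq_zero
  have htk : qk.comap (aeval (R := k) (fun i => (1 : k) ⊗ₜ[A] t i)).toRingHom = ⊥ := by
    rw [eq_bot_iff]
    intro F hF
    have h1 : θ (aeval (fun i => (1 : k) ⊗ₜ[A] t i) F) = 0 := hF
    have h2 : θ.comp (aeval (R := k) (fun i => (1 : k) ⊗ₜ[A] t i)) =
        aeval (fun i => algebraMap B q.ResidueField (t i)) := by
      ext i
      simp [hθ]
    have h3 : aeval (fun i => algebraMap B q.ResidueField (t i)) F = 0 := by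
      rw [← h2]
      exact h1
    exact hind (h3.trans (map_zero _).symm)
  -- the surjection onto `K ⊗ (k ⊗ B)`
  let ρ : V ⊗[A] B →ₐ[A] K ⊗[A] B :=
    Algebra.TensorProduct.map (IsScalarTower.toAlgHom A V K) (AlgHom.id A B)
  have hVK : Function.Surjective (IsScalarTower.toAlgHom A V K) := IsLocalRing.residue_surjective
  have hρs : Function.Surjective ρ :=
    Algebra.TensorProduct.map_surjective _ _ hVK Function.surjective_id
  have hρker : ∀ z, ρ z = 0 → z ∈ P' := by
    intro z hz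
    have h1 : z ∈ RingHom.ker (Algebra.TensorProduct.map (IsScalarTower.toAlgHom A V K)
      (AlgHom.id A B)) := hz
    rw [Algebra.TensorProduct.rTensor_ker _ hVK] at h1
    refine (Ideal.map_le_iff_le_comap.2 ?_) h1
    intro v hv
    have h2 : v ∈ IsLocalRing.maximalIdeal V := (IsLocalRing.residue_eq_zero_iff v).1 hv
    rw [← hP'] at h2
    exact h2
  let e : K ⊗[k] (k ⊗[A] B) ≃ₐ[K] K ⊗[A] B := Algebra.TensorProduct.cancelBaseChange A k K K B
  let Ψ : V ⊗[A] B →+* K ⊗[k] (k ⊗[A] B) := e.symm.toRingEquiv.toRingHom.comp ρ.toRingHom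
  have hΨs : Function.Surjective Ψ := e.symm.surjective.comp hρs
  have hΨker : RingHom.ker Ψ ≤ P' := by
    intro z hz
    refine hρker z ?_
    have h1 : e.symm (ρ z) = 0 := hz
    exact (map_eq_zero_iff e.symm e.symm.injective).1 h1
  have hΨr : ∀ b : B, Ψ ((1 : V) ⊗ₜ b) = (1 : K) ⊗ₜ[k] ((1 : k) ⊗ₜ[A] b) := by
    intro b
    change e.symm (ρ ((1 : V) ⊗ₜ b)) = _
    simp [ρ, e]
  have hΨl : ∀ v : V, Ψ (v ⊗ₜ (1 : B)) = algebraMap K _ (IsLocalRing.residue V v) := by
    intro v
    change e.symm (ρ (v ⊗ₜ (1 : B))) = _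
    have h1 : ρ (v ⊗ₜ (1 : B)) = algebraMap K (K ⊗[A] B) (IsLocalRing.residue V v) := by
      simp [ρ, Algebra.TensorProduct.algebraMap_apply]
      rfl
    rw [h1]
    exact e.symm.commutes _
  let P'' : Ideal (K ⊗[k] (k ⊗[A] B)) := P'.map Ψ
  have : P''.IsPrime := Ideal.map_isPrime_of_surjective hΨs hΨker
  have hP'' : P''.comap Ψ = P' := by
    rw [Ideal.comap_map_of_surjective' Ψ hΨs, sup_eq_left]
    exact hΨker
  have hqP'' : qk ≤ P''.comap
      (Algebra.TensorProduct.includeRight : k ⊗[A] B →ₐ[k] K ⊗[k] (k ⊗[A] B)).toRingHom := by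
    intro x hx
    obtain ⟨a, ha, b, hab⟩ := Ideal.Fiber.exists_smul_eq_one_tmul p x
    have h1 : (1 : k) ⊗ₜ[A] b ∈ qk := by
      rw [← hab, Algebra.smul_def]
      exact qk.mul_mem_left _ hx
    have h2 : (1 : V) ⊗ₜ[A] b ∈ P' := hqP ((hqk b).1 h1)
    have h3 : (1 : K) ⊗ₜ[k] ((1 : k) ⊗ₜ[A] b) ∈ P'' := by
      rw [← hΨr]
      exact Ideal.mem_map_of_mem Ψ h2
    rw [← hab] at h3
    have hu : IsUnit (algebraMap A k a) := by
      rw [isUnit_iff_ne_zero, Ne, Ideal.algebraMap_residueField_eq_zero]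
      exact ha
    have h4 : (1 : K) ⊗ₜ[k] (a • x) = algebraMap k (K ⊗[k] (k ⊗[A] B)) (algebraMap A k a) *
        (1 : K) ⊗ₜ[k] x := by
      rw [← Algebra.smul_def, ← TensorProduct.tmul_smul, algebraMap_smul]
    rw [h4] at h3
    change (1 : K) ⊗ₜ[k] x ∈ P''
    exact (Ideal.unit_mul_mem_iff_mem P'' (hu.map (algebraMap k _))).1 h3
  obtain ⟨q'', hq''p, hq''P, hq''q, hq''t⟩ := exists_prime_le_field (K := K) _ qk htk P'' hqP''
  refine ⟨q''.comap Ψ, Ideal.IsPrime.comap _, ?_, ?_, ?_⟩
  · rw [← hP'']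
    exact Ideal.comap_mono hq''P
  · ext b
    have h1 : b ∈ (q''.comap Ψ).comap
        (Algebra.TensorProduct.includeRight : B →ₐ[A] V ⊗[A] B).toRingHom ↔
        (1 : K) ⊗ₜ[k] ((1 : k) ⊗ₜ[A] b) ∈ q'' := by
      rw [← hΨr]
      rfl
    rw [h1, ← hqk b, ← hq''q]
    rfl
  · have h1 : Ψ.comp (aeval (R := V) (fun i => (1 : V) ⊗ₜ[A] t i)).toRingHom =
        (aeval (R := K) (fun i => (1 : K) ⊗ₜ[k] ((1 : k) ⊗ₜ[A] t i))).toRingHom.comp
          (MvPolynomial.map (IsLocalRing.residue V)) := by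
      refine MvPolynomial.ringHom_ext (fun v => ?_) (fun i => ?_)
      · change Ψ (aeval _ (MvPolynomial.C v)) = aeval _ (MvPolynomial.map _ (MvPolynomial.C v))
        rw [aeval_C, map_C, aeval_C]
        exact hΨl v
      · change Ψ (aeval _ (MvPolynomial.X i)) = aeval _ (MvPolynomial.map _ (MvPolynomial.X i))
        rw [aeval_X, map_X, aeval_X]
        exact hΨr (t i)
    rw [Ideal.comap_comap, h1, ← Ideal.comap_comap, hq''t]
    ext F
    rw [Ideal.mem_comap, Ideal.mem_bot, MvPolynomial.mem_map_C_iff, MvPolynomial.ext_iff]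
    refine forall_congr' fun m => ?_
    rw [coeff_map, coeff_zero, IsLocalRing.residue_eq_zero_iff]

end K207.QSecAlg
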