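import Groth.Agent.Ega43.QSAway
import Groth.Agent.Ega43.QSectLocal
import Groth.Agent.SGA3.K207.QSecAlg
import Mathlib.RingTheory.ZariskisMainTheorem
import Mathlib.RingTheory.Bezout
import Mathlib.Algebra.GCDMonoid.IntegrallyClosed
import Mathlib.RingTheory.IntegralClosure.GoingDown

/-!
# Quasi-sections through a point closed in its fibre: going down and transcendence degrees
-/

set_option autoImplicit false
universe u v w
open TensorProduct MvPolynomial

namespace K207.QSecGD

/-- Going down for a domain quasi-finite at a prime over an integrally closed domain. -/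
theorem exists_le_of_quasiFiniteAt {R E : Type u} [CommRing R] [IsDomain R] [IsIntegrallyClosed R]
    [CommRing E] [IsDomain E] [Algebra R E] [Algebra.FiniteType R E]
    (hinj : Function.Injective (algebraMap R E)) (Q : Ideal E) [Q.IsPrime]
    [Algebra.QuasiFiniteAt R Q] (T : Ideal R) [T.IsPrime] (hT : T ≤ Q.comap (algebraMap R E)) :
    ∃ Q₁ : Ideal E, Q₁.IsPrime ∧ Q₁ ≤ Q ∧ Q₁.comap (algebraMap R E) = T := by
  obtain ⟨S', hS', r, hr, hbij⟩ :=
    Algebra.QuasiFiniteAt.exists_fg_and_exists_notMem_and_awayMap_bijective (R := R) Q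
  have hfin : Module.Finite R S' := Module.Finite.iff_fg.2 hS'
  have : FaithfulSMul R S' := by
    rw [faithfulSMul_iff_algebraMap_injective]
    intro x y hxy
    exact hinj (congrArg Subtype.val hxy)
  let qC : Ideal S' := Q.comap (algebraMap S' E)
  have : qC.IsPrime := Ideal.IsPrime.comap _
  let P : Ideal R := Q.comap (algebraMap R E)
  have : P.IsPrime := Ideal.IsPrime.comap _
  have : qC.LiesOver P := ⟨rfl⟩
  obtain ⟨q0, hq0, hq0p, hq0l⟩ := Ideal.exists_ideal_le_liesOver_of_le (p := T) (q := P) qC hT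
  have hrq0 : r ∉ q0 := fun h => hr (hq0 h)
  let e2 := RingEquiv.ofBijective (Localization.awayMap S'.val.toRingHom r) hbij
  let q0r : Ideal (Localization.Away r) := q0.map (algebraMap S' (Localization.Away r))
  have hdis : Disjoint (Submonoid.powers r : Set S') (q0 : Set S') := by
    rw [Ideal.disjoint_powers_iff_notMem_of_isPrime]
    exact hrq0
  have hq0r : q0r.IsPrime := IsLocalization.isPrime_of_isPrime_disjoint (.powers r) _ q0 hq0p hdis
  have hq0r' : q0r.comap (algebraMap S' (Localization.Away r)) = q0 :=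
    IsLocalization.comap_map_of_isPrime_disjoint (.powers r) _ hq0p hdis
  let Q₁ : Ideal E := (q0r.comap e2.symm.toRingHom).comap
    (algebraMap E (Localization.Away (S'.val.toRingHom r)))
  have hQ₁ : Q₁.IsPrime := Ideal.IsPrime.comap _
  have hQ₁S : Q₁.comap (algebraMap S' E) = q0 := by
    conv_rhs => rw [← hq0r']
    ext c
    have h1 : e2 (algebraMap S' (Localization.Away r) c) =
        algebraMap E (Localization.Away (S'.val.toRingHom r)) (algebraMap S' E c) := by
      simp only [e2, RingEquiv.ofBijective_apply, Localization.awayMap, IsLocalization.Away.map]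
      exact IsLocalization.map_eq _ _
    change e2.symm (algebraMap E _ (algebraMap S' E c)) ∈ q0r ↔ algebraMap S' _ c ∈ q0r
    rw [← h1, RingEquiv.symm_apply_apply]
  refine ⟨Q₁, hQ₁, ?_, ?_⟩
  · intro x hx
    obtain ⟨n, hn⟩ := Groth.Agent.Ega43.QSAway.exists_pow_mul_mem S' r hbij.2 x
    have h1 : (⟨(r : E) ^ n * x, hn⟩ : S') ∈ q0 := by
      rw [← hQ₁S]
      exact Q₁.mul_mem_left _ hx
    have h2 : (r : E) ^ n * x ∈ Q := hq0 h1
    exact (‹Q.IsPrime›.mem_or_mem h2).resolve_left fun h => hr (‹Q.IsPrime›.mem_of_pow_mem n h)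
  · have h1 : Q₁.comap (algebraMap R E) = (Q₁.comap (algebraMap S' E)).comap (algebraMap R S') := rfl
    rw [h1, hQ₁S]
    exact hq0l.over.symm

/-- A polynomial ring in `m` variables over a domain `V` injects into a domain `E` of transcendence degree
at least `m` over `V` which is quasi-finite over it at some prime. -/
theorem injective_of_quasiFiniteAt {V E : Type u} [CommRing V] [IsDomain V] [CommRing E] [IsDomain E]
    [Algebra V E] [Algebra.FiniteType V E] {m n : ℕ} (hmn : m ≤ n) (t : Fin n → E)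
    (ht : AlgebraicIndependent V t) [Algebra (MvPolynomial (Fin m) V) E]
    [IsScalarTower V (MvPolynomial (Fin m) V) E] (Q : Ideal E) [Q.IsPrime]
    [Algebra.QuasiFiniteAt (MvPolynomial (Fin m) V) Q] :
    Function.Injective (algebraMap (MvPolynomial (Fin m) V) E) := by
  let R := MvPolynomial (Fin m) V
  have : Algebra.FiniteType R E := Algebra.FiniteType.of_restrictScalars_finiteType V R E
  obtain ⟨S', hS', r, hr, hbij⟩ :=
    Algebra.QuasiFiniteAt.exists_fg_and_exists_notMem_and_awayMap_bijective (R := R) Q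
  have hfin : Module.Finite R S' := Module.Finite.iff_fg.2 hS'
  let s : Fin m → E := fun i => algebraMap R E (X i)
  have hs : IsScalarTower.toAlgHom V R E = aeval s := by
    ext i
    simp [s, R]
  have hrange : ∀ F : R, algebraMap R E F ∈ Algebra.adjoin V (Set.range s) := by
    intro F
    rw [Algebra.adjoin_range_eq_range_aeval]
    exact ⟨F, congr($hs F).symm⟩
  -- elements of `S'` are algebraic over the image of `R`
  have hint : ∀ c : S', IsIntegral (Algebra.adjoin V (Set.range s)) (c : E) := by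
    intro c
    obtain ⟨f, hf, hfc⟩ : IsIntegral R (c : E) :=
      (Algebra.IsIntegral.isIntegral (R := R) c).map S'.val
    let g : R →+* Algebra.adjoin V (Set.range s) :=
      (algebraMap R E).codRestrict (Algebra.adjoin V (Set.range s)).toSubring hrange
    refine ⟨f.map g, hf.map g, ?_⟩
    rw [Polynomial.eval₂_map]
    exact hfc
  have hr0 : (r : E) ≠ 0 := fun h => hr (h ▸ Q.zero_mem)
  have halg : Algebra.IsAlgebraic (Algebra.adjoin V (Set.range s)) E := by
    constructor
    intro x
    obtain ⟨k, hk⟩ := Groth.Agent.Ega43.QSAway.exists_pow_mul_mem S' r hbij.2 x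
    have h1 : IsAlgebraic (Algebra.adjoin V (Set.range s)) ((r : E) ^ k) :=
      ((hint r).pow k).isAlgebraic
    have h2 : IsAlgebraic (Algebra.adjoin V (Set.range s)) ((r : E) ^ k * x) :=
      (hint ⟨_, hk⟩).isAlgebraic
    exact IsAlgebraic.of_mul (mem_nonZeroDivisors_of_ne_zero (pow_ne_zero k hr0)) h1 h2
  have hinjV : Function.Injective (algebraMap V E) := ht.algebraMap_injective
  have : FaithfulSMul V E := (faithfulSMul_iff_algebraMap_injective V E).2 hinjV
  have h3 := ht.lift_cardinalMk_le_trdeg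
  have h4 : IsTranscendenceBasis V s := by
    refine Algebra.IsAlgebraic.isTranscendenceBasis_of_lift_le_trdeg_of_finite V s ?_
    refine le_trans ?_ h3
    simpa using hmn
  have h5 : Function.Injective (aeval s : MvPolynomial (Fin m) V →ₐ[V] E) := h4.1
  rw [← hs] at h5
  exact h5

/-- Base change of quasi-finiteness, followed by a quotient. -/
theorem quasiFiniteAt_of_surjective {R S R' S' : Type u} [CommRing R] [CommRing S] [CommRing R']
    [CommRing S'] [Algebra R S] [Algebra R R'] [Algebra R' S'] [Algebra S S'] [Algebra R S']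
    [IsScalarTower R R' S'] [IsScalarTower R S S']
    (hsurj : Function.Surjective (Algebra.TensorProduct.lift (Algebra.ofId R' S')
      (IsScalarTower.toAlgHom R S S') (fun _ _ => Commute.all _ _) : R' ⊗[R] S →ₐ[R'] S'))
    (P : Ideal S) [P.IsPrime] [Algebra.QuasiFiniteAt R P] (P' : Ideal S') [P'.IsPrime]
    (h : P'.comap (algebraMap S S') = P) : Algebra.QuasiFiniteAt R' P' := by
  let f : R' ⊗[R] S →ₐ[R'] S' := Algebra.TensorProduct.lift (Algebra.ofId R' S')
      (IsScalarTower.toAlgHom R S S') (fun _ _ => Commute.all _ _)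
  let Q : Ideal (R' ⊗[R] S) := P'.comap f.toRingHom
  have : Q.IsPrime := Ideal.IsPrime.comap _
  have hQ : P = Q.comap Algebra.TensorProduct.includeRight.toRingHom := by
    rw [← h]
    ext x
    change algebraMap S S' x ∈ P' ↔ f (1 ⊗ₜ x) ∈ P'
    simp [f]
  have : Algebra.QuasiFiniteAt R' Q := Algebra.QuasiFiniteAt.baseChange P Q hQ
  exact Algebra.QuasiFiniteAt.of_surjectiveOnStalks Q f
    (RingHom.surjectiveOnStalks_of_surjective hsurj) P' rfl

/-- Primes of `V ⊗ B` over `q`, `V` a valuation ring over `A`, have generizations over the generic point of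
`V`. -/
def GenAt (A B : Type u) [CommRing A] [CommRing B] [Algebra A B] (q : Ideal B) : Prop :=
  ∀ (V : Type u) [CommRing V] [IsDomain V] [ValuationRing V] [Algebra A V] (Q : Ideal (V ⊗[A] B)),
    Q.IsPrime →
    Q.comap (Algebra.TensorProduct.includeRight : B →ₐ[A] V ⊗[A] B).toRingHom = q →
    ∃ W : Ideal (V ⊗[A] B), W.IsPrime ∧ W ≤ Q ∧ W.comap (algebraMap V (V ⊗[A] B)) = ⊥

theorem comap_aeval_eq_bot {V D : Type u} [CommRing V] [IsDomain V] [ValuationRing V] [CommRing D]
    [Algebra V D] {n : ℕ} (t : Fin n → D) (Q W : Ideal D) [W.IsPrime] (hWQ : W ≤ Q)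
    (hQ : Q.comap (aeval t : MvPolynomial (Fin n) V →ₐ[V] D).toRingHom =
      (IsLocalRing.maximalIdeal V).map MvPolynomial.C)
    (hW : W.comap (algebraMap V D) = ⊥) :
    W.comap (aeval t : MvPolynomial (Fin n) V →ₐ[V] D).toRingHom = ⊥ := by
  rw [eq_bot_iff]
  intro F hF
  by_contra hF0
  obtain ⟨c, G, hc, rfl, k, hk⟩ := Groth.Agent.Ega43.QSectVal.exists_eq_C_mul F hF0
  have hF' : aeval t (MvPolynomial.C c) * aeval t G ∈ W := by
    rw [← map_mul]
    exact hF
  rcases ‹W.IsPrime›.mem_or_mem hF' with h | h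
  · rw [aeval_C] at h
    have h1 : c ∈ W.comap (algebraMap V D) := h
    rw [hW] at h1
    exact hc h1
  · have h1 : G ∈ Q.comap (aeval t : MvPolynomial (Fin n) V →ₐ[V] D).toRingHom := hWQ h
    rw [hQ, MvPolynomial.mem_map_C_iff] at h1
    have h2 := h1 k
    rw [hk] at h2
    exact (Ideal.ne_top_iff_one _).1 (IsLocalRing.maximalIdeal.isMaximal V).ne_top h2

attribute [local instance] algebraMvPolynomial

/-- **Generization for the cut.** -/
theorem exists_prime_valuation {A B V : Type u} [CommRing A] [CommRing B] [Algebra A B]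
    [Algebra.FiniteType A B] [CommRing V] [IsDomain V] [ValuationRing V] [Algebra A V] {n m : ℕ}
    (hmn : m ≤ n) (t : Fin n → B) [Algebra (MvPolynomial (Fin m) A) B]
    [IsScalarTower A (MvPolynomial (Fin m) A) B] (p : Ideal A) [p.IsPrime]
    (hpV : (IsLocalRing.maximalIdeal V).comap (algebraMap A V) = p) (q P : Ideal B) [q.IsPrime]
    [P.IsPrime] (hqP : q ≤ P) (hgen : GenAt A B q)
    (ht : q.comap (aeval t : MvPolynomial (Fin n) A →ₐ[A] B).toRingHom = p.map MvPolynomial.C)
    [Algebra.QuasiFiniteAt (MvPolynomial (Fin m) A) P]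
    (hX : ∀ i, algebraMap (MvPolynomial (Fin m) A) B (X i) ∈ P)
    (P' : Ideal (V ⊗[A] B)) [P'.IsPrime]
    (hP' : P'.comap (algebraMap V (V ⊗[A] B)) = IsLocalRing.maximalIdeal V)
    (hP'P : P'.comap (Algebra.TensorProduct.includeRight : B →ₐ[A] V ⊗[A] B).toRingHom = P) :
    ∃ Q : Ideal (V ⊗[A] B), Q.IsPrime ∧ Q ≤ P' ∧
      (∀ i, (1 : V) ⊗ₜ[A] algebraMap (MvPolynomial (Fin m) A) B (X i) ∈ Q) ∧
      Q.comap (algebraMap V (V ⊗[A] B)) = ⊥ := by
  obtain ⟨q', hq'p, hq'P, hq'q, hq't⟩ := QSecAlg.exists_prime_le (V := V) t p hpV q ht P' hP'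
    (by rw [hP'P]; exact hqP)
  obtain ⟨w, hwp, hwq, hwV⟩ := hgen V q' hq'p hq'q
  have hwt := comap_aeval_eq_bot (fun i => (1 : V) ⊗ₜ[A] t i) q' w hwq hq't hwV
  have hwP : w ≤ P' := hwq.trans hq'P
  -- the domain `E`
  let E := (V ⊗[A] B) ⧸ w
  let s : Fin m → B := fun i => algebraMap (MvPolynomial (Fin m) A) B (X i)
  let sE : Fin m → E := fun i => Ideal.Quotient.mk w ((1 : V) ⊗ₜ[A] s i)
  let _ : Algebra (MvPolynomial (Fin m) V) E := (aeval (R := V) sE).toRingHom.toAlgebra
  have hVE : IsScalarTower V (MvPolynomial (Fin m) V) E := IsScalarTower.of_algebraMap_eq fun v => by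
    change _ = aeval sE (MvPolynomial.C v)
    rw [aeval_C]
  let ιB : B →+* E := (Ideal.Quotient.mk w).comp
    (Algebra.TensorProduct.includeRight : B →ₐ[A] V ⊗[A] B).toRingHom
  let _ : Algebra B E := ιB.toAlgebra
  let _ : Algebra (MvPolynomial (Fin m) A) E := (ιB.comp (algebraMap _ B)).toAlgebra
  have h1 : IsScalarTower (MvPolynomial (Fin m) A) B E := IsScalarTower.of_algebraMap_eq fun _ => rfl
  have h2 : IsScalarTower (MvPolynomial (Fin m) A) (MvPolynomial (Fin m) V) E :=
    IsScalarTower.of_algebraMap_eq' (by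
      refine MvPolynomial.ringHom_ext (fun a => ?_) (fun i => ?_)
      · change ιB (algebraMap (MvPolynomial (Fin m) A) B (MvPolynomial.C a)) =
          aeval sE (MvPolynomial.map (algebraMap A V) (MvPolynomial.C a))
        rw [map_C, aeval_C]
        have h3 : algebraMap (MvPolynomial (Fin m) A) B (MvPolynomial.C a) = algebraMap A B a :=
          (IsScalarTower.algebraMap_apply A (MvPolynomial (Fin m) A) B a).symm
        rw [h3]
        change Ideal.Quotient.mk w ((1 : V) ⊗ₜ[A] algebraMap A B a) =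
          Ideal.Quotient.mk w (algebraMap A V a ⊗ₜ[A] (1 : B))
        rw [Algebra.algebraMap_eq_smul_one, Algebra.algebraMap_eq_smul_one, TensorProduct.smul_tmul]
      · change ιB (algebraMap (MvPolynomial (Fin m) A) B (X i)) =
          aeval sE (MvPolynomial.map (algebraMap A V) (X i))
        rw [map_X, aeval_X]
        rfl)
  let PE : Ideal E := P'.map (Ideal.Quotient.mk w)
  have hPE : PE.comap (Ideal.Quotient.mk w) = P' := by
    rw [Ideal.comap_map_of_surjective' _ Ideal.Quotient.mk_surjective, Ideal.mk_ker, sup_eq_left]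
    exact hwP
  have hPEp : PE.IsPrime := Ideal.map_isPrime_of_surjective Ideal.Quotient.mk_surjective (by
    rw [Ideal.mk_ker]
    exact hwP)
  have hPEB : PE.comap (algebraMap B E) = P := by
    rw [← hP'P, ← hPE]
    rfl
  have hCv : ∀ v : V, algebraMap (MvPolynomial (Fin m) V) E (MvPolynomial.C v) =
      Ideal.Quotient.mk w (v ⊗ₜ[A] (1 : B)) := fun v =>
    (IsScalarTower.algebraMap_apply V (MvPolynomial (Fin m) V) E v).symm
  have hqf : Algebra.QuasiFiniteAt (MvPolynomial (Fin m) V) PE := by
    refine quasiFiniteAt_of_surjective (R := MvPolynomial (Fin m) A) (S := B) ?_ P PE hPEB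
    intro x
    obtain ⟨z, rfl⟩ := Ideal.Quotient.mk_surjective x
    induction z with
    | zero => exact ⟨0, by rw [map_zero, map_zero]⟩
    | add a b ha hb =>
      obtain ⟨a', ha'⟩ := ha
      obtain ⟨b', hb'⟩ := hb
      exact ⟨a' + b', by rw [map_add, ha', hb', map_add]⟩
    | tmul v b =>
      refine ⟨MvPolynomial.C v ⊗ₜ b, ?_⟩
      rw [Algebra.TensorProduct.lift_tmul]
      change algebraMap (MvPolynomial (Fin m) V) E (MvPolynomial.C v) *
        Ideal.Quotient.mk w ((1 : V) ⊗ₜ[A] b) = _
      rw [hCv, ← map_mul, Algebra.TensorProduct.tmul_mul_tmul, mul_one, one_mul]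
  have hftE : Algebra.FiniteType V E :=
    Algebra.FiniteType.of_surjective (Ideal.Quotient.mkₐ V w) Ideal.Quotient.mk_surjective
  have htE : AlgebraicIndependent V (fun i => (Ideal.Quotient.mk w ((1 : V) ⊗ₜ[A] t i) : E)) := by
    have h3 : (aeval (fun i => (Ideal.Quotient.mk w ((1 : V) ⊗ₜ[A] t i) : E)) :
        MvPolynomial (Fin n) V →ₐ[V] E) =
        (Ideal.Quotient.mkₐ V w).comp (aeval (fun i => (1 : V) ⊗ₜ[A] t i)) := by
      ext i
      simp
    rw [AlgebraicIndependent, h3, injective_iff_map_eq_zero]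
    intro F hF
    have h4 : aeval (fun i => (1 : V) ⊗ₜ[A] t i) F ∈ w := Ideal.Quotient.eq_zero_iff_mem.1 hF
    have h5 : F ∈ w.comap (aeval (R := V) (fun i => (1 : V) ⊗ₜ[A] t i)).toRingHom := h4
    rwa [hwt] at h5
  have hinj := injective_of_quasiFiniteAt hmn _ htE PE
  have : IsIntegrallyClosed V := by
    classical
    let := IsBezout.toGCDDomain V
    infer_instance
  have : IsIntegrallyClosed (MvPolynomial (Fin m) V) :=
    Groth.Agent.Ega43.QSectLocal.isIntegrallyClosed_mvPolynomial V m
  let T : Ideal (MvPolynomial (Fin m) V) :=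
    RingHom.ker (MvPolynomial.aeval (R := V) (fun _ : Fin m ↦ (0 : V)))
  have hTp : T.IsPrime := RingHom.ker_isPrime _
  have hsE : ∀ i, algebraMap (MvPolynomial (Fin m) V) E (X i) = sE i := fun i => by
    change aeval sE (X i) = _
    rw [aeval_X]
  have hT : T ≤ PE.comap (algebraMap (MvPolynomial (Fin m) V) E) := by
    intro F hF
    have h3 : (Ideal.Quotient.mk PE).comp (algebraMap (MvPolynomial (Fin m) V) E) =
        ((Ideal.Quotient.mk PE).comp (algebraMap V E)).comp
          (MvPolynomial.aeval (R := V) (fun _ : Fin m ↦ (0 : V))).toRingHom := by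
      refine MvPolynomial.ringHom_ext (fun v => ?_) (fun i => ?_)
      · change Ideal.Quotient.mk PE (algebraMap _ E (MvPolynomial.C v)) =
          Ideal.Quotient.mk PE (algebraMap V E (aeval _ (MvPolynomial.C v)))
        rw [aeval_C, hCv]
        rfl
      · change Ideal.Quotient.mk PE (algebraMap _ E (X i)) =
          Ideal.Quotient.mk PE (algebraMap V E (aeval _ (X i)))
        rw [aeval_X, map_zero, map_zero, hsE, Ideal.Quotient.eq_zero_iff_mem]
        refine Ideal.mem_map_of_mem _ ?_
        have h4 : s i ∈ P'.comap (Algebra.TensorProduct.includeRight : B →ₐ[A] V ⊗[A] B).toRingHom := by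
          rw [hP'P]
          exact hX i
        exact h4
    have h4 : Ideal.Quotient.mk PE (algebraMap (MvPolynomial (Fin m) V) E F) = 0 := by
      have h5 := DFunLike.congr_fun h3 F
      have h6 : MvPolynomial.aeval (R := V) (fun _ : Fin m ↦ (0 : V)) F = 0 := hF
      refine h5.trans ?_
      change Ideal.Quotient.mk PE (algebraMap V E
        (MvPolynomial.aeval (R := V) (fun _ : Fin m ↦ (0 : V)) F)) = 0
      rw [h6, map_zero, map_zero]
    have h5 : algebraMap (MvPolynomial (Fin m) V) E F ∈ PE := Ideal.Quotient.eq_zero_iff_mem.1 h4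
    exact h5
  have hftR : Algebra.FiniteType (MvPolynomial (Fin m) V) E :=
    Algebra.FiniteType.of_restrictScalars_finiteType V _ E
  obtain ⟨Q₁, hQ₁p, hQ₁P, hQ₁T⟩ := exists_le_of_quasiFiniteAt hinj PE T hT
  refine ⟨Q₁.comap (Ideal.Quotient.mk w), Ideal.IsPrime.comap _, ?_, ?_, ?_⟩
  · rw [← hPE]
    exact Ideal.comap_mono hQ₁P
  · intro i
    have h3 : X i ∈ Q₁.comap (algebraMap (MvPolynomial (Fin m) V) E) := by
      rw [hQ₁T, RingHom.mem_ker]
      exact aeval_X _ _
    rw [Ideal.mem_comap, hsE] at h3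
    exact h3
  · rw [eq_bot_iff]
    intro v hv
    have h3 : MvPolynomial.C v ∈ Q₁.comap (algebraMap (MvPolynomial (Fin m) V) E) := by
      rw [Ideal.mem_comap, hCv]
      exact hv
    rw [hQ₁T, RingHom.mem_ker, aeval_C] at h3
    exact h3

end K207.QSecGD
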