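import Groth.Agent.Ega43.QSectGlobal
import Groth.Agent.SGA3.K207.QSecGD
import Mathlib.RingTheory.Etale.QuasiFinite
import Mathlib.RingTheory.Unramified.Field
import Mathlib.RingTheory.Unramified.Finite
import Mathlib.RingTheory.Spectrum.Prime.Chevalley
import Mathlib.RingTheory.Spectrum.Prime.ConstructibleSet

/-!
# Quasi-sections through a point closed in its fibre: étale localisation
-/

set_option autoImplicit false
universe u v w
open TensorProduct

namespace K207.QSecEtale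

/-- If all generizations of a prime are in the image of a finitely presented map, so is a neighbourhood. -/
theorem exists_notMem_of_generizations {R S : Type u} [CommRing R] [CommRing S] (f : R →+* S)
    (hf : f.FinitePresentation) (P : Ideal R) [P.IsPrime]
    (h : ∀ T : Ideal R, T.IsPrime → T ≤ P → ∃ Q : Ideal S, Q.IsPrime ∧ Q.comap f = T) :
    ∃ g : R, g ∉ P ∧ ∀ T : Ideal R, T.IsPrime → g ∉ T → ∃ Q : Ideal S, Q.IsPrime ∧ Q.comap f = T := by
  obtain ⟨S', _, f', hf'⟩ := PrimeSpectrum.exists_range_eq_of_isConstructible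
    (PrimeSpectrum.isConstructible_range_comap hf).compl
  by_cases h0 : ∃ g : R, g ∉ P ∧ f' g = 0
  · obtain ⟨g, hg, hg0⟩ := h0
    refine ⟨g, hg, fun T hT hgT => ?_⟩
    by_contra hcon
    have h1 : (⟨T, hT⟩ : PrimeSpectrum R) ∈ (Set.range (PrimeSpectrum.comap f))ᶜ := by
      rintro ⟨Q, hQ⟩
      exact hcon ⟨Q.asIdeal, Q.isPrime, congrArg PrimeSpectrum.asIdeal hQ⟩
    rw [← hf'] at h1
    obtain ⟨Q, hQ⟩ := h1
    apply hgT
    have h2 : T = Q.asIdeal.comap f' := (congrArg PrimeSpectrum.asIdeal hQ).symm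
    rw [h2, Ideal.mem_comap, hg0]
    exact Q.asIdeal.zero_mem
  · exfalso
    have hdis : Disjoint ((⊥ : Ideal S') : Set S') (P.primeCompl.map f' : Set S') := by
      rw [Set.disjoint_left]
      rintro _ hx ⟨g, hg, rfl⟩
      exact h0 ⟨g, hg, hx⟩
    obtain ⟨Q, hQp, -, hQd⟩ := Ideal.exists_le_prime_disjoint _ _ hdis
    have hle : Q.comap f' ≤ P := by
      intro x hx
      by_contra hxP
      exact Set.disjoint_left.1 hQd hx ⟨x, hxP, rfl⟩
    obtain ⟨Q', hQ', hQ'c⟩ := h (Q.comap f') (Ideal.IsPrime.comap _) hle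
    have h1 : (⟨Q.comap f', Ideal.IsPrime.comap _⟩ : PrimeSpectrum R) ∈
        Set.range (PrimeSpectrum.comap f') := ⟨⟨Q, hQp⟩, rfl⟩
    rw [hf'] at h1
    exact h1 ⟨⟨Q', hQ'⟩, PrimeSpectrum.ext hQ'c⟩

/-- A valuation ring of the residue field of a generization dominating the local ring. -/
theorem exists_valuationRing {R : Type u} [CommRing R] (T P : Ideal R) [T.IsPrime] [P.IsPrime]
    (hTP : T ≤ P) : ∃ (V : Type u) (_ : CommRing V) (_ : IsDomain V) (_ : ValuationRing V)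
      (_ : Algebra R V), RingHom.ker (algebraMap R V) = T ∧
        (IsLocalRing.maximalIdeal V).comap (algebraMap R V) = P := by
  let K := T.ResidueField
  let f : Localization.AtPrime P →+* K := IsLocalization.lift (M := P.primeCompl)
    (g := algebraMap R K) (fun y ↦ by
      rw [isUnit_iff_ne_zero, Ne, Ideal.algebraMap_residueField_eq_zero]
      exact fun h ↦ y.2 (hTP h))
  obtain ⟨V, hV, hloc⟩ := IsLocalRing.exists_factor_valuationRing f
  let g₀ : Localization.AtPrime P →+* V := f.codRestrict V.toSubring hV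
  have hloc₀ : IsLocalHom g₀ := hloc
  let g : R →+* V := g₀.comp (algebraMap R (Localization.AtPrime P))
  have h1 : (V.subtype).comp g = algebraMap R K := by
    ext a
    change f (algebraMap R (Localization.AtPrime P) a) = _
    simp [f]
  have hgp : (IsLocalRing.maximalIdeal V).comap g = P := by
    rw [← Ideal.comap_comap]
    have : (IsLocalRing.maximalIdeal V).comap g₀ =
        IsLocalRing.maximalIdeal (Localization.AtPrime P) :=
      ((IsLocalRing.local_hom_TFAE g₀).out 0 4 rfl rfl).mp hloc₀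
    rw [this]
    exact IsLocalization.AtPrime.under_maximalIdeal _ P
  refine ⟨V, inferInstance, inferInstance, inferInstance, g.toAlgebra, ?_, hgp⟩
  ext a
  change g a = 0 ↔ _
  rw [← Ideal.algebraMap_residueField_eq_zero, ← h1]
  exact (map_eq_zero_iff V.subtype Subtype.val_injective).symm

/-- The hypothesis of the étale localisation: generizations over valuation rings. -/
def GenMax (A C : Type u) [CommRing A] [CommRing C] [Algebra A C] (P : Ideal C) : Prop :=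
  ∀ (V : Type u) [CommRing V] [IsDomain V] [ValuationRing V] [Algebra A V] (Q : Ideal (V ⊗[A] C)),
    Q.IsPrime → Q.comap (algebraMap V (V ⊗[A] C)) = IsLocalRing.maximalIdeal V →
    Q.comap (Algebra.TensorProduct.includeRight : C →ₐ[A] V ⊗[A] C).toRingHom = P →
    ∃ W : Ideal (V ⊗[A] C), W.IsPrime ∧ W ≤ Q ∧ W.comap (algebraMap V (V ⊗[A] C)) = ⊥

/-- Generizations of a prime `T'` of `R'` lift to `R' ⊗ C` below a given prime over `P`. -/
theorem exists_le_of_genMax {A C R' : Type u} [CommRing A] [CommRing C] [CommRing R'] [Algebra A C]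
    [Algebra A R'] (P : Ideal C) (h : GenMax A C P) (P' : Ideal (R' ⊗[A] C)) [P'.IsPrime]
    (hP' : P'.comap (Algebra.TensorProduct.includeRight : C →ₐ[A] R' ⊗[A] C).toRingHom = P)
    (T : Ideal R') [T.IsPrime] (hT : T ≤ P'.comap (algebraMap R' (R' ⊗[A] C))) :
    ∃ Q : Ideal (R' ⊗[A] C), Q.IsPrime ∧ Q ≤ P' ∧ Q.comap (algebraMap R' (R' ⊗[A] C)) = T := by
  let 𝔓 : Ideal R' := P'.comap (algebraMap R' (R' ⊗[A] C))
  have : 𝔓.IsPrime := Ideal.IsPrime.comap _
  obtain ⟨V, _, _, _, _, hVT, hV𝔓⟩ := exists_valuationRing T 𝔓 hT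
  let _ : Algebra A V := ((algebraMap R' V).comp (algebraMap A R')).toAlgebra
  have hst : IsScalarTower A R' V := IsScalarTower.of_algebraMap_eq' rfl
  obtain ⟨Γ, hΓ, hΓV, hΓP'⟩ := Groth.Agent.Ega43.QSectGlobal.exists_prime_tensor (R := R') (A := V)
    (B := R' ⊗[A] C) (IsLocalRing.maximalIdeal V) P' hV𝔓
  let e : V ⊗[R'] (R' ⊗[A] C) ≃ₐ[V] V ⊗[A] C := Algebra.TensorProduct.cancelBaseChange A R' V V C
  have hesymm : ∀ (v : V) (c : C), e.symm (v ⊗ₜ c) = v ⊗ₜ (1 ⊗ₜ c) := fun v c =>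
    Algebra.TensorProduct.cancelBaseChange_symm_tmul A R' V V C v c
  let Q₀ : Ideal (V ⊗[A] C) := Γ.comap e.symm.toRingEquiv.toRingHom
  have hQ₀ : Q₀.IsPrime := Ideal.IsPrime.comap _
  have hQ₀V : Q₀.comap (algebraMap V (V ⊗[A] C)) = IsLocalRing.maximalIdeal V := by
    rw [← hΓV]
    ext v
    change e.symm (algebraMap V _ v) ∈ Γ ↔ algebraMap V _ v ∈ Γ
    rw [e.symm.commutes]
  have hQ₀P : Q₀.comap (Algebra.TensorProduct.includeRight : C →ₐ[A] V ⊗[A] C).toRingHom = P := by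
    rw [← hP', ← hΓP']
    ext c
    change e.symm ((1 : V) ⊗ₜ c) ∈ Γ ↔ (1 : V) ⊗ₜ[R'] ((1 : R') ⊗ₜ[A] c) ∈ Γ
    rw [hesymm]
  obtain ⟨W, hW, hWQ, hWV⟩ := h V Q₀ hQ₀ hQ₀V hQ₀P
  let W' : Ideal (V ⊗[R'] (R' ⊗[A] C)) := W.comap e.toRingEquiv.toRingHom
  have hW'Γ : W' ≤ Γ := by
    intro x hx
    have h1 : e x ∈ Q₀ := hWQ hx
    have h2 : e.symm (e x) ∈ Γ := h1
    rwa [e.symm_apply_apply] at h2
  let j : R' ⊗[A] C →+* V ⊗[R'] (R' ⊗[A] C) :=
    (Algebra.TensorProduct.includeRight : R' ⊗[A] C →ₐ[R'] V ⊗[R'] (R' ⊗[A] C)).toRingHom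
  refine ⟨W'.comap j, Ideal.IsPrime.comap _, ?_, ?_⟩
  · rw [← hΓP']
    exact Ideal.comap_mono hW'Γ
  · rw [← hVT]
    ext x
    have h1 : j (algebraMap R' (R' ⊗[A] C) x) =
        algebraMap V (V ⊗[R'] (R' ⊗[A] C)) (algebraMap R' V x) := by
      change (1 : V) ⊗ₜ[R'] (algebraMap R' (R' ⊗[A] C) x) = algebraMap R' V x ⊗ₜ[R'] 1
      rw [Algebra.algebraMap_eq_smul_one, Algebra.algebraMap_eq_smul_one, TensorProduct.smul_tmul]
    rw [Ideal.mem_comap, Ideal.mem_comap, h1, RingHom.mem_ker]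
    change e (algebraMap V _ _) ∈ W ↔ _
    rw [e.commutes]
    have h2 : ∀ v : V, algebraMap V (V ⊗[A] C) v ∈ W ↔ v = 0 := fun v => by
      rw [← Ideal.mem_comap, hWV]
      rfl
    exact h2 _

/-- Surjectivity on residue fields, elementwise. -/
def ResSurj {C D : Type*} [CommRing C] [CommRing D] (φ : C →+* D) (Q : Ideal D) : Prop :=
  ∀ d : D, ∃ c c' : C, φ c' ∉ Q ∧ φ c' * d - φ c ∈ Q

theorem ResSurj.of_surjective {C D : Type*} [CommRing C] [CommRing D] (φ : C →+* D) (Q : Ideal D)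
    [hQ : Q.IsPrime] (h : Function.Surjective φ) : ResSurj φ Q := by
  intro d
  obtain ⟨c, rfl⟩ := h d
  refine ⟨c, 1, ?_, ?_⟩
  · rw [map_one]
    exact (Ideal.ne_top_iff_one _).1 hQ.ne_top
  · rw [map_one, one_mul, sub_self]
    exact Q.zero_mem

theorem ResSurj.of_isLocalization {C D : Type*} [CommRing C] [CommRing D] [Algebra C D]
    (M : Submonoid C) [IsLocalization M D] (Q : Ideal D) [hQ : Q.IsPrime] :
    ResSurj (algebraMap C D) Q := by
  intro d
  obtain ⟨⟨c, s⟩, h⟩ := IsLocalization.surj M d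
  refine ⟨c, s, ?_, ?_⟩
  · exact fun h => hQ.ne_top (Ideal.eq_top_of_isUnit_mem _ h (IsLocalization.map_units D s))
  · rw [mul_comm, h, sub_self]
    exact Q.zero_mem

theorem ResSurj.comp {C D E : Type*} [CommRing C] [CommRing D] [CommRing E] (φ : C →+* D)
    (ψ : D →+* E) (Q : Ideal E) [hQ : Q.IsPrime] (h₁ : ResSurj φ (Q.comap ψ)) (h₂ : ResSurj ψ Q) :
    ResSurj (ψ.comp φ) Q := by
  intro x
  obtain ⟨d, d', hd', hd⟩ := h₂ x
  obtain ⟨c₁, c₁', hc₁', hc₁⟩ := h₁ d'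
  obtain ⟨c₂, c₂', hc₂', hc₂⟩ := h₁ d
  rw [Ideal.mem_comap] at hc₁' hc₁ hc₂' hc₂
  rw [map_sub, map_mul] at hc₁ hc₂
  refine ⟨c₁' * c₂, c₁ * c₂', ?_, ?_⟩
  · rw [RingHom.comp_apply, map_mul, map_mul]
    intro h
    rcases hQ.mem_or_mem h with h | h
    · have h1 : ψ (φ c₁') * ψ d' ∈ Q := by
        have := Q.add_mem hc₁ h
        rwa [sub_add_cancel] at this
      rcases hQ.mem_or_mem h1 with h1 | h1
      · exact hc₁' h1
      · exact hd' h1
    · exact hc₂' h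
  · have h1 : (ψ.comp φ) (c₁ * c₂') * x - (ψ.comp φ) (c₁' * c₂) =
        ψ (φ c₁') * (ψ (φ c₂') * (ψ d' * x - ψ d)) - (ψ (φ c₁') * ψ d' - ψ (φ c₁)) * (ψ (φ c₂') * x) +
          ψ (φ c₁') * (ψ (φ c₂') * ψ d - ψ (φ c₂)) := by
      rw [RingHom.comp_apply, RingHom.comp_apply, map_mul, map_mul, map_mul, map_mul]
      ring
    rw [h1]
    exact Q.add_mem (Q.sub_mem (Q.mul_mem_left _ (Q.mul_mem_left _ hd)) (Q.mul_mem_right _ hc₁))
      (Q.mul_mem_left _ hc₂)

theorem ResSurj.baseChange {A R' C : Type*} [CommRing A] [CommRing R'] [CommRing C] [Algebra A R']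
    [Algebra A C] (Q : Ideal (R' ⊗[A] C)) [hQ : Q.IsPrime]
    (h : ResSurj (algebraMap A R') (Q.comap (algebraMap R' (R' ⊗[A] C)))) :
    ResSurj (Algebra.TensorProduct.includeRight : C →ₐ[A] R' ⊗[A] C).toRingHom Q := by
  have hA : ∀ a : A, (algebraMap R' (R' ⊗[A] C)) (algebraMap A R' a) = (1 : R') ⊗ₜ[A] algebraMap A C a :=
    fun a => by
      change algebraMap A R' a ⊗ₜ[A] (1 : C) = _
      rw [Algebra.algebraMap_eq_smul_one, Algebra.algebraMap_eq_smul_one, TensorProduct.smul_tmul]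
  intro d
  suffices h' : ∃ (c : C) (a' : A), (1 : R') ⊗ₜ[A] algebraMap A C a' ∉ Q ∧
      (1 : R') ⊗ₜ[A] algebraMap A C a' * d - (1 : R') ⊗ₜ[A] c ∈ Q by
    obtain ⟨c, a', h1, h2⟩ := h'
    exact ⟨c, algebraMap A C a', h1, h2⟩
  induction d with
  | zero =>
    refine ⟨0, 1, ?_, ?_⟩
    · rw [map_one]
      exact (Ideal.ne_top_iff_one _).1 hQ.ne_top
    · rw [mul_zero, tmul_zero, sub_zero]
      exact Q.zero_mem
  | tmul r c =>
    obtain ⟨a, a', ha', ha⟩ := h r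
    rw [Ideal.mem_comap, hA] at ha'
    rw [Ideal.mem_comap, map_sub, map_mul, hA, hA] at ha
    refine ⟨algebraMap A C a * c, a', ha', ?_⟩
    have h1 : (1 : R') ⊗ₜ[A] algebraMap A C a' * r ⊗ₜ[A] c - (1 : R') ⊗ₜ[A] (algebraMap A C a * c) =
        ((1 : R') ⊗ₜ[A] algebraMap A C a' * algebraMap R' (R' ⊗[A] C) r -
          (1 : R') ⊗ₜ[A] algebraMap A C a) * ((1 : R') ⊗ₜ[A] c) := by
      rw [sub_mul, Algebra.TensorProduct.algebraMap_apply, Algebra.algebraMap_self, RingHom.id_apply,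
        mul_assoc, Algebra.TensorProduct.tmul_mul_tmul, Algebra.TensorProduct.tmul_mul_tmul,
        Algebra.TensorProduct.tmul_mul_tmul, mul_one, one_mul, one_mul,
        Algebra.TensorProduct.tmul_mul_tmul, one_mul]
    rw [h1]
    exact Q.mul_mem_right _ ha
  | add x y hx hy =>
    obtain ⟨c₁, a₁, h1, h2⟩ := hx
    obtain ⟨c₂, a₂, h3, h4⟩ := hy
    refine ⟨algebraMap A C a₂ * c₁ + algebraMap A C a₁ * c₂, a₁ * a₂, ?_, ?_⟩
    · rw [map_mul]
      intro h5
      have h6 : (1 : R') ⊗ₜ[A] algebraMap A C a₁ * (1 : R') ⊗ₜ[A] algebraMap A C a₂ ∈ Q := by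
        rwa [Algebra.TensorProduct.tmul_mul_tmul, one_mul]
      rcases hQ.mem_or_mem h6 with h6 | h6
      · exact h1 h6
      · exact h3 h6
    · have h5 : (1 : R') ⊗ₜ[A] algebraMap A C (a₁ * a₂) * (x + y) -
          (1 : R') ⊗ₜ[A] (algebraMap A C a₂ * c₁ + algebraMap A C a₁ * c₂) =
          (1 : R') ⊗ₜ[A] algebraMap A C a₂ * ((1 : R') ⊗ₜ[A] algebraMap A C a₁ * x - (1 : R') ⊗ₜ[A] c₁) +
          (1 : R') ⊗ₜ[A] algebraMap A C a₁ * ((1 : R') ⊗ₜ[A] algebraMap A C a₂ * y - (1 : R') ⊗ₜ[A] c₂) := by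
        have e1 : ∀ b c : C, (1 : R') ⊗ₜ[A] (b * c) = (1 : R') ⊗ₜ[A] b * (1 : R') ⊗ₜ[A] c := fun b c => by
          rw [Algebra.TensorProduct.tmul_mul_tmul, one_mul]
        rw [map_mul, tmul_add, e1, e1, e1]
        ring
      rw [h5]
      exact Q.add_mem (Q.mul_mem_left _ h2) (Q.mul_mem_left _ h4)

/-- Surjectivity on residue fields from Mathlib's form. -/
theorem ResSurj.of_surjective_mapₐ {A R' : Type u} [CommRing A] [CommRing R'] [Algebra A R'] (p : Ideal A)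
    [p.IsPrime] (P : Ideal R') [P.IsPrime] [P.LiesOver p]
    (h : Function.Surjective (Ideal.ResidueField.mapₐ p P (Algebra.ofId _ _) (P.over_def p))) :
    ResSurj (algebraMap A R') P := by
  intro r
  obtain ⟨x, hx⟩ := h (algebraMap R' _ r)
  obtain ⟨⟨a, a'⟩, hy⟩ := IsLocalization.surj (M := nonZeroDivisors (A ⧸ p)) x
  obtain ⟨a, rfl⟩ := Ideal.Quotient.mk_surjective a
  obtain ⟨a', ha'⟩ := a'
  obtain ⟨a', rfl⟩ := Ideal.Quotient.mk_surjective a'
  have ha0 : a' ∉ p := by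
    rw [← Ideal.Quotient.eq_zero_iff_mem]
    exact nonZeroDivisors.ne_zero ha'
  have hpP : ∀ c : A, algebraMap A R' c ∈ P ↔ c ∈ p := fun c => by
    rw [P.over_def p]
    rfl
  refine ⟨a, a', fun h => ha0 ((hpP _).1 h), ?_⟩
  have h1 := congrArg (Ideal.ResidueField.mapₐ p P (Algebra.ofId _ _) (P.over_def p)) hy
  rw [map_mul, hx] at h1
  have h2 : ∀ c : A, Ideal.ResidueField.mapₐ p P (Algebra.ofId _ _) (P.over_def p)
      (algebraMap (A ⧸ p) p.ResidueField (Ideal.Quotient.mk p c)) =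
        algebraMap R' P.ResidueField (algebraMap A R' c) := fun c => by
    have h3 : algebraMap (A ⧸ p) p.ResidueField (Ideal.Quotient.mk p c) =
        algebraMap A p.ResidueField c := rfl
    rw [h3, AlgHom.commutes]
    exact IsScalarTower.algebraMap_apply A R' P.ResidueField c
  rw [h2, h2, ← map_mul, ← sub_eq_zero, ← map_sub, Ideal.algebraMap_residueField_eq_zero] at h1
  rwa [mul_comm]

theorem quasiFinite_of_etale {A R' : Type u} [CommRing A] [CommRing R'] [Algebra A R']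
    [Algebra.Etale A R'] : Algebra.QuasiFinite A R' where
  finite_fiber P _ := by
    have : Algebra.Etale P.ResidueField (P.Fiber R') := inferInstance
    exact Algebra.FormallyUnramified.finite_of_free P.ResidueField (P.Fiber R')

attribute [local instance] Algebra.TensorProduct.rightAlgebra in
/-- **Étale localisation of a quasi-finite algebra at a prime to which generizations lift.** -/
theorem exists_etale {A C : Type u} [CommRing A] [CommRing C] [Algebra A C]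
    [Algebra.FinitePresentation A C] (P : Ideal C) [P.IsPrime] [Algebra.QuasiFiniteAt A P]
    (h : GenMax A C P) :
    ∃ (R' : Type u) (_ : CommRing R') (_ : Algebra A R') (_ : Algebra.Etale A R')
      (D : Type u) (_ : CommRing D) (_ : Algebra R' D) (_ : Module.Finite R' D)
      (_ : Algebra.FinitePresentation R' D) (φ : C →+* D) (Q : Ideal D) (_ : Q.IsPrime),
      φ.comp (algebraMap A C) = (algebraMap R' D).comp (algebraMap A R') ∧
      (∀ T : Ideal R', T.IsPrime → ∃ Q' : Ideal D, Q'.IsPrime ∧ Q'.comap (algebraMap R' D) = T) ∧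
      Q.comap φ = P ∧
      (∀ Q' : Ideal D, Q'.IsPrime → (Q'.comap (algebraMap R' D)).comap (algebraMap A R') =
        P.comap (algebraMap A C) → Q' = Q) ∧
      ResSurj φ Q := by
  let p : Ideal A := P.comap (algebraMap A C)
  have hp : p.IsPrime := Ideal.IsPrime.comap _
  have hPp : P.LiesOver p := ⟨rfl⟩
  obtain ⟨R₀, _, _, hEt, 𝔓, h𝔓, h𝔓p, e, he, P', hP', hP'𝔓, hP'P, heP', hbij, hfin, huniq⟩ :=
    Algebra.exists_etale_isIdempotentElem_forall_liesOver_eq p P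
  let D₀ := Localization.Away e
  have hfpD₀' : Algebra.FinitePresentation (R₀ ⊗[A] C) D₀ := IsLocalization.Away.finitePresentation e
  have hfpD₀ : Algebra.FinitePresentation R₀ D₀ :=
    Algebra.FinitePresentation.trans R₀ (R₀ ⊗[A] C) D₀
  have hfinD₀ : Module.Finite R₀ D₀ := hfin
  have hsurj : Function.Surjective (algebraMap (R₀ ⊗[A] C) D₀) :=
    IsLocalization.Away.algebraMap_surjective_of_isIdempotentElem e he
  have hR₀D₀ : ∀ I : Ideal D₀, I.comap (algebraMap R₀ D₀) =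
      (I.comap (algebraMap (R₀ ⊗[A] C) D₀)).comap (algebraMap R₀ (R₀ ⊗[A] C)) := fun I => rfl
  -- primes of `D₀`
  have hprime : ∀ Q : Ideal (R₀ ⊗[A] C), Q.IsPrime → e ∉ Q → ∃ Q' : Ideal D₀, Q'.IsPrime ∧
      Q'.comap (algebraMap (R₀ ⊗[A] C) D₀) = Q := fun Q hQ heQ => by
    have hdis : Disjoint (Submonoid.powers e : Set (R₀ ⊗[A] C)) (Q : Set (R₀ ⊗[A] C)) := by
      rw [Ideal.disjoint_powers_iff_notMem_of_isPrime]
      exact heQ
    exact ⟨Q.map (algebraMap _ D₀), IsLocalization.isPrime_of_isPrime_disjoint (.powers e) _ Q hQ hdis,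
      IsLocalization.comap_map_of_isPrime_disjoint (.powers e) _ hQ hdis⟩
  have hlift : ∀ T : Ideal R₀, T.IsPrime → T ≤ 𝔓 →
      ∃ Q : Ideal D₀, Q.IsPrime ∧ Q.comap (algebraMap R₀ D₀) = T := by
    intro T hT hT𝔓
    obtain ⟨Q, hQ, hQP', hQT⟩ := exists_le_of_genMax P h P' hP'P T (by
      rw [← show 𝔓 = P'.comap (algebraMap R₀ (R₀ ⊗[A] C)) from hP'𝔓.over]
      exact hT𝔓)
    obtain ⟨Q', hQ', hQ'c⟩ := hprime Q hQ (fun h1 => heP' (hQP' h1))
    refine ⟨Q', hQ', ?_⟩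
    rw [hR₀D₀, hQ'c, hQT]
  obtain ⟨g₁, hg₁, hg₁s⟩ := exists_notMem_of_generizations (algebraMap R₀ D₀)
    (RingHom.finitePresentation_algebraMap.2 hfpD₀) 𝔓 hlift
  have hqf : Algebra.QuasiFinite A R₀ := quasiFinite_of_etale
  obtain ⟨g₂, hg₂, -, hg₂u, -⟩ :=
    Algebra.exists_notMem_and_isIntegral_forall_mem_of_ne_of_liesOver p 𝔓
  obtain ⟨𝔔₀, h𝔔₀, h𝔔₀P'⟩ := hprime P' hP' heP'
  let g := g₁ * g₂
  have hg : g ∉ 𝔓 := fun h1 => (h𝔓.mem_or_mem h1).elim hg₁ hg₂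
  let R' := Localization.Away g
  have hetR' : Algebra.Etale R₀ R' := Algebra.Etale.of_isLocalizationAway g
  let D := R' ⊗[R₀] D₀
  have hlocD : IsLocalization.Away (algebraMap R₀ D₀ g) D := inferInstance
  have hetAR' : Algebra.Etale A R' := Algebra.Etale.comp A R₀ R'
  have hfinD : Module.Finite R' D := inferInstance
  have hfpD : Algebra.FinitePresentation R' D := inferInstance
  let ψ : D₀ →+* D := algebraMap D₀ D
  let φ₀ : C →+* R₀ ⊗[A] C := (Algebra.TensorProduct.includeRight : C →ₐ[A] R₀ ⊗[A] C).toRingHom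
  let φ : C →+* D := (ψ.comp (algebraMap (R₀ ⊗[A] C) D₀)).comp φ₀
  -- the point of `Spec R'`
  let 𝔓' : Ideal R' := 𝔓.map (algebraMap R₀ R')
  have hgdis : Disjoint (Submonoid.powers g : Set R₀) (𝔓 : Set R₀) := by
    rw [Ideal.disjoint_powers_iff_notMem_of_isPrime]
    exact hg
  have h𝔓' : 𝔓'.IsPrime := IsLocalization.isPrime_of_isPrime_disjoint (.powers g) _ 𝔓 h𝔓 hgdis
  have h𝔓'c : 𝔓'.comap (algebraMap R₀ R') = 𝔓 :=
    IsLocalization.comap_map_of_isPrime_disjoint (.powers g) _ h𝔓 hgdis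
  have h𝔔₀𝔓 : 𝔔₀.comap (algebraMap R₀ D₀) = 𝔓 := by
    rw [hR₀D₀, h𝔔₀P']
    exact hP'𝔓.over.symm
  have hgT : ∀ T : Ideal R', T.IsPrime → g ∉ T.comap (algebraMap R₀ R') := fun T hT h1 =>
    hT.ne_top (Ideal.eq_top_of_isUnit_mem _ h1 (IsLocalization.Away.algebraMap_isUnit g))
  obtain ⟨Q, hQ, hQ𝔓', hQ𝔔₀⟩ := Groth.Agent.Ega43.QSectGlobal.exists_prime_tensor (R := R₀) (A := R')
    (B := D₀) 𝔓' 𝔔₀ (by rw [h𝔓'c, h𝔔₀𝔓])
  have hQψ : Q.comap ψ = 𝔔₀ := hQ𝔔₀
  refine ⟨R', inferInstance, inferInstance, hetAR', D, inferInstance, inferInstance, hfinD, hfpD, φ,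
    Q, hQ, ?_, ?_, ?_, ?_, ?_⟩
  · ext a
    change (1 : R') ⊗ₜ[R₀] algebraMap (R₀ ⊗[A] C) D₀ ((1 : R₀) ⊗ₜ[A] algebraMap A C a) =
      algebraMap A R' a ⊗ₜ[R₀] (1 : D₀)
    have h1 : (1 : R₀) ⊗ₜ[A] algebraMap A C a = algebraMap R₀ (R₀ ⊗[A] C) (algebraMap A R₀ a) := by
      rw [Algebra.TensorProduct.algebraMap_apply, Algebra.algebraMap_self, RingHom.id_apply,
        Algebra.algebraMap_eq_smul_one, Algebra.algebraMap_eq_smul_one, TensorProduct.smul_tmul]
    rw [h1, ← IsScalarTower.algebraMap_apply R₀ (R₀ ⊗[A] C) D₀,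
      IsScalarTower.algebraMap_apply A R₀ R', Algebra.algebraMap_eq_smul_one (R := R₀) (A := D₀),
      Algebra.algebraMap_eq_smul_one (R := R₀) (A := R'), TensorProduct.smul_tmul]
  · intro T hT
    obtain ⟨Q₀, hQ₀, hQ₀T⟩ := hg₁s (T.comap (algebraMap R₀ R')) (Ideal.IsPrime.comap _)
      (fun h1 => hgT T hT (Ideal.mul_mem_right _ _ h1))
    obtain ⟨Q', hQ', hQ'T, -⟩ := Groth.Agent.Ega43.QSectGlobal.exists_prime_tensor (R := R₀) (A := R')
      (B := D₀) T Q₀ hQ₀T.symm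
    exact ⟨Q', hQ', hQ'T⟩
  · change ((Q.comap ψ).comap (algebraMap (R₀ ⊗[A] C) D₀)).comap φ₀ = P
    rw [hQψ, h𝔔₀P']
    exact hP'P
  · intro Q' hQ' hQ'p
    let T : Ideal R' := Q'.comap (algebraMap R' D)
    have hT : T.IsPrime := Ideal.IsPrime.comap _
    let T₀ : Ideal R₀ := T.comap (algebraMap R₀ R')
    have hT₀ : T₀.IsPrime := Ideal.IsPrime.comap _
    have hT₀p : T₀.LiesOver p := ⟨hQ'p.symm⟩
    have hT₀𝔓 : T₀ = 𝔓 := by
      by_contra hne
      exact hgT T hT (Ideal.mul_mem_left _ _ (hg₂u T₀ hT₀ hne hT₀p))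
    have hQ'₀ : (Q'.comap ψ).comap (algebraMap R₀ D₀) = 𝔓 := by
      rw [← hT₀𝔓]
      ext r
      change (1 : R') ⊗ₜ[R₀] algebraMap R₀ D₀ r ∈ Q' ↔ algebraMap R₀ R' r ⊗ₜ[R₀] (1 : D₀) ∈ Q'
      rw [Algebra.algebraMap_eq_smul_one (R := R₀) (A := D₀),
        Algebra.algebraMap_eq_smul_one (R := R₀) (A := R'), TensorProduct.smul_tmul]
    have hQ'ψp : (Q'.comap ψ).IsPrime := Ideal.IsPrime.comap _
    let P'' : Ideal (R₀ ⊗[A] C) := (Q'.comap ψ).comap (algebraMap (R₀ ⊗[A] C) D₀)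
    have hP'' : P'' = P' := by
      refine huniq P'' (Ideal.IsPrime.comap _) ⟨hQ'₀.symm⟩ fun h1 => ?_
      exact hQ'ψp.ne_top (Ideal.eq_top_of_isUnit_mem _ h1 (IsLocalization.Away.algebraMap_isUnit e))
    have h1 : Q'.comap ψ = 𝔔₀ := by
      refine Ideal.comap_injective_of_surjective (algebraMap (R₀ ⊗[A] C) D₀) hsurj ?_
      rw [h𝔔₀P']
      exact hP''
    have h2 : Q'.under D₀ = Q.under D₀ := h1.trans hQψ.symm
    rw [← IsLocalization.map_comap (Submonoid.powers (algebraMap R₀ D₀ g)) D Q', h2,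
      IsLocalization.map_comap (Submonoid.powers (algebraMap R₀ D₀ g)) D Q]
  · refine ResSurj.comp φ₀ _ Q ?_ (ResSurj.comp _ ψ Q ?_ ?_)
    · refine ResSurj.baseChange _ ?_
      have h1 : (Q.comap (ψ.comp (algebraMap (R₀ ⊗[A] C) D₀))).comap
          (algebraMap R₀ (R₀ ⊗[A] C)) = 𝔓 := by
        rw [← Ideal.comap_comap, hQψ, h𝔔₀P']
        exact hP'𝔓.over.symm
      rw [h1]
      exact ResSurj.of_surjective_mapₐ p 𝔓 hbij.2
    · exact ResSurj.of_surjective _ _ hsurj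
    · exact ResSurj.of_isLocalization (Submonoid.powers (algebraMap R₀ D₀ g)) Q

end K207.QSecEtale
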