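import Groth.Agent.Ega43.QSCore
import Groth.Agent.SGA3.K207.QSecEtale

/-!
# Quasi-sections through a point closed in its fibre: the affine statement
-/

set_option autoImplicit false
universe u v w
open TensorProduct MvPolynomial Groth.Agent.Ega43.QSHeight Groth.Agent.Ega43.QSExists K207.QSecGD K207.QSecEtale

namespace K207.QSecAff

theorem genMax_of_genAt {A B : Type u} [CommRing A] [CommRing B] [Algebra A B]
    [Algebra.FiniteType A B] {n m : ℕ} (hmn : m ≤ n) (t : Fin n → B) (s : Fin m → B) (q P : Ideal B)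
    [q.IsPrime] [P.IsPrime] (hqP : q ≤ P) (hgen : GenAt A B q)
    (ht : q.comap (aeval t : MvPolynomial (Fin n) A →ₐ[A] B).toRingHom =
      (P.comap (algebraMap A B)).map MvPolynomial.C)
    (hqf : @Algebra.QuasiFiniteAt (MvPolynomial (Fin m) A) B _ _
      (aeval s : MvPolynomial (Fin m) A →ₐ[A] B).toRingHom.toAlgebra P _) (hs : ∀ i, s i ∈ P)
    (I : Ideal B) (hI : I = Ideal.span (Set.range s)) (PC : Ideal (B ⧸ I))
    (hPC : PC.comap (Ideal.Quotient.mk I) = P) : GenMax A (B ⧸ I) PC := by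
  intro V _ _ _ _ Q hQ hQV hQP
  let _ : Algebra (MvPolynomial (Fin m) A) B :=
    (aeval s : MvPolynomial (Fin m) A →ₐ[A] B).toRingHom.toAlgebra
  have : IsScalarTower A (MvPolynomial (Fin m) A) B := IsScalarTower.of_algebraMap_eq fun a => by
    change _ = aeval s (MvPolynomial.C a)
    rw [aeval_C]
  have hX : ∀ i, algebraMap (MvPolynomial (Fin m) A) B (X i) = s i := fun i => aeval_X _ _
  let θ : V ⊗[A] B →ₐ[V] V ⊗[A] (B ⧸ I) :=
    Algebra.TensorProduct.map (AlgHom.id V V) (Ideal.Quotient.mkₐ A I)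
  have hθs : Function.Surjective θ := Algebra.TensorProduct.map_surjective _ _ Function.surjective_id
    (Ideal.Quotient.mkₐ_surjective A _)
  let ι : B →ₐ[A] V ⊗[A] B := Algebra.TensorProduct.includeRight
  have hker : RingHom.ker θ.toRingHom = Ideal.span (Set.range fun i => (1 : V) ⊗ₜ[A] s i) := by
    have h1 := Algebra.TensorProduct.lTensor_ker (A := V) (Ideal.Quotient.mkₐ A I)
      (Ideal.Quotient.mkₐ_surjective A _)
    have h2 : RingHom.ker (Ideal.Quotient.mkₐ A I) = I := Ideal.Quotient.mkₐ_ker A _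
    rw [h2] at h1
    change RingHom.ker (Algebra.TensorProduct.map (AlgHom.id A V) (Ideal.Quotient.mkₐ A I)) = _
    rw [h1, hI, Ideal.map_span, ← Set.range_comp]
    rfl
  let P' : Ideal (V ⊗[A] B) := Q.comap θ.toRingHom
  have hP' : P'.IsPrime := Ideal.IsPrime.comap _
  have hP'V : P'.comap (algebraMap V (V ⊗[A] B)) = IsLocalRing.maximalIdeal V := by
    rw [← hQV]
    ext v
    change θ (algebraMap V _ v) ∈ Q ↔ algebraMap V _ v ∈ Q
    rw [θ.commutes]
  have hP'P : P'.comap (Algebra.TensorProduct.includeRight : B →ₐ[A] V ⊗[A] B).toRingHom = P := by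
    rw [← hPC, ← hQP]
    ext b
    change θ ((1 : V) ⊗ₜ b) ∈ Q ↔ (1 : V) ⊗ₜ Ideal.Quotient.mk I b ∈ Q
    rw [Algebra.TensorProduct.map_tmul]
    rfl
  have hpV : (IsLocalRing.maximalIdeal V).comap (algebraMap A V) = P.comap (algebraMap A B) := by
    rw [← hP'P, ← hP'V]
    ext a
    change algebraMap A V a ⊗ₜ[A] (1 : B) ∈ P' ↔ (1 : V) ⊗ₜ[A] algebraMap A B a ∈ P'
    rw [Algebra.algebraMap_eq_smul_one, Algebra.algebraMap_eq_smul_one, TensorProduct.smul_tmul]
  obtain ⟨W, hW, hWP', hWs, hWV⟩ := exists_prime_valuation hmn t (P.comap (algebraMap A B)) hpV q P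
    hqP hgen ht (fun i => by rw [hX]; exact hs i) P' hP'V hP'P
  have hkerW : RingHom.ker θ.toRingHom ≤ W := by
    rw [hker, Ideal.span_le]
    rintro _ ⟨i, rfl⟩
    have h1 := hWs i
    rw [hX] at h1
    exact h1
  have hWθ : (W.map θ.toRingHom).comap θ.toRingHom = W := by
    rw [Ideal.comap_map_of_surjective' θ.toRingHom hθs, sup_eq_left.mpr hkerW]
  refine ⟨W.map θ.toRingHom, Ideal.map_isPrime_of_surjective hθs hkerW, ?_, ?_⟩
  · rw [Ideal.map_le_iff_le_comap]
    exact hWP'
  · rw [← hWV, ← hWθ]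
    ext v
    rw [hWθ]
    change algebraMap V _ v ∈ W.map θ.toRingHom ↔ algebraMap V _ v ∈ W
    conv_rhs => rw [← hWθ]
    change _ ↔ θ (algebraMap V _ v) ∈ W.map θ.toRingHom
    rw [θ.commutes]

/-- **Quasi-sections, affine form.** -/
theorem exists_quasiSection {A B : Type u} [CommRing A] [CommRing B] [Algebra A B]
    [Algebra.FinitePresentation A B] (q P : Ideal B) [q.IsPrime] [P.IsPrime] (hqP : q ≤ P)
    (hgen : GenAt A B q)
    (hmax : ∀ P' : Ideal B, P'.IsPrime → P ≤ P' → P'.under A = P.under A → P' = P)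
    {n : ℕ} (t : Fin n → B)
    (ht : q.comap (aeval t : MvPolynomial (Fin n) A →ₐ[A] B).toRingHom =
      (P.comap (algebraMap A B)).map MvPolynomial.C) (hn : fh A P ≤ n) :
    ∃ (R' : Type u) (_ : CommRing R') (_ : Algebra A R') (_ : Algebra.Etale A R')
      (D : Type u) (_ : CommRing D) (_ : Algebra R' D) (_ : Module.Finite R' D)
      (_ : Algebra.FinitePresentation R' D) (φ : B →+* D) (Q : Ideal D) (_ : Q.IsPrime),
      φ.comp (algebraMap A B) = (algebraMap R' D).comp (algebraMap A R') ∧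
      (∀ T : Ideal R', T.IsPrime → ∃ Q' : Ideal D, Q'.IsPrime ∧ Q'.comap (algebraMap R' D) = T) ∧
      Q.comap φ = P ∧
      (∀ Q' : Ideal D, Q'.IsPrime → (Q'.comap (algebraMap R' D)).comap (algebraMap A R') =
        P.comap (algebraMap A B) → Q' = Q) ∧
      ResSurj φ Q := by
  classical
  obtain ⟨s₀, hs₀P, hs₀c, hs₀m⟩ := exists_cut A P
  have hmn : s₀.card ≤ n := by exact_mod_cast hs₀c.trans hn
  let s : Fin s₀.card → B := fun i => (s₀.equivFin.symm i : B)
  have hsr : Set.range s = (s₀ : Set B) := by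
    ext b
    constructor
    · rintro ⟨i, rfl⟩
      exact (s₀.equivFin.symm i).2
    · intro hb
      exact ⟨s₀.equivFin ⟨b, hb⟩, by simp [s]⟩
  have hs : ∀ i, s i ∈ P := fun i => hs₀P (hsr ▸ ⟨i, rfl⟩)
  obtain ⟨PC, hPC, hPCP, hqfC⟩ := Groth.Agent.Ega43.QSCore.quasiFiniteAt_cut (A := A) P s₀ hs₀P hs₀m hmax
  have hqf : @Algebra.QuasiFiniteAt (MvPolynomial (Fin s₀.card) A) B _ _
      (aeval s : MvPolynomial (Fin s₀.card) A →ₐ[A] B).toRingHom.toAlgebra P _ := by
    let _ : Algebra (MvPolynomial (Fin s₀.card) A) B :=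
      (aeval s : MvPolynomial (Fin s₀.card) A →ₐ[A] B).toRingHom.toAlgebra
    have : IsScalarTower A (MvPolynomial (Fin s₀.card) A) B :=
      IsScalarTower.of_algebraMap_eq fun a => by
        change _ = aeval s (MvPolynomial.C a)
        rw [aeval_C]
    have hX : ∀ i, algebraMap (MvPolynomial (Fin s₀.card) A) B (X i) = s i := fun i => aeval_X _ _
    have : Algebra.FiniteType (MvPolynomial (Fin s₀.card) A) B :=
      Algebra.FiniteType.of_restrictScalars_finiteType A _ B
    have hunder : ∀ P' : Ideal B, P'.under (MvPolynomial (Fin s₀.card) A) =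
        P.under (MvPolynomial (Fin s₀.card) A) → P'.under A = P.under A := fun P' h1 => by
      ext a
      have h2 := congr(MvPolynomial.C a ∈ $h1)
      rw [Ideal.mem_comap, Ideal.mem_comap] at h2
      have h3 : algebraMap (MvPolynomial (Fin s₀.card) A) B (MvPolynomial.C a) = algebraMap A B a :=
        (IsScalarTower.algebraMap_apply A (MvPolynomial (Fin s₀.card) A) B a).symm
      rw [h3] at h2
      exact iff_of_eq h2
    refine quasiFiniteAt_of_isolated (MvPolynomial (Fin s₀.card) A) P (fun P' hP' hle hun => ?_)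
      (fun P' hP' hle hun => ?_)
    · exact hmax P' hP' hle (hunder P' hun)
    · refine hs₀m P' hP' hle (hunder P' hun) ?_
      rw [← hsr]
      rintro _ ⟨i, rfl⟩
      have h2 := congr(X i ∈ $hun)
      rw [Ideal.mem_comap, Ideal.mem_comap, hX] at h2
      exact (iff_of_eq h2).2 (hs i)
  have hgm : GenMax A (B ⧸ Ideal.span (s₀ : Set B)) PC :=
    genMax_of_genAt hmn t s q P hqP hgen ht hqf hs _ (by rw [hsr]) PC hPCP
  have hfp : Algebra.FinitePresentation A (B ⧸ Ideal.span (s₀ : Set B)) :=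
    Algebra.FinitePresentation.quotient ⟨s₀, rfl⟩
  obtain ⟨R', _, _, hEt, D, _, _, hfin, hfpD, φ, Q, hQ, h1, h2, h3, h4, h5⟩ := exists_etale PC hgm
  refine ⟨R', inferInstance, inferInstance, hEt, D, inferInstance, inferInstance, hfin, hfpD,
    φ.comp (Ideal.Quotient.mk _), Q, hQ, ?_, h2, ?_, ?_, ?_⟩
  · rw [RingHom.comp_assoc]
    exact h1
  · rw [← Ideal.comap_comap, h3, hPCP]
  · intro Q' hQ' hQ'P
    refine h4 Q' hQ' (hQ'P.trans ?_)
    rw [← hPCP]
    rfl
  · refine ResSurj.comp _ φ Q ?_ h5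
    have : (Q.comap φ).IsPrime := Ideal.IsPrime.comap _
    exact ResSurj.of_surjective _ _ Ideal.Quotient.mk_surjective

end K207.QSecAff
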