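import Groth.Agent.GrpQ.K185.FamRep
import Groth.Agent.Sga3B.MT.Descend
import Groth.Agent.SGA3x.K18.SubDesc
import Groth.Agent.Sga3.H828.SubgrpObj
import Groth.Agent.Sga1.PushFun

/-!
# Descent of affine subgroups along a covering family

`exists_affine_subgroup_of_family`: `f_j : S_j ⟶ S` an fpqc covering family, `t_j : T_j ⟶ bc f_j G` monomorphisms of
groups, `T_j` affine over `S_j`, which agree on the overlaps.  Then there is a subgroup `p : P ⟶ G` (mono), affine
over `S`, with `bc f_j P = T_j`.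
-/

set_option autoImplicit false
set_option backward.isDefEq.respectTransparency false
set_option backward.isDefEq.respectTransparency.types false
universe u
open CategoryTheory CategoryTheory.Limits MonoidalCategory CartesianMonoidalCategory MonObj GrpObj AlgebraicGeometry
  Opposite

namespace K207.SubTorGlue

open Groth.Agent.Sga3B Groth.Agent.Sga3B.BcPts Groth.Agent.Sga3B.Parab Groth.Agent.Sga3B.MT
  Groth.Agent.Desc.SecFunctor Groth.Agent.Desc.SecPresheaf Groth.Agent.Desc.SecDescent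
  Groth.Agent.Picfga.OverRep Groth.Agent.Sga1.PushFun

variable {S : Scheme.{u}} {G : Over S} {J : Type u} {S' : J → Scheme.{u}} {f : ∀ j, S' j ⟶ S}
  {T : ∀ j, Over (S' j)}

/-- `MemAt` is local for flat surjective quasi-compact morphisms. -/
lemma memAt_of_flat {S₁ : Scheme.{u}} {f₁ : S₁ ⟶ S} {T₁ : Over S₁} (t : T₁ ⟶ Red.bc f₁ G) [Mono t] {X' X : Over S}
    (h : X' ⟶ X) [Flat h.left] [Surjective h.left] [QuasiCompact h.left] {a : X ⟶ Over.mk f₁} {g : X ⟶ G}
    (H : MemAt t (h ≫ a) (h ≫ g)) : MemAt t a g := by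
  obtain ⟨x, hx⟩ := (memAt_iff t _ _).1 H
  rw [bcPt_comp] at hx
  have h1 : Flat (ovMap h a).left := inferInstanceAs (Flat h.left)
  have h2 : Surjective (ovMap h a).left := inferInstanceAs (Surjective h.left)
  have h3 : QuasiCompact (ovMap h a).left := inferInstanceAs (QuasiCompact h.left)
  exact (memAt_iff t _ _).2 (K18.SubDesc.factor_of_cover t (ovMap h a) (bcPt a g) ⟨x, hx⟩)

lemma famCond_comp (t : ∀ j, T j ⟶ Red.bc (f j) G) {X' X : Over S} (h : X' ⟶ X) (g : X ⟶ G) (H : FamCond t X g) :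
    FamCond t X' (h ≫ g) := by
  intro j X'' h' a
  have := H j X'' (h' ≫ h) a
  rwa [Category.assoc] at this

lemma famCond_flat (t : ∀ j, T j ⟶ Red.bc (f j) G) [∀ j, Mono (t j)] {X' X : Over S} (h : X' ⟶ X) (g : X ⟶ G)
    (h1 : Flat h.left) (h2 : Surjective h.left) (h3 : QuasiCompact h.left) (H : FamCond t X' (h ≫ g)) :
    FamCond t X g := by
  intro j Y y a
  let r : Over.mk (pullback.fst y.left h.left ≫ Y.hom) ⟶ Y := Over.homMk (pullback.fst y.left h.left)
  let q : Over.mk (pullback.fst y.left h.left ≫ Y.hom) ⟶ X' :=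
    Over.homMk (pullback.snd y.left h.left) (by
      change pullback.snd y.left h.left ≫ X'.hom = pullback.fst y.left h.left ≫ Y.hom
      rw [← Over.w h, ← Category.assoc, ← pullback.condition, Category.assoc, Over.w])
  have e : r ≫ y = q ≫ h := by
    ext1
    exact pullback.condition
  have : Flat r.left := inferInstanceAs (Flat (pullback.fst y.left h.left))
  have : Surjective r.left := inferInstanceAs (Surjective (pullback.fst y.left h.left))
  have : QuasiCompact r.left := inferInstanceAs (QuasiCompact (pullback.fst y.left h.left))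
  refine memAt_of_flat _ r (a := a) (g := y ≫ g) ?_
  rw [← Category.assoc, e, Category.assoc]
  exact H j _ q _

lemma famCond_zariski (t : ∀ j, T j ⟶ Red.bc (f j) G) [∀ j, Mono (t j)] {X : Over S} (g : X ⟶ G) (𝒰 : Cov X)
    (H : ∀ i, FamCond t (𝒰.V i) (𝒰.j i ≫ g)) : FamCond t X g := by
  intro j X' h a
  let 𝒱 : Scheme.OpenCover.{u} X'.left := 𝒰.openCover.pullback₁ h.left
  refine MemAt.of_cover a (h ≫ g) 𝒱 fun i => ?_
  have w : 𝒱.f i ≫ h.left = pullback.snd h.left (𝒰.openCover.f i) ≫ 𝒰.openCover.f i := pullback.condition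
  let r : Over.mk (𝒱.f i ≫ X'.hom) ⟶ 𝒰.V i :=
    Over.homMk (pullback.snd h.left (𝒰.openCover.f i)) (by
      change pullback.snd h.left (𝒰.openCover.f i) ≫ (𝒰.V i).hom = 𝒱.f i ≫ X'.hom
      rw [← Over.w (𝒰.j i), ← Over.w h]
      exact (Category.assoc _ _ _).symm.trans ((congrArg (· ≫ X.hom) w.symm).trans (Category.assoc _ _ _)))
  have e : r ≫ 𝒰.j i ≫ g = (Over.homMk (𝒱.f i) : Over.mk (𝒱.f i ≫ X'.hom) ⟶ X') ≫ h ≫ g := by
    rw [← Category.assoc, ← Category.assoc]
    congr 1
    ext1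
    exact w.symm
  rw [← e]
  exact H i j _ r _

variable (t : ∀ j, T j ⟶ Red.bc (f j) G)

/-- The subfunctor of `G` defined by a family `t_j`. -/
noncomputable def F : (Over S)ᵒᵖ ⥤ Type u where
  obj X := {g : X.unop ⟶ G // FamCond t X.unop g}
  map h := ↾(fun g => ⟨h.unop ≫ g.1, famCond_comp t _ _ g.2⟩)
  map_id X := by
    apply ConcreteCategory.hom_ext
    intro φ
    apply Subtype.ext
    simp
  map_comp a b := by
    apply ConcreteCategory.hom_ext
    intro φ
    apply Subtype.ext
    simp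

lemma F_map {X X' : Over S} (h : X' ⟶ X) (p : (F t).obj (op X)) : ((F t).map h.op p).1 = h ≫ p.1 := rfl

theorem isZarSheaf_F [∀ j, Mono (t j)] : IsZarSheaf (F t) := by
  intro X 𝒰 x hx
  obtain ⟨a, ha, ha'⟩ := isZarSheaf_yoneda G X 𝒰 (fun i => (x i).1) (fun i k W p q e => by
    have := hx i k W p q e
    exact congrArg (fun z => z.1) this)
  have ha1 : ∀ i, 𝒰.j i ≫ a = (x i).1 := ha
  refine ⟨⟨a, famCond_zariski t a 𝒰 fun i => by rw [ha1]; exact (x i).2⟩, fun i => Subtype.ext (ha1 i),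
    fun y hy => Subtype.ext ?_⟩
  exact ha' y.1 fun i => congrArg (fun z => z.1) (hy i)

theorem isDesc_F [∀ j, Mono (t j)] {X' X : Over S} (g : X' ⟶ X) (h1 : Flat g.left) (h2 : Surjective g.left)
    (h3 : QuasiCompact g.left) : IsDesc (F t) g := by
  have hG : IsDesc (yoneda.obj G) g := isDesc_yoneda G g
  constructor
  · intro p q h
    exact Subtype.ext (hG.inj _ _ (congrArg (fun z => z.1) h))
  · intro p hp
    obtain ⟨a, ha⟩ := hG.glue p.1 (fun Z z₀ z₁ e => congrArg (fun z => z.1) (hp Z z₀ z₁ e))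
    have ha1 : g ≫ a = p.1 := ha
    exact ⟨⟨a, famCond_flat t g a h1 h2 h3 (by rw [ha1]; exact p.2)⟩, Subtype.ext ha1⟩

/-- `F` is represented over `S' j` by `T j`. -/
theorem exists_repr [∀ j, Mono (t j)] (hc : Compat t) (j : J) :
    Nonempty ((restr (f j) (F t)).RepresentableBy (T j)) := by
  have key : ∀ (X : Over (S' j)) (p : (F t).obj (op ((Over.map (f j)).obj X))), ∃ z : X ⟶ T j,
      z ≫ t j = bcEquiv (f j) X G p.1 := fun X p => (famCond_over hc j X _).2 (by
    rw [Equiv.symm_apply_apply]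
    exact p.2)
  choose inv hinv using key
  refine ⟨{ homEquiv := fun {X} =>
      { toFun := fun z => ⟨(bcEquiv (f j) X G).symm (z ≫ t j), (famCond_over hc j X _).1 ⟨z, rfl⟩⟩
        invFun := fun p => inv X p
        left_inv := fun z => ?_
        right_inv := fun p => ?_ }
            homEquiv_comp := ?_ }⟩
  · rw [← cancel_mono (t j)]
    exact (hinv _ _).trans (Equiv.apply_symm_apply _ _)
  · apply Subtype.ext
    change (bcEquiv (f j) X G).symm (inv X p ≫ t j) = _
    rw [hinv, Equiv.symm_apply_apply]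
  · intro X X' a g
    apply Subtype.ext
    change (bcEquiv (f j) X G).symm ((a ≫ g) ≫ t j) = (Over.map (f j)).map a ≫ (bcEquiv (f j) X' G).symm (g ≫ t j)
    rw [Category.assoc, comp_bcEquiv_symm]

/-- **Descent of affine subgroups along a covering family.** -/
theorem exists_affine_subgroup_of_family [GrpObj G] [∀ j, GrpObj (T j)]
    (hf : Presieve.ofArrows S' f ∈ Scheme.fpqcPrecoverage S) [∀ j, IsMonHom (t j)] [∀ j, Mono (t j)]
    [∀ j, IsAffineHom (T j).hom] (hc : Compat t) :
    ∃ (P : Over S) (_ : GrpObj P) (p : P ⟶ G), IsMonHom p ∧ Mono p ∧ IsAffineHom P.hom ∧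
      (∀ (X : Over S) (g : X ⟶ G), (∃ x : X ⟶ P, x ≫ p = g) ↔ FamCond t X g) ∧
      ∀ j, ∃ e : Grp.mk (T j) ≅ Grp.mk (Red.bc (f j) P),
        (RedIso.und e).hom ≫ (Over.pullback (f j)).map p = t j := by
  obtain ⟨P, hP, ⟨r⟩⟩ := K185.FamRep.exists_rep_of_fpqcFamily f hf (F t) (isZarSheaf_F t)
    (fun g h1 h2 h3 => isDesc_F t g h1 h2 h3) @IsAffineHom (fun g hg => by
      have : IsAffineHom g := hg
      refine ⟨inferInstance, fun V hV => ?_⟩
      have : IsAffine (g ⁻¹ᵁ V : Scheme.{u}) := hV.preimage _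
      infer_instance) (fun j => ⟨T j, inferInstance, exists_repr t hc j⟩)
  let u : (F t).obj (op P) := r.homEquiv (𝟙 P)
  let p : P ⟶ G := u.1
  have hr : ∀ {X : Over S} (h : X ⟶ P), (r.homEquiv h).1 = h ≫ p := fun h => by
    have := r.homEquiv_comp h (𝟙 P)
    rw [Category.comp_id] at this
    rw [this]
    rfl
  have hmono : Mono p := by
    constructor
    intro X a b hab
    apply r.homEquiv.injective
    apply Subtype.ext
    rw [hr, hr, hab]
  have H : ∀ (X : Over S) (g : X ⟶ G), (∃ x : X ⟶ P, x ≫ p = g) ↔ FamCond t X g := by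
    intro X g
    constructor
    · rintro ⟨y, rfl⟩
      exact famCond_comp t _ _ u.2
    · intro hg
      let q : (F t).obj (op X) := ⟨g, hg⟩
      exact ⟨r.homEquiv.symm q, by rw [← hr, Equiv.apply_symm_apply]⟩
  obtain ⟨gP, hpm⟩ := Groth.Agent.Sga3.H828.SubgrpObj.exists_grpObj (H := G)
    (fun X =>
      { carrier := {x | FamCond t X x}
        mul_mem' := by
          intro a b ha hb j X' h c
          rw [MonObj.comp_mul]
          exact (ha j X' h c).mul (hb j X' h c)
        one_mem' := by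
          intro j X' h c
          rw [MonObj.comp_one]
          exact MemAt.one c
        inv_mem' := by
          intro a ha j X' h c
          rw [GrpObj.comp_inv]
          exact (ha j X' h c).inv })
    (fun f x hx => famCond_comp t f x hx) p (fun X x => (H X x).symm)
  refine ⟨P, gP, p, hpm, hmono, hP, H, fun j => ?_⟩
  have key : ∀ (X : Over (S' j)) (g : X ⟶ Red.bc (f j) G),
      (∃ x : X ⟶ T j, x ≫ t j = g) ↔ ∃ x : X ⟶ Red.bc (f j) P, x ≫ (Over.pullback (f j)).map p = g := by
    intro X g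
    rw [famCond_over hc, ← H]
    constructor
    · rintro ⟨x, hx⟩
      exact ⟨bcEquiv (f j) X P x, by rw [← bcEquiv_comp, hx, Equiv.apply_symm_apply]⟩
    · rintro ⟨x, hx⟩
      exact ⟨(bcEquiv (f j) X P).symm x, by rw [← bcEquiv_symm_comp, hx]⟩
  have hm' : Mono ((Over.pullback (f j)).map p) := inferInstance
  obtain ⟨u, hu⟩ := (key (T j) (t j)).1 ⟨𝟙 _, Category.id_comp _⟩
  obtain ⟨v, hv⟩ := (key (Red.bc (f j) P) ((Over.pullback (f j)).map p)).2 ⟨𝟙 _, Category.id_comp _⟩
  have huv : u ≫ v = 𝟙 _ := by rw [← cancel_mono (t j), Category.assoc, hv, hu, Category.id_comp]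
  have hvu : v ≫ u = 𝟙 _ := by
    rw [← cancel_mono ((Over.pullback (f j)).map p), Category.assoc, hu, hv, Category.id_comp]
  let e : T j ≅ Red.bc (f j) P := ⟨u, v, huv, hvu⟩
  have hmon : IsMonHom u := Pts.isMonHom_of_points u fun X x y => by
    rw [← cancel_mono ((Over.pullback (f j)).map p)]
    simp only [Category.assoc, hu, MonObj.mul_comp]
  have : IsMonHom e.hom := hmon
  exact ⟨Grp.mkIso' e, hu⟩

end K207.SubTorGlue
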