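import Groth.Agent.SGA3.K207.SubTorMain
import Groth.Agent.SGA3.K207.SubTorGlue
import Groth.Agent.Sga3B.MT.MemOps
import Groth.Agent.Sga3B.MT.TorusFam
import Groth.Agent.PrincBund.K826.Descend

/-!
# Étale descent of subtori with given torsion

* `exists_of_etale_local`: `G` a group over a locally Noetherian scheme, `m k : P k ⟶ G` monomorphisms; if
  étale-locally on the base there is a subtorus of `G` whose `q^k`-torsion is `P k` for all `k`, then there is such a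
  subtorus over the base.
-/

set_option autoImplicit false
universe u
open CategoryTheory MonoidalCategory CartesianMonoidalCategory MonObj GrpObj AlgebraicGeometry Limits

namespace K207.SubTor

open Groth.Agent.Sga3B Groth.Agent.Sga3B.MT Groth.Agent.Sga3B.BcPts Groth.Agent.Sga7.H760.KerBc

/-- `j : T ⟶ G` is a subtorus with `q^k`-torsion `m k : P k ⟶ G` for all `k`. -/
def Good {S : Scheme.{u}} {G T : Over S} [GrpObj T] (q : ℕ) (P : ℕ → Over S) (m : ∀ k, P k ⟶ G) (j : T ⟶ G) : Prop :=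
  ∀ k, ∃ g : P k ⟶ T, g ≫ j = m k ∧ AlgGrp.IsKernel g ((𝟙 T : T ⟶ T) ^ (q ^ k))

section fac

variable {S V W : Scheme.{u}} {v : V ⟶ S} {G : Over S}

lemma isKernel_iso_left {P P' T : Over S} [GrpObj T] (e : P' ≅ P) {g : P ⟶ T} {n : ℕ}
    (h : AlgGrp.IsKernel g ((𝟙 T : T ⟶ T) ^ n)) : AlgGrp.IsKernel (e.hom ≫ g) ((𝟙 T : T ⟶ T) ^ n) := by
  rw [isKernel_pow_iff] at h ⊢
  obtain ⟨h1, h2⟩ := h
  refine ⟨by rw [← MonObj.comp_pow, h1, MonObj.comp_one], fun X x hx => ?_⟩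
  obtain ⟨y, hy, hy'⟩ := h2 X x hx
  refine ⟨y ≫ e.inv, ?_, fun z hz => ?_⟩
  · change (y ≫ e.inv) ≫ e.hom ≫ g = x
    rw [Category.assoc, Iso.inv_hom_id_assoc]
    exact hy
  · rw [← hy' (z ≫ e.hom) (by rw [← hz]; exact Category.assoc _ _ _), Category.assoc, Iso.hom_inv_id, Category.comp_id]

lemma isMonHom_bcSub [GrpObj G] {T : Over V} [GrpObj T] (a : W ⟶ V) (t : T ⟶ Red.bc v G) [IsMonHom t] :
    IsMonHom (bcSub a t) := by
  let c : Red.bc (a ≫ v) G ⟶ Red.bc a (Red.bc v G) := (RedIso.und (BcIso.bcCompIso a v G)).hom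
  have hc : bcSub a t ≫ c = (Over.pullback a).map t := by
    have h1 : c = (Over.pullbackComp a v).hom.app G := BcNat.und_bcCompIso a v G
    rw [h1, bcSub, Category.assoc, ← NatTrans.comp_app, Iso.inv_hom_id, NatTrans.id_app]
    exact Category.comp_id ((Over.pullback a).map t)
  refine K388.SubDescGrp.isMonHom_of_comp (bcSub a t) c ?_
  rw [hc]
  infer_instance

lemma mono_bcSub {T : Over V} (a : W ⟶ V) (t : T ⟶ Red.bc v G) [Mono t] : Mono (bcSub a t) := by
  rw [bcSub]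
  exact mono_comp _ _

lemma good_bcSub [GrpObj G] {T : Over V} [GrpObj T] {q : ℕ} {P : ℕ → Over S} {m : ∀ k, P k ⟶ G} (a : W ⟶ V)
    (t : T ⟶ Red.bc v G) (h : Good q (fun k => Red.bc v (P k)) (fun k => (Over.pullback v).map (m k)) t) :
    Good q (fun k => Red.bc (a ≫ v) (P k)) (fun k => (Over.pullback (a ≫ v)).map (m k)) (bcSub a t) := by
  intro k
  obtain ⟨g, hg, hker⟩ := h k
  refine ⟨((Over.pullbackComp a v).app (P k)).hom ≫ (Over.pullback a).map g, ?_,
    isKernel_iso_left ((Over.pullbackComp a v).app (P k)) (torsion_bc a hker)⟩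
  have h1 := (Over.pullbackComp a v).hom.naturality (m k)
  rw [bcSub, Category.assoc, ← Category.assoc ((Over.pullback a).map g), ← Functor.map_comp, hg]
  change (Over.pullbackComp a v).hom.app (P k) ≫ (Over.pullback v ⋙ Over.pullback a).map (m k) ≫ _ = _
  rw [← Category.assoc, ← h1, Category.assoc, ← NatTrans.comp_app, Iso.hom_inv_id, NatTrans.id_app, Category.comp_id]

end fac

section overlap

variable {S V W : Scheme.{u}} {G : Over S}

lemma memAt_comp {u : W ⟶ S} {T₁ T₂ : Over W} {t₁ : T₁ ⟶ Red.bc u G} {t₂ : T₂ ⟶ Red.bc u G} (ψ : T₁ ⟶ T₂)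
    (hψ : ψ ≫ t₂ = t₁) {X : Over S} {a : X ⟶ Over.mk u} {g : X ⟶ G} (h : MemAt t₁ a g) : MemAt t₂ a g := by
  obtain ⟨x, hx⟩ := (memAt_iff t₁ a g).1 h
  exact (memAt_iff t₂ a g).2 ⟨x ≫ ψ, by rw [Category.assoc, hψ, hx]⟩

variable [IsLocallyNoetherian W] [GrpObj G] {q : ℕ} {P : ℕ → Over S} {m : ∀ k, P k ⟶ G}

theorem memAt_transfer (hq : 1 < q) {u₁ u₂ : W ⟶ S} (hu : u₁ = u₂) {T₁ T₂ : Over W} [GrpObj T₁] [GrpObj T₂]
    (h₁ : Red.IsTorus T₁) (h₂ : Red.IsTorus T₂) (t₁ : T₁ ⟶ Red.bc u₁ G) (t₂ : T₂ ⟶ Red.bc u₂ G) [IsMonHom t₁]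
    [IsMonHom t₂] [Mono t₂]
    (g₁ : Good q (fun k => Red.bc u₁ (P k)) (fun k => (Over.pullback u₁).map (m k)) t₁)
    (g₂ : Good q (fun k => Red.bc u₂ (P k)) (fun k => (Over.pullback u₂).map (m k)) t₂)
    {X : Over S} (a₁ : X ⟶ Over.mk u₁) (a₂ : X ⟶ Over.mk u₂) (ha : a₁.left = a₂.left) (g : X ⟶ G)
    (h : MemAt t₁ a₁ g) : MemAt t₂ a₂ g := by
  subst hu
  obtain ⟨ψ, hψ⟩ := exists_le hq t₁ t₂ h₁ h₂ _ _ g₁ fun k => (g₂ k).imp fun g hg => hg.1
  have hx := memAt_comp ψ hψ h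
  have e : a₁ = a₂ := Over.OverMorphism.ext ha
  rwa [e] at hx

end overlap

/-- Equality of morphisms can be checked étale-locally on the base. -/
theorem hom_ext_of_etale {S : Scheme.{u}} {A B : Over S} (f g : A ⟶ B)
    (h : ∀ s : S, ∃ (V : Scheme.{u}) (v : V ⟶ S), Etale v ∧ s ∈ Set.range v ∧
      (Over.pullback v).map f = (Over.pullback v).map g) : f = g := by
  obtain ⟨ψ, hψ⟩ := exists_factor_of_etale (𝟙 A) (equalizer.ι f g) fun s => by
    obtain ⟨V, v, hv, hs, e⟩ := h s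
    obtain ⟨l, hl⟩ := Fork.IsLimit.lift' (isLimitOfHasEqualizerOfPreservesLimit (Over.pullback v) f g)
      (𝟙 ((Over.pullback v).obj A)) (by rw [e])
    exact ⟨V, v, hv, hs, l, hl.trans ((Over.pullback v).map_id A).symm⟩
  rw [← Category.id_comp f, ← hψ, Category.assoc, equalizer.condition, ← Category.assoc, hψ, Category.id_comp]

/-- **Étale descent of subtori with given torsion.** -/
theorem exists_of_family {S : Scheme.{u}} [IsLocallyNoetherian S] {G : Over S} [GrpObj G] {q : ℕ} (hq : 1 < q)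
    {P : ℕ → Over S} {m : ∀ k, P k ⟶ G} (hm : ∀ k, Mono (m k)) {J : Type u} {V : J → Scheme.{u}} (v : ∀ j, V j ⟶ S)
    (hv : ∀ j, Etale (v j)) (hs : ∀ s : S, ∃ j, s ∈ Set.range (v j)) (T : ∀ j, Over (V j)) (grpT : ∀ j, GrpObj (T j))
    (t : ∀ j, T j ⟶ Red.bc (v j) G) (ht : ∀ j, IsMonHom (t j) ∧ Mono (t j) ∧ Red.IsTorus (T j) ∧
      Good q (fun k => Red.bc (v j) (P k)) (fun k => (Over.pullback (v j)).map (m k)) (t j)) :
    ∃ (H : Over S) (_ : GrpObj H) (j : H ⟶ G), IsMonHom j ∧ Mono j ∧ Red.IsTorus H ∧ Good q P m j := by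
  have h1 := fun j => (ht j).1
  have h2 := fun j => (ht j).2.1
  have h3 : ∀ j, IsAffineHom (T j).hom := fun j => TorusAlgClosed.isAffineHom_of_isTorus (ht j).2.2.1
  have hcov : Presieve.ofArrows V v ∈ Scheme.fpqcPrecoverage S := K826.Descend.etale_le_fpqc _ (by
    rw [Scheme.etalePrecoverage, Scheme.ofArrows_mem_precoverage_iff]
    exact ⟨hs, hv⟩)
  have hc : Compat t := by
    intro i j X a b g hg
    have hvi := hv i
    have hvj := hv j
    let W := pullback (v i) (v j)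
    have hN : IsLocallyNoetherian W := LocallyOfFiniteType.isLocallyNoetherian (pullback.fst (v i) (v j) ≫ v i)
    have w : a.left ≫ v i = b.left ≫ v j := (Over.w a).trans (Over.w b).symm
    let c : X.left ⟶ W := pullback.lift a.left b.left w
    have e : pullback.fst (v i) (v j) ≫ v i = pullback.snd (v i) (v j) ≫ v j := pullback.condition
    let a₁ : X ⟶ Over.mk (pullback.fst (v i) (v j) ≫ v i) := Over.homMk c (by
      change c ≫ pullback.fst (v i) (v j) ≫ v i = X.hom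
      rw [← Category.assoc, pullback.lift_fst]
      exact Over.w a)
    let a₂ : X ⟶ Over.mk (pullback.snd (v i) (v j) ≫ v j) := Over.homMk c (by
      change c ≫ pullback.snd (v i) (v j) ≫ v j = X.hom
      rw [← Category.assoc, pullback.lift_snd]
      exact Over.w b)
    have ea : a₁ ≫ ovq (pullback.fst (v i) (v j)) (v i) = a :=
      Over.OverMorphism.ext (pullback.lift_fst a.left b.left w)
    have eb : a₂ ≫ ovq (pullback.snd (v i) (v j)) (v j) = b :=
      Over.OverMorphism.ext (pullback.lift_snd a.left b.left w)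
    have m1 := isMonHom_bcSub (pullback.fst (v i) (v j)) (t i)
    have m2 := isMonHom_bcSub (pullback.snd (v i) (v j)) (t j)
    have n2 := mono_bcSub (pullback.snd (v i) (v j)) (t j)
    rw [← eb, ← memAt_bcSub]
    rw [← ea, ← memAt_bcSub] at hg
    exact memAt_transfer (m := m) hq e (TorusBc.isTorus_bc _ (ht i).2.2.1) (TorusBc.isTorus_bc _ (ht j).2.2.1)
      (bcSub (pullback.fst (v i) (v j)) (t i)) (bcSub (pullback.snd (v i) (v j)) (t j))
      (good_bcSub _ _ (ht i).2.2.2) (good_bcSub _ _ (ht j).2.2.2) a₁ a₂ rfl g hg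
  obtain ⟨H, gH, j, hjm, hj, haff, -, he⟩ := SubTorGlue.exists_affine_subgroup_of_family t hcov hc
  choose e he using he
  have htor : Red.IsTorus H := isTorus_of_family v (fun j => by have := hv j; infer_instance)
    (fun j => by have := hv j; exact (v j).isOpenMap) hs fun i => TorusBc.isTorus_of_iso (e i) (ht i).2.2.1
  -- the local statements
  have hloc : ∀ i k, ∃ g : Red.bc (v i) (P k) ⟶ Red.bc (v i) H,
      g ≫ (Over.pullback (v i)).map j = (Over.pullback (v i)).map (m k) ∧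
      AlgGrp.IsKernel g ((𝟙 (Red.bc (v i) H) : Red.bc (v i) H ⟶ Red.bc (v i) H) ^ (q ^ k)) := by
    intro i k
    obtain ⟨g, hg, hker⟩ := (ht i).2.2.2 k
    exact ⟨g ≫ (RedIso.und (e i)).hom, by rw [Category.assoc, he, hg], torsion_iso (RedIso.und (e i)) hker⟩
  refine ⟨H, gH, j, hjm, hj, htor, fun k => ?_⟩
  obtain ⟨g, hg⟩ := exists_factor_of_etale (m k) j fun s => by
    obtain ⟨i, hi⟩ := hs s
    obtain ⟨g, hg, -⟩ := hloc i k
    exact ⟨_, v i, hv i, hi, g, hg⟩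
  have hmk := hm k
  have hgm : Mono g := mono_of_mono_fac hg
  have hmap : ∀ i, AlgGrp.IsKernel ((Over.pullback (v i)).map g)
      ((𝟙 (Red.bc (v i) H) : Red.bc (v i) H ⟶ Red.bc (v i) H) ^ (q ^ k)) := by
    intro i
    obtain ⟨g', hg', hker⟩ := hloc i k
    have e1 : (Over.pullback (v i)).map g = g' := by
      rw [← cancel_mono ((Over.pullback (v i)).map j), ← Functor.map_comp, hg, hg']
    rwa [e1]
  refine ⟨g, hg, ?_⟩
  rw [isKernel_pow_iff]
  constructor
  · refine hom_ext_of_etale _ _ fun s => ?_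
    obtain ⟨i, hi⟩ := hs s
    refine ⟨_, v i, hv i, hi, ?_⟩
    rw [bc_pow, (isKernel_pow_iff.1 (hmap i)).1]
    exact (Functor.map_one _).symm
  · intro X x hx
    obtain ⟨y, hy⟩ := exists_factor_of_etale x g fun s => by
      obtain ⟨i, hi⟩ := hs s
      have h4 := (isKernel_pow_iff.1 (hmap i)).2 _ ((Over.pullback (v i)).map x) (by
        rw [← bc_pow, hx]
        exact Functor.map_one _)
      obtain ⟨y, hy, -⟩ := h4
      exact ⟨_, v i, hv i, hi, y, hy⟩
    exact ⟨y, hy, fun z hz => by rw [← cancel_mono g, hy]; exact hz⟩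

/-- **Étale descent of subtori with given torsion**, pointwise form. -/
theorem exists_of_etale_local {S : Scheme.{u}} [IsLocallyNoetherian S] {G : Over S} [GrpObj G] {q : ℕ} (hq : 1 < q)
    {P : ℕ → Over S} {m : ∀ k, P k ⟶ G} (hm : ∀ k, Mono (m k))
    (h : ∀ s : S, ∃ (V : Scheme.{u}) (v : V ⟶ S), Etale v ∧ s ∈ Set.range v ∧
      ∃ (T : Over V) (_ : GrpObj T) (t : T ⟶ Red.bc v G), IsMonHom t ∧ Mono t ∧ Red.IsTorus T ∧
        ∀ k, ∃ g : Red.bc v (P k) ⟶ T, g ≫ t = (Over.pullback v).map (m k) ∧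
          AlgGrp.IsKernel g ((𝟙 T : T ⟶ T) ^ (q ^ k))) :
    ∃ (T : Over S) (_ : GrpObj T) (j : T ⟶ G), IsMonHom j ∧ Mono j ∧ Red.IsTorus T ∧
      ∀ k, ∃ g : P k ⟶ T, g ≫ j = m k ∧ AlgGrp.IsKernel g ((𝟙 T : T ⟶ T) ^ (q ^ k)) := by
  choose V v hv hs T gT t h1 h2 h3 h4 using h
  exact exists_of_family hq hm v hv (fun s => ⟨s, hs s⟩) T gT t fun s => ⟨h1 s, h2 s, h3 s, h4 s⟩

end K207.SubTor
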