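import Groth.Agent.SGA3x.K9.DenseTors
import Groth.Agent.SGA3x.K983.HomNormal
import Groth.Agent.Books.AntiAffine
import Groth.Agent.Sga3B.SplitBc264
import Groth.Agent.Sga3B.DSRigid
import Groth.Agent.Sga3B.Parab.EtHom

/-!
# Morphisms from a diagonalisable group to an arbitrary group scheme are determined on torsion

Versions of `K9.DenseTors` for a group scheme `G` which is not assumed to be separated.

* `eq_of_surj`: two maps `D(Q) ⟶ G` which agree on the subgroups `D(M_i)` of a jointly injective family and after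
  composition with something surjective are equal;
* `ext_of_family`: `G` a group scheme over an affine base;
* `exists_hom_of_torsion`: `j₁ : D(M) ⟶ G`, `j₂ : D(N) ⟶ G` homomorphisms, `j₂` mono; if `j₁` maps the
  `q^k`-torsion of `D(M)` into `D(N)` for all `k`, then `j₁` factors through `D(N)`.
-/

set_option autoImplicit false
universe u
open CategoryTheory MonoidalCategory CartesianMonoidalCategory MonObj GrpObj AlgebraicGeometry Limits

namespace K207.SubTorExt

open Groth.Agent.Sga3B Groth.Agent.Sga3B.DSPts Groth.Agent.Sga3B.InfConj Groth.Agent.Sga3B.TorTransp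
open Groth.Agent.Books.AffBridge Groth.Agent.Sga3B.AffPts Groth.Agent.Sga3B.DSAff
open K9.NilDS K9.DenseTors

variable {R : Type u} [CommRing R]

section ext_

variable {Q : Type} [AddCommGroup Q]

theorem eq_of_surj {G : Over (Spec (CommRingCat.of R))} {I : Type*} {M : I → Type}
    [∀ i, AddCommGroup (M i)] (l : ∀ i, Q →+ M i) (hl : ∀ F : Finset Q, ∃ i, Set.InjOn (l i) F)
    (a b : Red.DS (Spec (CommRingCat.of R)) Q ⟶ G)
    (h : ∀ i, Red.DSmap (Spec (CommRingCat.of R)) (l i) ≫ a = Red.DSmap (Spec (CommRingCat.of R)) (l i) ≫ b)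
    (hs : ∀ x : (Red.DS (Spec (CommRingCat.of R)) Q).left, ∃ (Z : Scheme.{u})
      (z : Z ⟶ (Red.DS (Spec (CommRingCat.of R)) Q).left), x ∈ Set.range z ∧ z ≫ a.left = z ≫ b.left) :
    a = b := by
  classical
  let A := MonoidAlgebra R (Multiplicative Q)
  let c : pt R A ⟶ Red.DS (Spec (CommRingCat.of R)) Q := charPt (C := R) (MonoidAlgebra.of R (Multiplicative Q))
  have hc : IsIso c := inferInstanceAs (IsIso (dsFrom R Q))
  have hcl : IsIso c.left := inferInstanceAs (IsIso ((Over.forget _).map c))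
  rw [← cancel_epi c]
  let E := equalizer (c ≫ a).left (c ≫ b).left
  let ε : E ⟶ (pt R A).left := equalizer.ι (c ≫ a).left (c ≫ b).left
  have hsurj : Set.range ε = Set.univ := by
    rw [Set.eq_univ_iff_forall]
    intro y
    obtain ⟨Z, z, ⟨z₀, hz₀⟩, hz⟩ := hs (c.left y)
    let t : Z ⟶ E := equalizer.lift (z ≫ inv c.left) (by
      rw [Over.comp_left, Over.comp_left, Category.assoc, IsIso.inv_hom_id_assoc, Category.assoc,
        IsIso.inv_hom_id_assoc, hz])
    have ht : t ≫ ε = z ≫ inv c.left := equalizer.lift_ι _ _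
    refine ⟨t z₀, ?_⟩
    rw [← Scheme.Hom.comp_apply, ht, Scheme.Hom.comp_apply, hz₀, ← Scheme.Hom.comp_apply, IsIso.hom_inv_id]
    rfl
  have himm : IsImmersion ε := inferInstance
  have hε : IsClosedImmersion ε := IsClosedImmersion.of_isPreimmersion ε (by rw [hsurj]; exact isClosed_univ)
  obtain ⟨J, e, he⟩ := IsClosedImmersion.Spec_iff.mp hε
  have hJ : ∀ f ∈ J, f = 0 := by
    intro f hf
    obtain ⟨i, hi⟩ := hl (f.coeff.support.map (Multiplicative.toAdd.toEmbedding))
    have h1 : ptMap (MonoidAlgebra.mapDomainAlgHom R R (AddMonoidHom.toMultiplicative (l i))) ≫ c ≫ a =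
      ptMap (MonoidAlgebra.mapDomainAlgHom R R (AddMonoidHom.toMultiplicative (l i))) ≫ c ≫ b := by
      rw [← Category.assoc, ← Category.assoc, ← univ_comp_DSmap, Category.assoc, Category.assoc, h i]
    let t : _ ⟶ E := equalizer.lift _ (congrArg (fun m => m.left) h1)
    have ht : t ≫ ε = (ptMap (MonoidAlgebra.mapDomainAlgHom R R (AddMonoidHom.toMultiplicative (l i)))).left :=
      equalizer.lift_ι _ _
    have h2 : MonoidAlgebra.mapDomainAlgHom R R (AddMonoidHom.toMultiplicative (l i)) f = 0 := by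
      have h3 : (t ≫ e.hom) ≫ Spec.map (CommRingCat.ofHom (Ideal.Quotient.mk J)) =
          Spec.map (CommRingCat.ofHom (MonoidAlgebra.mapDomainAlgHom R R (AddMonoidHom.toMultiplicative (l i))).toRingHom) := by
        rw [Category.assoc, ← he]
        exact ht
      rw [← Spec.map_preimage (t ≫ e.hom), ← Spec.map_comp] at h3
      have h4 := Spec.map_injective h3
      have h5 : (MonoidAlgebra.mapDomainAlgHom R R (AddMonoidHom.toMultiplicative (l i))).toRingHom f =
        (Spec.preimage (t ≫ e.hom)).hom (Ideal.Quotient.mk J f) := by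
        have := congrArg (fun m => m.hom f) h4
        exact this.symm
      rw [Ideal.Quotient.eq_zero_iff_mem.mpr hf, map_zero] at h5
      exact h5
    have h6 : Finsupp.mapDomain (AddMonoidHom.toMultiplicative (l i)) f.coeff = 0 := by
      have := congrArg MonoidAlgebra.coeff h2
      simpa using this
    have h7 : f.coeff = 0 := by
      have hinj : Set.InjOn (AddMonoidHom.toMultiplicative (l i)) (f.coeff.support : Set (Multiplicative Q)) := by
        intro x hx y hy hxy
        have := hi (x₁ := Multiplicative.toAdd x) (x₂ := Multiplicative.toAdd y)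
          (Finset.mem_coe.mpr (Finset.mem_map_of_mem _ hx)) (Finset.mem_coe.mpr (Finset.mem_map_of_mem _ hy)) hxy
        exact this
      refine Finsupp.mapDomain_injOn _ hinj (x₁ := f.coeff) (x₂ := 0) (by simp) (by simp) ?_
      rw [h6, Finsupp.mapDomain_zero]
    exact MonoidAlgebra.coeff_injective h7
  have hJ0 : J = ⊥ := (Submodule.eq_bot_iff J).mpr hJ
  have hiso : IsIso ε := by
    rw [he]
    have : IsIso (Spec.map (CommRingCat.ofHom (Ideal.Quotient.mk J))) := by
      have h8 : Function.Bijective (Ideal.Quotient.mk J) :=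
        ⟨by rw [RingHom.injective_iff_ker_eq_bot, Ideal.mk_ker, hJ0], Ideal.Quotient.mk_surjective⟩
      have h9 : IsIso (CommRingCat.ofHom (Ideal.Quotient.mk J)) :=
        (RingEquiv.ofBijective _ h8).toCommRingCatIso.isIso_hom
      infer_instance
    infer_instance
  ext1
  rw [← cancel_epi ε]
  exact equalizer.condition _ _

private lemma aux {C : Type*} [Category C] {A A' B B' G : C} (δ : A ≅ A') (δ' : B ≅ B') (f : B ⟶ A) (f' : B' ⟶ A')
    (h : f ≫ δ.hom = δ'.hom ≫ f') (a b : A ⟶ G) (hab : f ≫ a = f ≫ b) : f' ≫ δ.inv ≫ a = f' ≫ δ.inv ≫ b := by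
  have h1 : f' ≫ δ.inv = δ'.inv ≫ f := by
    rw [Iso.comp_inv_eq, Category.assoc, h, Iso.inv_hom_id_assoc]
  rw [← Category.assoc, ← Category.assoc, h1, Category.assoc, Category.assoc, hab]

private lemma nat_aux {B B' : Scheme.{u}} (v : B' ⟶ B) {M N : Type} [AddCommGroup M] [AddCommGroup N] (φ : M →+ N)
    (e : Grp.mk (Red.bc v (Red.DS B M)) ≅ Grp.mk (Red.DS B' M)) (e' : Grp.mk (Red.bc v (Red.DS B N)) ≅ Grp.mk (Red.DS B' N))
    (h : (Over.pullback v).map (Red.DSmap B φ) ≫ e.hom.hom.hom = e'.hom.hom.hom ≫ Red.DSmap B' φ)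
    {G : Over B} (a b : Red.DS B M ⟶ G) (hab : Red.DSmap B φ ≫ a = Red.DSmap B φ ≫ b) :
    Red.DSmap B' φ ≫ (RedIso.und e).inv ≫ (Over.pullback v).map a =
      Red.DSmap B' φ ≫ (RedIso.und e).inv ≫ (Over.pullback v).map b :=
  aux (RedIso.und e) (RedIso.und e') ((Over.pullback v).map (Red.DSmap B φ)) _ h _ _
    (by rw [← Functor.map_comp, ← Functor.map_comp, hab])

private lemma nat_aux' {B B' : Scheme.{u}} (v : B' ⟶ B) {M N : Type} [AddCommGroup M] [AddCommGroup N] (φ : M →+ N)
    {G : Over B} (a b : Red.DS B M ⟶ G) (hab : Red.DSmap B φ ≫ a = Red.DSmap B φ ≫ b) :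
    Red.DSmap B' φ ≫ (RedIso.und (TorusAlgClosed.dsBcIso v M)).inv ≫ (Over.pullback v).map a =
      Red.DSmap B' φ ≫ (RedIso.und (TorusAlgClosed.dsBcIso v M)).inv ≫ (Over.pullback v).map b :=
  nat_aux v φ (TorusAlgClosed.dsBcIso v M) (TorusAlgClosed.dsBcIso v N) (SplitBc264.DSmap_bc v φ) a b hab

private lemma fld_aux {I : Type*} {M : I → Type} [∀ i, AddCommGroup (M i)] (l : ∀ i, Q →+ M i)
    (hl : ∀ F : Finset Q, ∃ i, Set.InjOn (l i) F) {X G : Over (Spec (CommRingCat.of R))} (hG : IsSeparated G.hom)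
    (δ : Red.DS (Spec (CommRingCat.of R)) Q ⟶ X) [IsIso δ] (a b : X ⟶ G)
    (h : ∀ i, Red.DSmap (Spec (CommRingCat.of R)) (l i) ≫ δ ≫ a = Red.DSmap (Spec (CommRingCat.of R)) (l i) ≫ δ ≫ b) :
    a = b :=
  (cancel_epi δ).1 (K9.DenseTors.ext_of_family l hl _ _ h)

/-- The base changes to fields agree. -/
theorem bc_eq {G : Over (Spec (CommRingCat.of R))} [GrpObj G] {I : Type*} {M : I → Type}
    [∀ i, AddCommGroup (M i)] (l : ∀ i, Q →+ M i) (hl : ∀ F : Finset Q, ∃ i, Set.InjOn (l i) F)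
    (a b : Red.DS (Spec (CommRingCat.of R)) Q ⟶ G)
    (h : ∀ i, Red.DSmap (Spec (CommRingCat.of R)) (l i) ≫ a = Red.DSmap (Spec (CommRingCat.of R)) (l i) ≫ b)
    (K : Type u) [Field K] (v : Spec (CommRingCat.of K) ⟶ Spec (CommRingCat.of R)) :
    (Over.pullback v).map a = (Over.pullback v).map b := by
  have h0 : ∀ i, Red.DSmap (Spec (CommRingCat.of K)) (l i) ≫ (RedIso.und (TorusAlgClosed.dsBcIso v Q)).inv ≫
        (Over.pullback v).map a =
      Red.DSmap (Spec (CommRingCat.of K)) (l i) ≫ (RedIso.und (TorusAlgClosed.dsBcIso v Q)).inv ≫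
        (Over.pullback v).map b := fun i => nat_aux' v (l i) a b (h i)
  have hs : IsSeparated ((Over.pullback v).obj G).hom :=
    Groth.Agent.Books.AntiAffine.isSeparated_hom (K := K) ((Over.pullback v).obj G)
  have h1 : IsIso (RedIso.und (TorusAlgClosed.dsBcIso v Q)).inv := Iso.isIso_inv _
  clear h
  revert h0 h1
  generalize (RedIso.und (TorusAlgClosed.dsBcIso v Q)).inv = δ
  intro h0 h1
  exact fld_aux l hl hs δ _ _ h0

/-- The case of a group scheme over an affine base. -/
theorem ext_of_family {G : Over (Spec (CommRingCat.of R))} [GrpObj G] {I : Type*} {M : I → Type}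
    [∀ i, AddCommGroup (M i)] (l : ∀ i, Q →+ M i) (hl : ∀ F : Finset Q, ∃ i, Set.InjOn (l i) F)
    (a b : Red.DS (Spec (CommRingCat.of R)) Q ⟶ G)
    (h : ∀ i, Red.DSmap (Spec (CommRingCat.of R)) (l i) ≫ a = Red.DSmap (Spec (CommRingCat.of R)) (l i) ≫ b) :
    a = b := by
  refine eq_of_surj l hl a b h fun x => ?_
  obtain ⟨K, _, v, hv⟩ : ∃ (K : Type u) (_ : Field K) (v : Spec (CommRingCat.of K) ⟶ Spec (CommRingCat.of R)),
      (Red.DS (Spec (CommRingCat.of R)) Q).hom x ∈ Set.range v :=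
    ⟨(Spec (CommRingCat.of R)).residueField ((Red.DS (Spec (CommRingCat.of R)) Q).hom x), inferInstance,
      (Spec (CommRingCat.of R)).fromSpecResidueField _, by
      rw [Scheme.range_fromSpecResidueField]
      exact Set.mem_singleton _⟩
  refine ⟨_, pullback.fst (Red.DS (Spec (CommRingCat.of R)) Q).hom v, ?_, ?_⟩
  · obtain ⟨y, hy⟩ := hv
    obtain ⟨z, hz, -⟩ := Scheme.Pullback.exists_preimage_pullback x y hy.symm
    exact ⟨z, hz⟩
  · have h1 : ∀ c : Red.DS (Spec (CommRingCat.of R)) Q ⟶ G,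
        pullback.fst (Red.DS (Spec (CommRingCat.of R)) Q).hom v ≫ c.left =
        ((Over.pullback v).map c).left ≫ pullback.fst G.hom v := fun c =>
      (Parab.EtHom.isPullback_map v c).w
    rw [h1, h1, bc_eq l hl a b h K v]

end ext_

section hom

variable {M N : Type} [AddCommGroup M] [AddCommGroup N]

/-- `q`-adic separatedness of `ℤ^r`. -/
lemma exists_ne_zero {q : ℕ} (hq : 1 < q) {r : ℕ} {m : Fin r → ℤ} (hm : m ≠ 0) :
    ∃ k : ℕ, prj (Fin r → ℤ) (q ^ k) m ≠ 0 := by
  obtain ⟨i, hi⟩ := Function.ne_iff.mp hm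
  obtain ⟨k, hk⟩ : ∃ k, (m i).natAbs < q ^ k := ⟨_, Nat.lt_pow_self hq⟩
  refine ⟨k, fun h0 => ?_⟩
  rw [QuotientAddGroup.mk'_apply, QuotientAddGroup.eq_zero_iff, mem_mulRange] at h0
  obtain ⟨x, hx⟩ := h0
  have h1 : (q : ℤ) ^ k * x i = m i := by
    rw [← hx]
    simp
  have h2 : ((q ^ k : ℕ) : ℤ) ∣ m i := ⟨x i, by rw [← h1]; push_cast; ring⟩
  refine hi (Int.eq_zero_of_abs_lt_dvd h2 ?_)
  rw [Int.abs_eq_natAbs]
  exact_mod_cast hk

variable [Nontrivial R] {G : Over (Spec (CommRingCat.of R))} [GrpObj G]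

/-- **Inclusions between diagonalisable subgroups are detected on the `q^k`-torsion.** -/
theorem exists_hom_of_torsion {q : ℕ} (hM : ∀ m : M, m ≠ 0 → ∃ k : ℕ, prj M (q ^ k) m ≠ 0)
    (j₁ : Red.DS (Spec (CommRingCat.of R)) M ⟶ G) (j₂ : Red.DS (Spec (CommRingCat.of R)) N ⟶ G) [Mono j₂]
    (h : ∀ k : ℕ, ∃ χ : N →+ Mod M (q ^ k), Red.DSmap _ (prj M (q ^ k)) ≫ j₁ = Red.DSmap _ χ ≫ j₂) :
    ∃ χ : N →+ M, j₁ = Red.DSmap _ χ ≫ j₂ := by
  classical
  choose χ hχ using h
  -- compatibility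
  have hcomp : ∀ (k n : ℕ) (hd : k ≤ n), (trans M (pow_dvd_pow q hd)).comp (χ n) = χ k := by
    intro k n hd
    apply K7.DSProp.DSmap_injective (R := R)
    rw [← cancel_mono j₂, ← hχ k, ← K7.DSProp.DSmap_comp, Category.assoc, ← hχ n, ← Category.assoc,
      K7.DSProp.DSmap_comp, trans_comp_prj]
  let lam : ∀ i : ℕ, M × N →+ Mod M (q ^ i) := fun i => AddMonoidHom.coprod (prj M (q ^ i)) (χ i)
  let L : AddSubgroup (M × N) := ⨅ i : ℕ, (lam i).ker
  let Q := (M × N) ⧸ L
  let lq : ∀ i : ℕ, Q →+ Mod M (q ^ i) := fun i => QuotientAddGroup.lift L (lam i) (fun x hx =>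
    (AddSubgroup.mem_iInf.mp hx i))
  have hlq : ∀ (i : ℕ) (m : M) (x : N), lq i (QuotientAddGroup.mk' L (m, x)) = prj M (q ^ i) m + χ i x :=
    fun i m x => rfl
  let al : M →+ Q := (QuotientAddGroup.mk' L).comp (AddMonoidHom.inl M N)
  let be : N →+ Q := (QuotientAddGroup.mk' L).comp (AddMonoidHom.inr M N)
  have hal : ∀ i, (lq i).comp al = prj M (q ^ i) := by
    intro i
    refine AddMonoidHom.ext fun m => ?_
    exact (hlq i m 0).trans (by rw [map_zero, add_zero])
  have hbe : ∀ i, (lq i).comp be = χ i := by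
    intro i
    refine AddMonoidHom.ext fun x => ?_
    exact (hlq i 0 x).trans (by rw [map_zero, zero_add])
  have htr : ∀ (i j : ℕ) (hd : i ≤ j) (q' : Q), trans M (pow_dvd_pow q hd) (lq j q') = lq i q' := by
    intro i j hd q'
    obtain ⟨⟨m, x⟩, rfl⟩ := QuotientAddGroup.mk'_surjective L q'
    rw [hlq, hlq, map_add]
    congr 1
    exact DFunLike.congr_fun (hcomp i j hd) x
  have hinj : ∀ q' : Q, q' ≠ 0 → ∃ i : ℕ, lq i q' ≠ 0 := by
    intro q' hq
    by_contra hcon
    push Not at hcon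
    apply hq
    obtain ⟨y, rfl⟩ := QuotientAddGroup.mk'_surjective L q'
    rw [QuotientAddGroup.mk'_apply, QuotientAddGroup.eq_zero_iff]
    exact AddSubgroup.mem_iInf.mpr fun i => hcon i
  have hdir : ∀ F : Finset Q, ∃ i, Set.InjOn (lq i) F := by
    intro F
    -- an index for the finite set of nonzero differences
    have h1 : ∀ D : Finset Q, (∀ d ∈ D, d ≠ 0) → ∃ i : ℕ, ∀ d ∈ D, lq i d ≠ 0 := by
      intro D
      induction D using Finset.induction_on with
      | empty => exact fun _ => ⟨0, by simp⟩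
      | insert d D hd ih =>
        intro hD
        obtain ⟨i, hi⟩ := ih fun e he => hD e (Finset.mem_insert_of_mem he)
        obtain ⟨j, hj⟩ := hinj d (hD d (Finset.mem_insert_self _ _))
        refine ⟨max i j, fun e he => ?_⟩
        rcases Finset.mem_insert.mp he with rfl | he
        · intro h0
          apply hj
          rw [← htr j (max i j) (le_max_right _ _), h0, map_zero]
        · intro h0
          apply hi e he
          rw [← htr i (max i j) (le_max_left _ _), h0, map_zero]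
    obtain ⟨i, hi⟩ := h1 (((F ×ˢ F).image fun p => p.1 - p.2).filter (· ≠ 0)) (by simp)
    refine ⟨i, fun x hx y hy hxy => ?_⟩
    by_contra hne
    refine hi (x - y) ?_ (by rw [map_sub, hxy, sub_self])
    rw [Finset.mem_filter, Finset.mem_image]
    exact ⟨⟨(x, y), Finset.mem_product.mpr ⟨hx, hy⟩, rfl⟩, sub_ne_zero.mpr hne⟩
  have key : Red.DSmap (Spec (CommRingCat.of R)) al ≫ j₁ = Red.DSmap (Spec (CommRingCat.of R)) be ≫ j₂ := by
    refine ext_of_family lq hdir _ _ fun i => ?_
    rw [← Category.assoc, ← Category.assoc, K7.DSProp.DSmap_comp, K7.DSProp.DSmap_comp, hal, hbe, hχ]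
  -- `al` is bijective
  have hals : Function.Surjective al := by
    apply K7.DSProp.surjective_of_mono (R := R)
    have hm : Mono (Red.DSmap (Spec (CommRingCat.of R)) al) := by
      refine mono_of_joint al be ?_ j₁ j₂ key
      intro q'
      obtain ⟨⟨m, x⟩, hq⟩ := QuotientAddGroup.mk'_surjective L q'
      refine ⟨m, x, ?_⟩
      rw [← hq]
      change _ = (QuotientAddGroup.mk' L) (m, 0) + (QuotientAddGroup.mk' L) (0, x)
      rw [← map_add]
      simp
    infer_instance
  have hali : Function.Injective al := by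
    rw [injective_iff_map_eq_zero]
    intro m hm
    by_contra hne
    obtain ⟨k, hk'⟩ := hM m hne
    apply hk'
    rw [← hal k, AddMonoidHom.comp_apply, hm, map_zero]
  let e : M ≃+ Q := AddEquiv.ofBijective al ⟨hali, hals⟩
  refine ⟨e.symm.toAddMonoidHom.comp be, ?_⟩
  have h6 : (e.symm.toAddMonoidHom).comp al = AddMonoidHom.id M := by
    refine AddMonoidHom.ext fun m => ?_
    exact e.symm_apply_apply m
  rw [← K7.DSProp.DSmap_comp, Category.assoc, ← key, ← Category.assoc, K7.DSProp.DSmap_comp, h6, K7.DSProp.DSmap_id,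
    Category.id_comp]

end hom

end K207.SubTorExt
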