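import Groth.Agent.SGA3.K207.SubTorExt
import Groth.Agent.SGA3x.K10.MTLoc
import Groth.Agent.SGA3x.K388.SubDescGrp
import Groth.Agent.Sga3B.PinTransport
import Groth.Agent.Sga7.H760.KerBc

/-!
# Two subtori with the same torsion, split case over a connected affine base

* `exists_DSmap`: homomorphisms of diagonalisable groups over a connected base;
* `exists_hom`: two split subtori of `G` with the same `q^k`-torsion for all `k` coincide.
-/

set_option autoImplicit false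
universe u
open CategoryTheory MonoidalCategory CartesianMonoidalCategory MonObj GrpObj AlgebraicGeometry Limits

namespace K207.SubTorLoc

open Groth.Agent.Sga3B Groth.Agent.Sga3B.DSPts Groth.Agent.Sga3B.PinTransport K9.DenseTors

variable {M N : Type} [AddCommGroup M] [AddCommGroup N]

private lemma conj_aux {B B' : Scheme.{u}} (v : B' ⟶ B) (φ : M →+ N)
    (e : Grp.mk (Red.bc v (Red.DS B M)) ≅ Grp.mk (Red.DS B' M)) (e' : Grp.mk (Red.bc v (Red.DS B N)) ≅ Grp.mk (Red.DS B' N))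
    (h : (Over.pullback v).map (Red.DSmap B φ) ≫ e.hom.hom.hom = e'.hom.hom.hom ≫ Red.DSmap B' φ)
    (f : Red.DS B N ⟶ Red.DS B M)
    (hf : (RedIso.und e').inv ≫ (Over.pullback v).map f ≫ (RedIso.und e).hom = Red.DSmap B' φ) :
    (Over.pullback v).map f = (Over.pullback v).map (Red.DSmap B φ) := by
  have h1 : (Over.pullback v).map (Red.DSmap B φ) ≫ (RedIso.und e).hom = (RedIso.und e').hom ≫ Red.DSmap B' φ := h
  rw [← hf, Iso.hom_inv_id_assoc] at h1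
  exact ((cancel_mono _).1 h1).symm

private lemma fld_aux (K : Type u) [Field K] {B : Scheme.{u}} (v : Spec (CommRingCat.of K) ⟶ B)
    (e : Grp.mk (Red.bc v (Red.DS B M)) ≅ Grp.mk (Red.DS (Spec (CommRingCat.of K)) M))
    (e' : Grp.mk (Red.bc v (Red.DS B N)) ≅ Grp.mk (Red.DS (Spec (CommRingCat.of K)) N))
    (h : ∀ φ : M →+ N, (Over.pullback v).map (Red.DSmap B φ) ≫ e.hom.hom.hom =
      e'.hom.hom.hom ≫ Red.DSmap (Spec (CommRingCat.of K)) φ)
    (f : Red.DS B N ⟶ Red.DS B M) [IsMonHom f] :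
    ∃ φ : M →+ N, (Over.pullback v).map f = (Over.pullback v).map (Red.DSmap B φ) := by
  obtain ⟨φ, hφ⟩ := DSRigid.exists_eq_DSmap (R := K)
    ((RedIso.und e').inv ≫ (Over.pullback v).map f ≫ (RedIso.und e).hom)
  exact ⟨φ, conj_aux v φ e e' (h φ) f hφ⟩

/-- A homomorphism between diagonalisable groups over a connected base is given by a homomorphism of the groups of
characters. -/
theorem exists_DSmap {S : Scheme.{u}} [ConnectedSpace S] (hM : AddGroup.FG M) (hN : AddGroup.FG N)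
    (f : Red.DS S N ⟶ Red.DS S M) [IsMonHom f] : ∃ φ : M →+ N, f = Red.DSmap S φ := by
  obtain ⟨s⟩ : Nonempty S := inferInstance
  obtain ⟨K, _, ⟨v⟩⟩ : ∃ (K : Type u) (_ : Field K), Nonempty (Spec (CommRingCat.of K) ⟶ S) :=
    ⟨S.residueField s, inferInstance, ⟨S.fromSpecResidueField s⟩⟩
  obtain ⟨φ, hφ⟩ := fld_aux K v (TorusAlgClosed.dsBcIso v M) (TorusAlgClosed.dsBcIso v N)
    (fun φ => SplitBc264.DSmap_bc v φ) f
  exact ⟨φ, K983.HomNormal.hom_ext v (_root_.K10.MTLoc.of_split hN ⟨Iso.refl _⟩)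
    (_root_.K10.MTLoc.of_split hM ⟨Iso.refl _⟩) f _ hφ⟩

/-- Points of `D(M)` are killed by `n` if `M` is. -/
lemma pow_eq_one {S : Scheme.{u}} {n : ℕ} (hn : ∀ m : M, n • m = 0) {T : Over S} (x : T ⟶ Red.DS S M) :
    x ^ n = 1 := by
  obtain ⟨χ, rfl⟩ := (dsEquiv T M).surjective x
  have h1 : χ ^ n = 1 := by
    refine MonoidHom.ext fun m => ?_
    rw [MonoidHom.pow_apply, ← map_pow]
    have h2 : m ^ n = 1 := hn (Multiplicative.toAdd m)
    rw [h2, map_one]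
    rfl
  rw [← map_pow, h1, map_one]

lemma comp_pow_eq_one {S : Scheme.{u}} {X Y : Over S} [GrpObj X] [GrpObj Y] {n : ℕ}
    (hn : ∀ {T : Over S} (x : T ⟶ X), x ^ n = 1) (f : X ⟶ Y) [IsMonHom f] : f ≫ ((𝟙 Y : Y ⟶ Y) ^ n) = 1 := by
  have h2 : (𝟙 X : X ⟶ X) ^ n = 1 := hn _
  have h3 : ((𝟙 X : X ⟶ X) ^ n) ≫ f = 1 := by rw [h2, MonObj.one_comp]
  rw [MonObj.comp_pow, Category.comp_id]
  rwa [MonObj.pow_comp, Category.id_comp] at h3

variable {R : Type u} [CommRing R] [Nontrivial R] [ConnectedSpace ↥(Spec (CommRingCat.of R))]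
  {G : Over (Spec (CommRingCat.of R))} [GrpObj G]

/-- **Split subtori with the same torsion.** -/
theorem exists_hom {q : ℕ} (hq : 1 < q) {r : ℕ} (hN : AddGroup.FG N)
    (j₁ : Red.DS (Spec (CommRingCat.of R)) (Fin r → ℤ) ⟶ G) [IsMonHom j₁]
    (j₂ : Red.DS (Spec (CommRingCat.of R)) N ⟶ G) [IsMonHom j₂] [Mono j₂]
    (P : ℕ → Over (Spec (CommRingCat.of R))) (m : ∀ k, P k ⟶ G)
    (h₁ : ∀ k, ∃ g : P k ⟶ Red.DS (Spec (CommRingCat.of R)) (Fin r → ℤ), g ≫ j₁ = m k ∧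
      AlgGrp.IsKernel g ((𝟙 (Red.DS (Spec (CommRingCat.of R)) (Fin r → ℤ)) : _ ⟶ _) ^ (q ^ k)))
    (h₂ : ∀ k, ∃ g : P k ⟶ Red.DS (Spec (CommRingCat.of R)) N, g ≫ j₂ = m k) :
    ∃ χ : N →+ (Fin r → ℤ), j₁ = Red.DSmap (Spec (CommRingCat.of R)) χ ≫ j₂ := by
  refine SubTorExt.exists_hom_of_torsion (fun m hm => SubTorExt.exists_ne_zero hq hm) j₁ j₂ fun k => ?_
  obtain ⟨g₁, hg₁, hker⟩ := h₁ k
  obtain ⟨g₂, hg₂⟩ := h₂ k
  have h0 : ∀ m : Mod (Fin r → ℤ) (q ^ k), q ^ k • m = 0 := by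
    intro m
    obtain ⟨m, rfl⟩ := QuotientAddGroup.mk'_surjective _ m
    rw [← map_nsmul, QuotientAddGroup.mk'_apply, QuotientAddGroup.eq_zero_iff, mem_mulRange]
    exact ⟨m, rfl⟩
  have hp : IsMonHom (Red.DSmap (Spec (CommRingCat.of R)) (prj (Fin r → ℤ) (q ^ k))) := isMonHom_DSmap _
  have h1 : Red.DSmap (Spec (CommRingCat.of R)) (prj (Fin r → ℤ) (q ^ k)) ≫
      ((𝟙 (Red.DS (Spec (CommRingCat.of R)) (Fin r → ℤ)) : _ ⟶ _) ^ (q ^ k)) = 1 :=
    comp_pow_eq_one (pow_eq_one (S := Spec (CommRingCat.of R)) h0) _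
  obtain ⟨u, hu, -⟩ := ((Groth.Agent.Sga7.H760.KerBc.isKernel_iff _ _).1 hker).2 _ _ h1
  have h4 : (u ≫ g₂) ≫ j₂ = Red.DSmap (Spec (CommRingCat.of R)) (prj (Fin r → ℤ) (q ^ k)) ≫ j₁ := by
    rw [Category.assoc, hg₂, ← hg₁, ← Category.assoc, hu]
  have h5 : IsMonHom (u ≫ g₂) := K388.SubDescGrp.isMonHom_of_comp _ j₂ (by rw [h4]; infer_instance)
  have hF : AddGroup.FG (Fin r → ℤ) := Module.Finite.iff_addGroup_fg.mp inferInstance
  have hF' : AddGroup.FG (Mod (Fin r → ℤ) (q ^ k)) := inferInstance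
  obtain ⟨χ, hχ⟩ := exists_DSmap hN hF' (u ≫ g₂)
  exact ⟨χ, by rw [← hχ, h4]⟩

end K207.SubTorLoc
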