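import Groth.Prelude.Def_EGA43
import Groth.Agent.Ega43.Unibranch
import Groth.Agent.Ega43.NormalOpen

/-!
# Integral extensions are open over unibranch points

`A → B` integral with `B` a domain and nilpotent kernel, `q` a prime of `B` such that the local ring
of `A` at `q ∩ A` is unibranch.  Then `Spec B → Spec A` is open at `q`.
-/

set_option autoImplicit false

universe u v

open CAlg2

namespace K207.UnibranchOpen

open Groth.Agent.Ega43.Unibranch Groth.Agent.Ega43.NormalOpen

theorem isOpenAt_of_square {X X' Y Y' : Type*} [TopologicalSpace X] [TopologicalSpace X']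
    [TopologicalSpace Y] [TopologicalSpace Y'] {π : X → Y} {β : X' → X} {π' : X' → Y'} {α : Y' → Y}
    (hβ : Continuous β) (hπ' : IsOpenMap π') (hα : IsClosedMap α) (hαs : Function.Surjective α)
    (hc : ∀ x', π (β x') = α (π' x')) {x' : X'} (huniq : ∀ y', α y' = α (π' x') → y' = π' x') :
    EGA43.IsOpenAt π (β x') := by
  intro U hU
  have h1 : β ⁻¹' U ∈ nhds x' := hβ.continuousAt hU
  have h2 : π' '' (β ⁻¹' U) ∈ nhds (π' x') := hπ'.image_mem_nhds h1
  have h3 : IsClosed (α '' (interior (π' '' (β ⁻¹' U)))ᶜ) := hα _ isOpen_interior.isClosed_compl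
  have h4 : π (β x') ∉ α '' (interior (π' '' (β ⁻¹' U)))ᶜ := by
    rintro ⟨y', hy', hy⟩
    rw [hc] at hy
    rw [huniq y' hy] at hy'
    exact hy' (mem_interior_iff_mem_nhds.2 h2)
  refine Filter.mem_of_superset (h3.isOpen_compl.mem_nhds h4) ?_
  intro y hy
  obtain ⟨y', rfl⟩ := hαs y
  have h5 : y' ∈ interior (π' '' (β ⁻¹' U)) := by
    by_contra h
    exact hy ⟨y', h, rfl⟩
  obtain ⟨x'', hx'', rfl⟩ := interior_subset h5
  exact ⟨β x'', hx'', hc x''⟩

section

variable {A : Type u} [CommRing A] (p : Ideal A) [p.IsPrime]
  (O : Type u) [CommRing O] [IsLocalRing O] [Algebra A O] [IsLocalization.AtPrime O p]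

/-- There is only one prime of the normalization over `p` if `A_p` is unibranch. -/
theorem eq_comap_of_comap_eq (hO : IsUnibranch O)
    (P : Ideal (integralClosure A (FractionRing (red O)))) [P.IsPrime]
    (hP : P.comap (algebraMap A _) = p) :
    letI := hO.2
    P = (IsLocalRing.maximalIdeal (normRed O)).comap (incl O).toRingHom := by
  let := hO.2
  let : Algebra (integralClosure A (FractionRing (red O))) (normRed O) :=
    (incl O).toRingHom.toAlgebra
  have : IsLocalization (Algebra.algebraMapSubmonoid
      (integralClosure A (FractionRing (red O))) p.primeCompl) (normRed O) := isLocalization_incl p O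
  have hdisj : Disjoint ((Algebra.algebraMapSubmonoid
      (integralClosure A (FractionRing (red O))) p.primeCompl : Submonoid _) :
        Set (integralClosure A (FractionRing (red O)))) (P : Set _) := by
    rw [Set.disjoint_left]
    rintro _ ⟨s, hs, rfl⟩ hsP
    exact hs (by rw [← hP]; exact hsP)
  have hprime := IsLocalization.isPrime_of_isPrime_disjoint
    (Algebra.algebraMapSubmonoid (integralClosure A (FractionRing (red O))) p.primeCompl)
    (normRed O) P inferInstance hdisj
  have hcomap := IsLocalization.comap_map_of_isPrime_disjoint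
    (Algebra.algebraMapSubmonoid (integralClosure A (FractionRing (red O))) p.primeCompl)
    (normRed O) (I := P) inferInstance hdisj
  set Q : Ideal (normRed O) := P.map (algebraMap _ (normRed O)) with hQ
  have hint : Algebra.IsIntegral O (normRed O) := by
    have : Algebra.IsIntegral O (red O) :=
      Algebra.IsIntegral.of_surjective (IsScalarTower.toAlgHom O O (red O))
        Ideal.Quotient.mk_surjective
    have : Algebra.IsIntegral (red O) (normRed O) := inferInstance
    exact Algebra.IsIntegral.trans (red O)
  have hQmax : Q.IsMaximal := by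
    refine Ideal.isMaximal_of_isIntegral_of_isMaximal_comap (R := O) Q ?_
    have h1 : Q.comap (algebraMap O (normRed O)) = IsLocalRing.maximalIdeal O := by
      refine le_antisymm (IsLocalRing.le_maximalIdeal (Ideal.IsPrime.ne_top inferInstance)) ?_
      rw [← IsLocalization.AtPrime.map_eq_maximalIdeal p O, Ideal.map_le_iff_le_comap]
      intro a ha
      rw [Ideal.mem_comap, Ideal.mem_comap]
      have h2 : algebraMap O (normRed O) (algebraMap A O a) =
          algebraMap (integralClosure A (FractionRing (red O))) (normRed O) (algebraMap A _ a) :=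
        ((incl O).commutes a).symm
      rw [h2]
      refine Ideal.mem_map_of_mem _ ?_
      rw [← hP] at ha
      exact ha
    rw [h1]
    infer_instance
  rw [← IsLocalRing.eq_maximalIdeal hQmax]
  exact hcomap.symm

end

/-- An integral morphism with nilpotent kernel onto a domain is open over unibranch points. -/
theorem isOpenAt_of_isIntegral {A B : Type u} [CommRing A] [CommRing B] [IsDomain B] [Algebra A B]
    [Algebra.IsIntegral A B] (hker : RingHom.ker (algebraMap A B) ≤ nilradical A)
    (q : PrimeSpectrum B) (O : Type u) [CommRing O] [IsLocalRing O] [Algebra A O]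
    [IsLocalization.AtPrime O (q.asIdeal.comap (algebraMap A B))] (hO : IsUnibranch O) :
    EGA43.IsOpenAt (PrimeSpectrum.comap (algebraMap A B)) q := by
  have hkerEq : RingHom.ker (algebraMap A B) = nilradical A := by
    refine le_antisymm hker ?_
    intro a ha
    rw [mem_nilradical] at ha
    rw [RingHom.mem_ker]
    exact (ha.map (algebraMap A B)).eq_zero
  have hredO : IsDomain (red O) := hO.1
  have hredA : IsDomain (red A) := by
    have : (nilradical A).IsPrime := by
      rw [← hkerEq]
      exact RingHom.ker_isPrime _
    exact (Ideal.Quotient.isDomain_iff_prime _).mpr this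
  let p : Ideal A := q.asIdeal.comap (algebraMap A B)
  let K := FractionRing (red O)
  let L := FractionRing B
  obtain ⟨e⟩ := nonempty_fracEquiv p O
  have hinjBL : Function.Injective (algebraMap B L) := IsFractionRing.injective B L
  -- the embedding of `K` into `L`
  let j : red A →ₐ[A] L := Ideal.Quotient.liftₐ (nilradical A) (Algebra.ofId A L) (by
    intro a ha
    rw [← hkerEq, RingHom.mem_ker] at ha
    rw [Algebra.ofId_apply, IsScalarTower.algebraMap_apply A B L, ha, map_zero])
  have hj : Function.Injective j.toRingHom := by
    rw [injective_iff_map_eq_zero]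
    intro a ha
    obtain ⟨a, rfl⟩ := Ideal.Quotient.mk_surjective a
    have h1 : algebraMap A L a = 0 := ha
    rw [IsScalarTower.algebraMap_apply A B L] at h1
    have h2 : algebraMap A B a = 0 := hinjBL (by rw [h1, map_zero])
    rw [Ideal.Quotient.eq_zero_iff_mem, ← hkerEq]
    exact h2
  let J : FractionRing (red A) →ₐ[A] L :=
    { (IsFractionRing.lift hj : FractionRing (red A) →+* L) with
      commutes' := by
        intro a
        change IsFractionRing.lift hj (algebraMap A (FractionRing (red A)) a) = _
        rw [IsScalarTower.algebraMap_apply A (red A) (FractionRing (red A)),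
          IsFractionRing.lift_algebraMap]
        exact j.commutes a }
  let φ : K →ₐ[A] L := J.comp e.symm.toAlgHom
  -- the normalizations
  let A' := integralClosure A K
  let B' := integralClosure A L
  let ψ : A' →ₐ[A] B' := φ.mapIntegralClosure
  let : Algebra A' B' := ψ.toRingHom.toAlgebra
  have : IsScalarTower A A' B' := IsScalarTower.of_algebraMap_eq fun a => (ψ.commutes a).symm
  have hψ : Function.Injective ψ := by
    intro x y hxy
    have h1 : φ (x : K) = φ (y : K) := congrArg Subtype.val hxy
    exact Subtype.ext (φ.toRingHom.injective h1)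
  have : FaithfulSMul A' B' := (faithfulSMul_iff_algebraMap_injective _ _).2 hψ
  have : Algebra.IsIntegral A B' := inferInstance
  have : Algebra.IsIntegral A' B' := Algebra.IsIntegral.tower_top A
  have : IsFractionRing A' K := by
    refine IsFractionRing.of_field _ _ fun z => ?_
    obtain ⟨a, b, h⟩ := exists_div_eq p O z
    exact ⟨algebraMap A A' a, algebraMap A A' b, h⟩
  have : IsIntegrallyClosed A' := by
    rw [isIntegrallyClosed_iff_isIntegrallyClosedIn K]
    exact inferInstanceAs (IsIntegrallyClosedIn (integralClosure A K) K)
  have hopen : IsOpenMap (PrimeSpectrum.comap (algebraMap A' B')) := isOpenMap_comap_of_isIntegral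
  have hkerA : RingHom.ker (algebraMap A A') ≤ nilradical A := by
    intro a ha
    have h1 : algebraMap A K a = 0 := congrArg Subtype.val ha
    exact mem_nilradical_of_algebraMap_eq_zero p O h1
  have hsurjA : Function.Surjective (PrimeSpectrum.comap (algebraMap A A')) :=
    comap_surjective_of_isIntegral hkerA
  have hclosed : IsClosedMap (PrimeSpectrum.comap (algebraMap A A')) :=
    PrimeSpectrum.isClosedMap_comap_of_isIntegral _ (algebraMap_isIntegral_iff.mpr inferInstance)
  -- `B → B'`
  let β : B →ₐ[A] B' :=
    { toFun := fun b => ⟨algebraMap B L b, (Algebra.IsIntegral.isIntegral (R := A) b).map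
        (IsScalarTower.toAlgHom A B L)⟩
      map_one' := Subtype.ext (map_one _)
      map_mul' := fun x y => Subtype.ext (map_mul _ x y)
      map_zero' := Subtype.ext (map_zero _)
      map_add' := fun x y => Subtype.ext (map_add _ x y)
      commutes' := fun a => Subtype.ext (IsScalarTower.algebraMap_apply A B L a).symm }
  let : Algebra B B' := β.toRingHom.toAlgebra
  have : IsScalarTower A B B' := IsScalarTower.of_algebraMap_eq fun a => (β.commutes a).symm
  have : Algebra.IsIntegral B B' := Algebra.IsIntegral.tower_top A
  have hβ : Function.Injective (algebraMap B B') := by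
    intro x y hxy
    exact hinjBL (congrArg Subtype.val hxy)
  obtain ⟨q', hq'⟩ := comap_surjective_of_isIntegral (R := B) (S := B') (by
    rw [(RingHom.injective_iff_ker_eq_bot _).1 hβ]
    exact bot_le) q
  rw [← hq']
  refine isOpenAt_of_square (π' := PrimeSpectrum.comap (algebraMap A' B'))
    (α := PrimeSpectrum.comap (algebraMap A A')) (PrimeSpectrum.continuous_comap _) hopen hclosed hsurjA ?_ ?_
  · intro x'
    apply PrimeSpectrum.ext
    simp only [PrimeSpectrum.comap_asIdeal, Ideal.comap_comap]
    rw [← IsScalarTower.algebraMap_eq, ← IsScalarTower.algebraMap_eq]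
  · intro y' hy'
    have h1 : (PrimeSpectrum.comap (algebraMap A A') (PrimeSpectrum.comap (algebraMap A' B') q')) =
        PrimeSpectrum.comap (algebraMap A B) q := by
      rw [← hq']
      apply PrimeSpectrum.ext
      simp only [PrimeSpectrum.comap_asIdeal, Ideal.comap_comap]
      rw [← IsScalarTower.algebraMap_eq, ← IsScalarTower.algebraMap_eq]
    have h2 := eq_comap_of_comap_eq p O hO y'.asIdeal (by
      have := congrArg PrimeSpectrum.asIdeal (hy'.trans h1)
      exact this)
    have h3 := eq_comap_of_comap_eq p O hO (PrimeSpectrum.comap (algebraMap A' B') q').asIdeal (by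
      have := congrArg PrimeSpectrum.asIdeal h1
      exact this)
    exact PrimeSpectrum.ext (h2.trans h3.symm)

end K207.UnibranchOpen
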